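import Cfsg.Agent.Lib.FusionSystem.OrderPFive.CubeFrame
import Cfsg.Agent.Lib.FusionSystem.CentralIndex
import Cfsg.Agent.Lib.FusionSystem.EssentialRankTwo

/-!
Bad essential subgroups, and the case of a centre of order `p ^ 2`.
-/

set_option autoImplicit false
set_option linter.unusedSectionVars false
set_option linter.style.haveILetI false

open Cfsg Cfsg.FusionSystem
open CfsgLib.Fsys.CentralIndex (Zc mem_Zc mem_Zc_iff_center)
open scoped commutatorElement

namespace CfsgLib.Fsys.OrderPFive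

variable {Ω : Type*} [Group Ω] {S : Subgroup Ω} [Finite S] {p : ℕ} [hp : Fact p.Prime]
  {F : FusionSystem S} {E L : Subgroup Ω} {n : Ω}

/-- Some automorphism of `E` moves the centre of `S`. -/
def Bad (F : FusionSystem S) (E : Subgroup Ω) : Prop :=
  ∃ α ∈ F.autGroup E, ∃ z ∈ Zc S, autFn α z ∉ Zc S

theorem exists_bad (h : Five p F) (hcore : F.core = ⊥) : ∃ E, F.IsEssential p E ∧ Bad F E := by
  by_contra hno
  push Not at hno
  have hZ : F.IsNormal (Zc S) := by
    refine normal_of_generators h.hS h.hF Zc_le_base ?_ ?_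
    · intro s hs
      haveI := finite_of_le_base (Zc_le_base (S := S))
      exact mem_normalizer_of_map_le fun z hz => by rwa [(mem_Zc.1 hz).2 s hs, mul_inv_cancel_right]
    · rintro P (rfl | hP)
      · refine ⟨Zc_le_base, fun α hα x hx => mem_Zc.2 ⟨autFn_mem α (Zc_le_base hx), fun y hy => ?_⟩⟩
        have hf := (mem_autGroup_iff_fn le_rfl).1 hα
        have hy' := autFn_mem α⁻¹ hy
        conv_lhs => rw [← autFn_apply_inv α hy]
        conv_rhs => rw [← autFn_apply_inv α hy]
        rw [← hf.map_mul hy' (Zc_le_base hx), ← hf.map_mul (Zc_le_base hx) hy', (mem_Zc.1 hx).2 _ hy']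
      · refine ⟨Zc_le_essential hP, fun α hα x hx => ?_⟩
        by_contra hne
        exact hno P hP ⟨α, hα, x, hx, hne⟩
  have h1 : Zc S ≤ ⊥ := hcore ▸ le_core hZ
  have h2 := one_lt_card_Zc h
  rw [le_bot_iff.1 h1, Subgroup.card_bot] at h2
  exact absurd h2 (by have := hp.out.two_le; omega)

/-- A subgroup inside which the centre is the whole centre, or the centre is the commutator line, keeps it. -/
theorem not_bad_of_char (hE : F.IsEssential p E) {A : Subgroup Ω} (hA : A = Zc S)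
    (hinv : ∀ α ∈ F.autGroup E, ∀ x ∈ A, autFn α x ∈ A) : ¬ Bad F E := by
  rintro ⟨α, hα, z, hz, hne⟩
  subst hA
  exact hne (hinv α hα z hz)

/-- A bad essential subgroup is elementary abelian of order `p ^ 2` or `p ^ 3`. -/
theorem bad_cases (h : Five p F) (hE : F.IsEssential p E) (hbad : Bad F E) :
    (∀ a ∈ E, ∀ b ∈ E, a * b = b * a) ∧ (∀ a ∈ E, a ^ p = 1) ∧
      (Nat.card E = p ^ 2 ∨ Nat.card E = p ^ 3) := by
  classical
  have hES := hE.1.1
  haveI := finite_of_le_base hES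
  have hZE := Zc_le_essential hE
  have hEp : IsPGroup p E := h.hS.to_le hES
  obtain ⟨j, hj⟩ := IsPGroup.iff_card.1 hEp
  have hj4 : j ≤ 4 := by
    have := card_lt_of_lt' le_rfl (essential_lt h.hS h.hF hE)
    rw [hj, h.card, Nat.pow_lt_pow_iff_right hp.out.one_lt] at this
    omega
  -- the centre of `E`
  have hcen : ∀ z : E, (z : Ω) ∈ Zc S → z ∈ Subgroup.center E := fun z hz =>
    Subgroup.mem_center_iff.2 fun g => Subtype.ext ((mem_Zc.1 hz).2 g (hES g.2))
  have hnotcen : ¬ Nat.card (Subgroup.center E) ≤ Nat.card (Zc S) := fun hle => by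
    obtain ⟨α, hα, z, hz, hne⟩ := hbad
    haveI := finite_of_le_base (Zc_le_base (S := S))
    have heq : (Zc S).subgroupOf E = Subgroup.center E := Subgroup.eq_of_le_of_card_ge (fun w hw => hcen w hw)
      (by rwa [Nat.card_congr (Subgroup.subgroupOfEquivOfLe hZE).toEquiv])
    apply hne
    have h1 : α ⟨z, hZE hz⟩ ∈ Subgroup.center E := Subgroup.mem_center_iff.2 fun g => by
      obtain ⟨g', rfl⟩ := α.surjective g
      rw [← map_mul, ← map_mul, Subgroup.mem_center_iff.1 (hcen ⟨z, hZE hz⟩ hz) g']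
    rw [← heq, Subgroup.mem_subgroupOf, ← autFn_coe] at h1
    exact h1
  haveI hEnt : Nontrivial E := by
    have h1 := one_lt_card_Zc h
    have h2 := Subgroup.card_le_of_le hZE
    exact Finite.one_lt_card_iff_nontrivial.1 (lt_of_lt_of_le hp.out.one_lt (h1.trans h2))
  have hab : ∀ a ∈ E, ∀ b ∈ E, a * b = b * a := by
    by_contra hna
    push Not at hna
    obtain ⟨a, ha, b, hb, hab⟩ := hna
    have hnc : ¬ IsMulCommutative E := fun hc => hab (congrArg Subtype.val (hc.1.1 ⟨a, ha⟩ ⟨b, hb⟩))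
    -- the centre has index at least `p ^ 2`
    obtain ⟨i, hi⟩ := IsPGroup.iff_card.1 (hEp.to_subgroup (Subgroup.center E))
    have hidx : p ^ 2 ≤ (Subgroup.center E).index := by
      obtain ⟨l, hl⟩ := hEp.index (Subgroup.center E)
      rw [hl]
      refine Nat.pow_le_pow_right hp.out.pos ?_
      by_contra hlt
      refine hnc ?_
      haveI : IsCyclic (E ⧸ Subgroup.center E) := by
        rcases (show l = 0 ∨ l = 1 by omega) with rfl | rfl
        · rw [pow_zero, Subgroup.index_eq_card] at hl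
          haveI := (Nat.card_eq_one_iff_unique.1 hl).1
          infer_instance
        · rw [pow_one, Subgroup.index_eq_card] at hl
          exact isCyclic_of_prime_card hl
      exact ⟨⟨fun x y => commutative_of_cyclic_center_quotient (QuotientGroup.mk' (Subgroup.center E))
        (by rw [QuotientGroup.ker_mk']) x y⟩⟩
    have hmul := Subgroup.card_mul_index (Subgroup.center E)
    rw [hj, hi] at hmul
    have hi2 : i + 2 ≤ j := by
      have : p ^ (i + 2) ≤ p ^ j := by rw [← hmul, pow_add]; exact Nat.mul_le_mul_left _ hidx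
      exact (Nat.pow_le_pow_iff_right hp.out.one_lt).1 this
    have hZ1 := one_lt_card_Zc h
    rw [hi] at hnotcen
    haveI := finite_of_le_base (Zc_le_base (S := S))
    obtain ⟨zc, hzc⟩ := IsPGroup.iff_card.1 (h.hS.to_le (Zc_le_base (S := S)))
    rw [hzc] at hZ1 hnotcen
    have hzc1 : 1 ≤ zc := by
      by_contra h0
      rw [show zc = 0 by omega, pow_zero] at hZ1
      exact absurd hZ1 (by have := hp.out.two_le; omega)
    have hlt : zc < i := by
      by_contra hge
      exact hnotcen (Nat.pow_le_pow_right hp.out.pos (by omega))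
    -- so `E` has order `p ^ 4` and centre of order `p ^ 2`
    obtain ⟨rfl, rfl, rfl⟩ : i = 2 ∧ j = 4 ∧ zc = 1 := by omega
    have hc2 : (Subgroup.center E).index = p ^ 2 := by
      rw [show (4 : ℕ) = 2 + 2 from rfl, pow_add] at hmul
      exact Nat.eq_of_mul_eq_mul_left (pow_pos hp.out.pos 2) hmul
    set x₀ : E := ⟨a, ha⟩
    set y₀ : E := ⟨b, hb⟩
    have hxy : x₀ * y₀ ≠ y₀ * x₀ := fun e => hab (congrArg Subtype.val e)
    set w : E := ⁅x₀, y₀⁆
    have hw1 : w ≠ 1 := fun e => hxy (commutatorElement_eq_one_iff_mul_comm.1 e)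
    have hwp : w ^ p = 1 := CentralIndex.comm_pow_p hc2 ⟨x₀, y₀, hxy⟩ x₀ y₀
    set A := (commutator E).map E.subtype
    have hEn : ∀ s ∈ S, ∀ v ∈ E, s * v * s⁻¹ ∈ E := by
      intro s hs v hv
      haveI : (E.subgroupOf S).Normal := by
        refine Subgroup.normal_of_index_eq_minFac_card ?_
        rw [h.card, hp.out.pow_minFac (by norm_num)]
        have := Subgroup.card_mul_index (E.subgroupOf S)
        rw [Nat.card_congr (Subgroup.subgroupOfEquivOfLe hES).toEquiv, hj, h.card, pow_succ p 4] at this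
        exact Nat.eq_of_mul_eq_mul_left (pow_pos hp.out.pos 4) this
      have := ‹(E.subgroupOf S).Normal›.conj_mem ⟨v, hES hv⟩ hv ⟨s, hs⟩
      simpa [Subgroup.mem_subgroupOf] using this
    have hAc : commutator E ≤ Subgroup.zpowers w := by
      rw [commutator_def, Subgroup.commutator_le]
      intro u _ v _
      exact CentralIndex.comm_mem_zpowers hc2 hxy u v
    have hwA : Subgroup.zpowers w ≤ commutator E := Subgroup.zpowers_le.2 (by
      rw [commutator_def]
      exact Subgroup.commutator_mem_commutator (Subgroup.mem_top _) (Subgroup.mem_top _))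
    have hAcard : Nat.card A = p := by
      rw [Subgroup.card_map_of_injective E.subtype_injective, le_antisymm hAc hwA, Nat.card_zpowers,
        orderOf_eq_prime hwp hw1]
    have hAZ : A = Zc S := by
      refine Subgroup.eq_of_le_of_card_ge (small_normal_le_Zc h.hS ((Subgroup.map_subtype_le _).trans hES)
        hAcard.le ?_) (by rw [hAcard, hzc, pow_one])
      rintro s hs _ ⟨d, hd, rfl⟩
      have hsE : s ∈ Subgroup.normalizer (E : Set Ω) := mem_normalizer_of_map_le (hEn s hs)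
      exact ⟨conjAut E hsE d, (Subgroup.characteristic_iff_map_le.1 inferInstance (conjAut E hsE)) ⟨d, hd, rfl⟩,
        conjAut_coe hsE d⟩
    refine not_bad_of_char hE hAZ (fun α hα x hx => ?_) hbad
    obtain ⟨d, hd, rfl⟩ := hx
    exact ⟨α d, (Subgroup.characteristic_iff_map_le.1 inferInstance α) ⟨d, hd, rfl⟩, (autFn_coe α d).symm⟩
  have hj2 : 2 ≤ j := by
    -- otherwise `E` is central
    by_contra hlt
    apply hnotcen
    rw [(show Subgroup.center E = ⊤ from eq_top_iff.2 fun g _ => Subgroup.mem_center_iff.2 fun g' =>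
      Subtype.ext (hab g' g'.2 g g.2)), Subgroup.card_top, hj]
    exact le_trans (Nat.pow_le_pow_right hp.out.pos (by omega : j ≤ 1)) ((pow_one p).le.trans (one_lt_card_Zc h))
  have hj3 : j ≤ 3 := by
    by_contra hgt
    have := h.noAb E hES hab
    rw [hj] at this
    exact absurd ((Nat.pow_lt_pow_iff_right hp.out.one_lt).1 this) (by omega)
  rcases (show j = 2 ∨ j = 3 by omega) with rfl | rfl
  · exact ⟨hab, fun a ha => (essential_order_prime_sq hE hj).1.2 a ha, Or.inl hj⟩
  · obtain ⟨-, -, hexp⟩ := cube_elementary h.hS h.hF h.hp2 hE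
      (by rw [hj]; exact Nat.pow_lt_pow_right hp.out.one_lt (by norm_num)) (by
        rintro (⟨h2, -⟩ | ⟨-, hx, -⟩)
        · rw [hj] at h2
          exact absurd (Nat.pow_right_injective hp.out.two_le h2) (by norm_num)
        · have h4 := hx.2
          rw [(show Subgroup.center E = ⊤ from eq_top_iff.2 fun g _ => Subgroup.mem_center_iff.2 fun g' =>
            Subtype.ext (hab g' g'.2 g g.2)), Subgroup.card_top, hj] at h4
          exact absurd (Nat.pow_right_injective hp.out.two_le (h4.trans (pow_one p).symm)) (by norm_num))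
    exact ⟨hab, hexp, Or.inr hj⟩

variable {C : Subgroup Ω} {a : Ω} {K : Subgroup Ω} {s k : Ω}

theorem Frame.comm_ne (h : Five p F) (c : Cube p F E L n) (f : Frame h c C a K s k) : ⁅k, a⁆ ≠ 1 := by
  intro e
  refine f.knot (centralizer_le_of_centric c.ess.1 (mem_centralizerIn.2 ⟨(f.KN f.kmem).1, fun x hx => ?_⟩))
  have hle : Subgroup.zpowers a ⊔ L ≤ Subgroup.centralizer {k} :=
    sup_le (Subgroup.zpowers_le.2 (Subgroup.mem_centralizer_singleton_iff.2
      (commutatorElement_eq_one_iff_mul_comm.1 e).symm))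
      fun l hl => Subgroup.mem_centralizer_singleton_iff.2 (c.L_comm h hl (f.KN f.kmem)).symm
  have hsub : Subgroup.zpowers a ⊔ L ≤ E := sup_le (Subgroup.zpowers_le.2 f.amem) c.le
  haveI := finite_of_le_base c.ess.1.1
  haveI := finite_of_le_base (hsub.trans c.ess.1.1)
  have heq : Subgroup.zpowers a ⊔ L = E := Subgroup.eq_of_le_of_card_ge hsub (by
    obtain ⟨i, hi⟩ := IsPGroup.iff_card.1 (h.hS.to_le (hsub.trans c.ess.1.1))
    have h3 := card_lt_of_lt' (hsub.trans c.ess.1.1) (lt_of_le_not_ge (le_sup_right : L ≤ Subgroup.zpowers a ⊔ L)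
      fun e => f.anot (e (Subgroup.mem_sup_left (Subgroup.mem_zpowers a))))
    rw [c.Lcard, hi, Nat.pow_lt_pow_iff_right hp.out.one_lt] at h3
    rw [c.card, hi]
    exact Nat.pow_le_pow_right hp.out.pos h3)
  exact Subgroup.mem_centralizer_singleton_iff.1 (hle (heq.ge hx))

theorem Frame.sup_eq (h : Five p F) (c : Cube p F E L n) (f : Frame h c C a K s k) : c.D h ⊔ C = L := by
  have hLS := c.le.trans c.ess.1.1
  haveI := finite_of_le_base (f.CL.trans hLS)
  haveI := finite_of_le_base hLS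
  have hle : c.D h ⊔ C ≤ L := sup_le (c.D_le h) f.CL
  haveI := finite_of_le_base (hle.trans hLS)
  refine Subgroup.eq_of_le_of_card_ge hle ?_
  obtain ⟨i, hi⟩ := IsPGroup.iff_card.1 (h.hS.to_le (hle.trans hLS))
  have h3 := card_lt_of_lt' (hle.trans hLS) (lt_of_le_not_ge (le_sup_left : c.D h ≤ c.D h ⊔ C) fun e => by
    have hCD : C ≤ c.D h := le_sup_right.trans e
    haveI : Nontrivial C := Finite.one_lt_card_iff_nontrivial.1 (by rw [f.Ccard]; exact hp.out.one_lt)
    obtain ⟨x, hx⟩ := exists_ne (1 : C)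
    exact hx (Subtype.ext (f.disjoint x (hCD x.2) x.2)))
  rw [c.card_D h, hi, ← pow_one p, ← pow_mul, one_mul, Nat.pow_lt_pow_iff_right hp.out.one_lt] at h3
  rw [c.Lcard, hi]
  exact Nat.pow_le_pow_right hp.out.pos h3

/-- The centre cannot have order `p ^ 2`. -/
theorem false_of_centre_sq (h : Five p F) (hcore : F.core = ⊥) (hZ : Nat.card (Zc S) = p ^ 2) : False := by
  classical
  haveI := finite_of_le_base (Zc_le_base (S := S))
  have data : ∀ E, F.IsEssential p E → Bad F E → ∃ (n : Ω) (c : Cube p F E (Zc S) n) (C : Subgroup Ω) (a : Ω)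
      (K : Subgroup Ω) (s k : Ω), Frame h c C a K s k := by
    intro E hE hbad
    obtain ⟨hab, hexp, hc2 | hc3⟩ := bad_cases h hE hbad
    · haveI := finite_of_le_base hE.1.1
      have heq : Zc S = E := Subgroup.eq_of_le_of_card_ge (Zc_le_essential hE) (by rw [hc2, hZ])
      exfalso
      refine (essential_lt h.hS h.hF hE).not_ge fun x hx => centralizer_le_of_centric hE.1
        (mem_centralizerIn.2 ⟨hx, fun y hy => ?_⟩)
      have := (mem_Zc.1 (heq.ge hy)).2 x hx
      exact this.symm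
    · obtain ⟨L, n, c, hZL⟩ := exists_cube h hE hc3 hab hexp
      haveI := finite_of_le_base (c.le.trans hE.1.1)
      obtain rfl : Zc S = L := Subgroup.eq_of_le_of_card_ge hZL (by rw [c.Lcard, hZ])
      obtain ⟨α, hα, z, hz, hne⟩ := hbad
      obtain ⟨C, a, K, s, k, f⟩ := c.exists_frame h le_rfl hα hz hne
      exact ⟨n, c, C, a, K, s, k, f⟩
  obtain ⟨E, hE, hbad⟩ := exists_bad h hcore
  obtain ⟨n, c, C, a, K, s, k, f⟩ := data E hE hbad
  set D := c.D h
  have hDeq : ∀ {E' : Subgroup Ω} {n' : Ω} (c' : Cube p F E' (Zc S) n') {C' : Subgroup Ω} {a' : Ω}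
      {K' : Subgroup Ω} {s' k' : Ω}, Frame h c' C' a' K' s' k' → c'.D h = D := by
    intro E' n' c' C' a' K' s' k' f'
    have hmem : ⁅k', a'⁆ ∈ D := f.KS k' ((f.second k').1 ((f'.second k').2 f'.kmem)) a' (c'.ess.1.1 f'.amem)
    haveI := finite_of_le_base ((c'.D_le h).trans (Zc_le_base (S := S)))
    haveI := finite_of_le_base ((c.D_le h).trans (Zc_le_base (S := S)))
    have hD' : Subgroup.zpowers ⁅k', a'⁆ = c'.D h := by
      have hin := c'.comm_mem_D h (f'.KN f'.kmem) f'.amem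
      refine Subgroup.eq_of_le_of_card_ge (Subgroup.zpowers_le.2 hin) ?_
      rw [Nat.card_zpowers, c'.card_D h, orderOf_eq_prime (c'.exp _ (c'.le (c'.D_le h hin))) (f'.comm_ne h c')]
    exact Subgroup.eq_of_le_of_card_ge (hD' ▸ Subgroup.zpowers_le.2 hmem) (by rw [c.card_D h, c'.card_D h])
  have hDS : D ≤ S := (c.D_le h).trans Zc_le_base
  have hCS : C ≤ S := f.CL.trans Zc_le_base
  -- maps inverting the shift image and fixing the quotient agree on the centre
  obtain ⟨β, hβ, -, -, -, hβC, -, hβL, hβD, -⟩ := f.torus (-1) (-1) ⟨0, by ring⟩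
  let Inv : MulAut S → Prop := fun γ => γ ∈ F.autGroup S ∧ (∀ z ∈ D, autFn γ z = z ^ (-1 : ℤ)) ∧
    ∀ z ∈ Zc S, z⁻¹ * autFn γ z ∈ D
  have hfn : ∀ {γ : MulAut S}, γ ∈ F.autGroup S → Fn F S (autFn γ) := fun hγ => (mem_autGroup_iff_fn le_rfl).1 hγ
  have agree : ∀ γ γ', Inv γ → Inv γ' → ∀ z ∈ Zc S, autFn γ z = autFn γ' z := by
    intro γ γ' hγ hγ' z hz
    have key : ∀ η, Inv η → ∀ z ∈ Zc S, autFn γ (autFn η z) = z := by
      intro η hη z hz
      have h1 : ∀ w ∈ Zc S, autFn η w ∈ Zc S := fun w hw => by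
        have := (Zc S).mul_mem hw (c.D_le h (hη.2.2 w hw))
        rwa [mul_inv_cancel_left] at this
      rw [← autFn_mul γ η (Zc_le_base hz)]
      refine unipotent_Zc h.hS h.hF (mul_mem hγ.1 hη.1) D (c.D_le h) (fun w hw => ?_) (fun w hw => ?_) hz
      · rw [autFn_mul _ _ (hDS hw), hη.2.1 w hw, hγ.2.1 _ (D.zpow_mem hw _)]
        simp
      · rw [autFn_mul _ _ (Zc_le_base hw)]
        have := D.mul_mem (hη.2.2 w hw) (hγ.2.2 _ (h1 w hw))
        rwa [mul_assoc, mul_inv_cancel_left] at this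
    have e1 := key γ hγ z hz
    have e2 := key γ' hγ' z hz
    exact (hfn hγ.1).inj (autFn_mem _ (Zc_le_base hz)) (autFn_mem _ (Zc_le_base hz)) (e1.trans e2.symm)
  have inv_of_frame : ∀ {E' : Subgroup Ω} {n' : Ω} (c' : Cube p F E' (Zc S) n') {C' : Subgroup Ω} {a' : Ω}
      {K' : Subgroup Ω} {s' k' : Ω}, Frame h c' C' a' K' s' k' → ∀ γ ∈ F.autGroup S,
      (∀ x ∈ C', autFn γ x = x) → (∀ z ∈ c'.D h, autFn γ z = z ^ (-1 : ℤ)) → Inv γ := by
    intro E' n' c' C' a' K' s' k' f' γ hγ hC hD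
    rw [hDeq c' f'] at hD
    refine ⟨hγ, hD, fun z hz => ?_⟩
    let R : Subgroup Ω :=
      { carrier := {x | x ∈ Zc S ∧ x⁻¹ * autFn γ x ∈ D}
        one_mem' := ⟨one_mem _, by rw [(hfn hγ).map_one]; simp⟩
        mul_mem' := fun {u v} hu hv => ⟨mul_mem hu.1 hv.1, by
          rw [(hfn hγ).map_mul (Zc_le_base hu.1) (Zc_le_base hv.1)]
          have hc := (mem_Zc.1 (c.D_le h hu.2)).2 v⁻¹ (S.inv_mem (Zc_le_base hv.1))
          have e : (u * v)⁻¹ * (autFn γ u * autFn γ v) = u⁻¹ * autFn γ u * (v⁻¹ * autFn γ v) := by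
            calc (u * v)⁻¹ * (autFn γ u * autFn γ v) = v⁻¹ * (u⁻¹ * autFn γ u) * autFn γ v := by group
              _ = u⁻¹ * autFn γ u * (v⁻¹ * autFn γ v) := by rw [hc]; group
          rw [e]
          exact mul_mem hu.2 hv.2⟩
        inv_mem' := fun {u} hu => ⟨inv_mem hu.1, by
          rw [(hfn hγ).map_inv (Zc_le_base hu.1), inv_inv]
          have hc := (mem_Zc.1 (c.D_le h (inv_mem hu.2))).2 u (Zc_le_base hu.1)
          have e : u * (autFn γ u)⁻¹ = (u⁻¹ * autFn γ u)⁻¹ := by
            calc u * (autFn γ u)⁻¹ = u * (u⁻¹ * autFn γ u)⁻¹ * u⁻¹ := by group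
              _ = (u⁻¹ * autFn γ u)⁻¹ := by rw [hc, mul_inv_cancel_right]
          rw [e]
          exact inv_mem hu.2⟩ }
    have hR : c'.D h ⊔ C' ≤ R := sup_le (fun x hx => by
      rw [hDeq c' f'] at hx
      refine ⟨c.D_le h hx, ?_⟩
      rw [hD x hx]
      exact mul_mem (inv_mem hx) (zpow_mem hx _)) fun x hx => ⟨f'.CL hx, by rw [hC x hx]; simp⟩
    exact (hR ((f'.sup_eq h c').ge hz)).2
  have hInvβ : Inv β := inv_of_frame c f β hβ hβC hβD
  have hfix : ∀ z ∈ Zc S, autFn β z = z → z ∈ C := by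
    intro z hz hzf
    have h1 := hβL z hz
    rw [hzf, zpow_neg, inv_inv, zpow_one] at h1
    have hzp : z ^ p = 1 := c.exp z (c.le hz)
    obtain ⟨r, hr⟩ := hp.out.odd_of_ne_two h.hp2
    have e : z = (z * z) ^ (r + 1) := by
      rw [← pow_two, ← pow_mul, show 2 * (r + 1) = p + 1 by omega, pow_succ, hzp, one_mul]
    rw [e]
    exact C.pow_mem h1 _
  -- invariance under `Aut_F(S)`
  have hZmap : ∀ σ ∈ F.autGroup S, ∀ z ∈ Zc S, autFn σ z ∈ Zc S := fun σ hσ z hz =>
    mem_Zc.2 ⟨autFn_mem σ (Zc_le_base hz), fun y hy => by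
      have hy' := autFn_mem σ⁻¹ hy
      conv_lhs => rw [← autFn_apply_inv σ hy]
      conv_rhs => rw [← autFn_apply_inv σ hy]
      rw [← (hfn hσ).map_mul hy' (Zc_le_base hz), ← (hfn hσ).map_mul (Zc_le_base hz) hy', (mem_Zc.1 hz).2 _ hy']⟩
  have hσD : ∀ σ ∈ F.autGroup S, ∀ z ∈ D, autFn σ z ∈ D := by
    intro σ hσ
    haveI := finite_of_le_base hDS
    have hin := c.comm_mem_D h (f.KN f.kmem) f.amem
    have hk := f.KN f.kmem
    have haS : a ∈ S := c.ess.1.1 f.amem
    have hD : Subgroup.zpowers ⁅k, a⁆ = D := Subgroup.eq_of_le_of_card_ge (Subgroup.zpowers_le.2 hin) (by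
      rw [Nat.card_zpowers, c.card_D h, orderOf_eq_prime (c.exp _ (c.le (c.D_le h hin))) (f.comm_ne h c)])
    have himg : autFn σ ⁅k, a⁆ ∈ D := by
      have := f.KS _ ((f.second _).1 (((f.second k).2 f.kmem).map hσ)) _ (autFn_mem σ haS)
      rw [commutatorElement_def, (hfn hσ).map_mul (S.mul_mem (S.mul_mem hk.1 haS) (S.inv_mem hk.1)) (S.inv_mem haS),
        (hfn hσ).map_conj hk.1 haS, (hfn hσ).map_inv haS]
      simpa [commutatorElement_def] using this
    intro z hz
    obtain ⟨i, rfl⟩ := Subgroup.mem_zpowers_iff.1 (hD.ge hz)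
    rw [show autFn σ (⁅k, a⁆ ^ i) = autFn σ ⁅k, a⁆ ^ i by
      rw [← SubgroupClass.coe_zpow (⟨⁅k, a⁆, hDS hin⟩ : S) i, autFn_coe, autFn_coe σ ⟨⁅k, a⁆, hDS hin⟩, map_zpow,
        SubgroupClass.coe_zpow]]
    exact D.zpow_mem himg i
  have hσC : ∀ σ ∈ F.autGroup S, ∀ x ∈ C, autFn σ x ∈ C := by
    intro σ hσ x hx
    have hxS := hCS hx
    refine hfix _ (hZmap σ hσ x (f.CL hx)) ?_
    have hI : Inv (σ * β * σ⁻¹) := by
      refine ⟨mul_mem (mul_mem hσ hβ) (inv_mem hσ), fun z hz => ?_, fun z hz => ?_⟩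
      · have hz' := hσD _ (inv_mem hσ) z hz
        rw [autFn_mul _ _ (hDS hz), autFn_mul _ _ (hDS hz'), hβD _ hz', zpow_neg_one,
          (hfn hσ).map_inv (hDS hz'), autFn_apply_inv _ (hDS hz), zpow_neg_one]
      · have hzS := Zc_le_base hz
        have hz' := hZmap _ (inv_mem hσ) z hz
        rw [autFn_mul _ _ hzS, autFn_mul _ _ (Zc_le_base hz')]
        have := hσD σ hσ _ (hInvβ.2.2 _ hz')
        rwa [(hfn hσ).map_mul (S.inv_mem (Zc_le_base hz')) (autFn_mem β (Zc_le_base hz')),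
          (hfn hσ).map_inv (Zc_le_base hz'), autFn_apply_inv _ hzS] at this
    rw [agree β _ hInvβ hI _ (hZmap σ hσ x (f.CL hx)), autFn_mul _ _ (autFn_mem σ hxS), autFn_inv_apply _ hxS,
      autFn_mul _ _ hxS, hβC x hx]
  -- invariance under essential automizers
  have hnormal : F.IsNormal C := by
    refine normal_of_generators h.hS h.hF hCS ?_ ?_
    · intro t ht
      haveI := finite_of_le_base hCS
      exact mem_normalizer_of_map_le fun z hz => by
        rwa [(mem_Zc.1 (f.CL hz)).2 t ht, mul_inv_cancel_right]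
    · rintro P (rfl | hP)
      · exact ⟨hCS, hσC⟩
      refine ⟨f.CL.trans (Zc_le_essential hP), fun α hα x hx => ?_⟩
      by_cases hPbad : Bad F P
      · obtain ⟨n', c', C', a', K', s', k', f'⟩ := data P hP hPbad
        obtain ⟨β', hβ', -, -, -, hβ'C, -, hβ'L, hβ'D, -⟩ := f'.torus (-1) (-1) ⟨0, by ring⟩
        have hI' := inv_of_frame c' f' β' hβ' hβ'C hβ'D
        have hC'C : ∀ w ∈ C', w ∈ C := fun w hw => hfix w (f'.CL hw) (by
          rw [agree β β' hInvβ hI' w (f'.CL hw), hβ'C w hw])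
        haveI := finite_of_le_base hCS
        have hCC' : C' = C := Subgroup.eq_of_le_of_card_ge hC'C (by rw [f.Ccard, f'.Ccard])
        rw [← hCC'] at hx ⊢
        exact f'.Cinv α hα x hx
      · have hZP : ∀ z ∈ Zc S, autFn α z ∈ Zc S := fun z hz => by
          by_contra hne
          exact hPbad ⟨α, hα, z, hz, hne⟩
        obtain ⟨σ, hσ, he⟩ := exists_ext_Zc h.hS h.hF hP.1.1 (Zc_le_essential hP) hα hZP
        rw [← he x (f.CL hx)]
        exact hσC σ hσ x hx
  have h1 : C ≤ ⊥ := hcore ▸ le_core hnormal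
  have h2 := f.Ccard
  rw [le_bot_iff.1 h1, Subgroup.card_bot] at h2
  exact hp.out.one_lt.ne h2

end CfsgLib.Fsys.OrderPFive
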