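import Cfsg.Agent.Lib.FusionSystem.OrderPFive.Step
import Cfsg.Agent.Lib.FusionSystem.TransvectionEmbedded

/-!
Essential elementary abelian subgroups of order `p ^ 3`: normalizer, transvection, invariant point and torus.
-/

set_option autoImplicit false
set_option linter.unusedSectionVars false
set_option linter.style.haveILetI false

open Cfsg Cfsg.FusionSystem
open CfsgLib.Fsys.CentralIndex (Zc mem_Zc mem_Zc_iff_center)
open scoped commutatorElement

namespace CfsgLib.Fsys.OrderPFive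

variable {Ω : Type*} [Group Ω] {S : Subgroup Ω} [Finite S] {p : ℕ} [hp : Fact p.Prime]
  {F : FusionSystem S} {E L : Subgroup Ω} {n : Ω}

theorem card_lt_of_lt' {A B : Subgroup Ω} (hB : B ≤ S) (h : A < B) : Nat.card A < Nat.card B := by
  haveI := finite_of_le_base hB
  exact (Subgroup.card_le_of_le h.le).lt_of_ne fun e => h.ne (Subgroup.eq_of_le_of_card_ge h.le e.ge)

/-- The shift attached to `n`. -/
abbrev delta (n x : Ω) : Ω := x⁻¹ * (n * x * n⁻¹)

/-- An elementary essential subgroup with normalizer `⟨n⟩ E` of order `p ^ 4` whose fixed hyperplane is `L`. -/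
structure Cube (p : ℕ) (F : FusionSystem S) (E L : Subgroup Ω) (n : Ω) : Prop where
  ess : F.IsEssential p E
  card : Nat.card E = p ^ 3
  comm : ∀ a ∈ E, ∀ b ∈ E, a * b = b * a
  exp : ∀ a ∈ E, a ^ p = 1
  Ncard : Nat.card (normalizerIn S E) = p ^ 4
  le : L ≤ E
  Lcard : Nat.card L = p ^ 2
  Lnormal : ∀ s ∈ S, ∀ l ∈ L, s * l * s⁻¹ ∈ L
  mem : n ∈ normalizerIn S E
  not_mem : n ∉ E
  fix : ∀ x ∈ E, n * x = x * n ↔ x ∈ L

/-- An elementary essential subgroup with a normalized fixed hyperplane has a normalizer of order `p ^ 4`. -/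
theorem card_normalizerIn_le (hS : IsPGroup p S) (hE : F.IsEssential p E) (hEc : Nat.card E = p ^ 3)
    (hcomm : ∀ a ∈ E, ∀ b ∈ E, a * b = b * a) (hexp : ∀ a ∈ E, a ^ p = 1) (hLE : L ≤ E)
    (hLc : Nat.card L = p ^ 2) (hn : n ∈ normalizerIn S E)
    (hLn : ∀ y ∈ normalizerIn S E, ∀ l ∈ L, y * l * y⁻¹ ∈ L) (hfix : ∀ x ∈ E, n * x = x * n ↔ x ∈ L) :
    Nat.card (normalizerIn S E) ≤ p ^ 4 := by
  haveI := finite_of_le_base hE.1.1
  haveI := finite_of_le_base (normalizerIn_le (S := S) (P := E))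
  obtain ⟨-, -, hinnN, Y₀, hY₀⟩ := id hE
  set A := F.autGroup E
  have hinn : (Inn E).subgroupOf A = ⊥ := by
    refine (Subgroup.eq_bot_iff_forall _).2 fun a ha => Subtype.ext ?_
    obtain ⟨e, he⟩ := Subgroup.mem_subgroupOf.1 ha
    rw [← he]
    refine MulEquiv.ext fun x => Subtype.ext ?_
    show (e : Ω) * x * (e : Ω)⁻¹ = x
    rw [hcomm e e.2 x x.2, mul_inv_cancel_right]
  let act : (A ⧸ (Inn E).subgroupOf A) →* MulAut E :=
    QuotientGroup.lift _ A.subtype fun a ha => by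
      rw [hinn, Subgroup.mem_bot] at ha
      simp [ha]
  have hinj : Function.Injective act := by
    rintro ⟨a⟩ ⟨b⟩ he
    exact congrArg QuotientGroup.mk (Subtype.ext he : a = b)
  let ψ₀ : normalizerIn S E →* A :=
    (E.normalizerMonoidHom.comp (Subgroup.inclusion inf_le_right)).codRestrict A fun y =>
      autInducedBy_le_autGroup hE.1.1 (conjAut_mem_autInducedBy y.2.2 y.2.1)
  let ψ := (QuotientGroup.mk' ((Inn E).subgroupOf A)).comp ψ₀
  have hψ : ∀ (y : normalizerIn S E) (x : E), ((act (ψ y) x : E) : Ω) = (y : Ω) * x * (y : Ω)⁻¹ :=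
    fun y x => rfl
  have hP : IsPGroup p ψ.range := (hS.to_le normalizerIn_le).of_surjective ψ.rangeRestrict ψ.rangeRestrict_surjective
  have hker : Nat.card ψ.ker ≤ p ^ 3 := by
    rw [← hEc]
    refine Nat.card_le_card_of_injective (fun y => (⟨((y : normalizerIn S E) : Ω), ?_⟩ : E)) fun a b hab =>
      Subtype.ext (Subtype.ext (congrArg Subtype.val hab :))
    refine centralizer_le_of_centric hE.1 (mem_centralizerIn.2 ⟨y.1.2.1, fun x hx => ?_⟩)
    have := hψ y.1 ⟨x, hx⟩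
    rw [MonoidHom.mem_ker.1 y.2, map_one, MulAut.one_apply] at this
    exact (mul_inv_eq_iff_eq_mul.1 this.symm).symm
  have hfix' : ∀ x : E, act (ψ ⟨n, hn⟩) x = x ↔ x ∈ L.subgroupOf E := fun x => by
    rw [Subgroup.mem_subgroupOf, ← hfix x x.2, Subtype.ext_iff, hψ, mul_inv_eq_iff_eq_mul]
  have hK : Nat.card (L.subgroupOf E) = p ^ 2 := by
    rw [Nat.card_congr (Subgroup.subgroupOfEquivOfLe hLE).toEquiv, hLc]
  have hPK : ∀ y ∈ ψ.range, ∀ k ∈ L.subgroupOf E, act y k ∈ L.subgroupOf E := by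
    rintro _ ⟨y, rfl⟩ k hk
    rw [Subgroup.mem_subgroupOf] at hk ⊢
    rw [hψ]
    exact hLn y y.2 k hk
  obtain ⟨hle, -⟩ := Transvection.main hEc (fun a b => Subtype.ext (hcomm a a.2 b b.2))
    (fun a => Subtype.ext (by simpa using hexp a a.2)) act hinj hY₀ hP (t := ψ ⟨n, hn⟩) ⟨_, rfl⟩ hK hfix' hPK
  have := Subgroup.card_mul_index ψ.ker
  rw [Subgroup.index_ker] at this
  rw [← this, pow_succ p 3]
  exact Nat.mul_le_mul hker hle

/-- Elements outside an essential abelian subgroup fix a proper subgroup. -/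
theorem not_all_fixed (hE : F.IsEssential p E) {n : Ω} (hn : n ∈ S) (hnE : n ∉ E) :
    ∃ x ∈ E, ¬ n * x = x * n := by
  by_contra hno
  push Not at hno
  exact hnE (centralizer_le_of_centric hE.1 (mem_centralizerIn.2 ⟨hn, fun x hx => (hno x hx).symm⟩))

/-- An abelian elementary essential subgroup of order `p ^ 3` gives a cube. -/
theorem exists_cube (h : Five p F) (hE : F.IsEssential p E) (hEc : Nat.card E = p ^ 3)
    (hcomm : ∀ a ∈ E, ∀ b ∈ E, a * b = b * a) (hexp : ∀ a ∈ E, a ^ p = 1) :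
    ∃ (L : Subgroup Ω) (n : Ω), Cube p F E L n ∧ Zc S ≤ L := by
  haveI := finite_of_le_base hE.1.1
  set N := normalizerIn S E with hN
  have hNS : N ≤ S := normalizerIn_le
  haveI := finite_of_le_base hNS
  have hEN : E ≤ N := le_normalizerIn hE.1.1
  have hlt : E < N := lt_normalizerIn h.hS (essential_lt h.hS h.hF hE)
  have hNne : Nat.card N ≤ p ^ 4 := by
    by_contra hbig
    -- otherwise `E` is normal and a normal hyperplane has a transvection
    obtain ⟨j, hj⟩ := IsPGroup.iff_card.1 (h.hS.to_le hNS)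
    have hNS' : N = S := Subgroup.eq_of_le_of_card_ge hNS (by
      rw [h.card, hj]
      rw [hj] at hbig
      exact Nat.pow_le_pow_right hp.out.pos (by
        by_contra h5
        exact hbig (Nat.pow_le_pow_right hp.out.pos (by omega))))
    have hEn : ∀ s ∈ S, ∀ x ∈ E, s * x * s⁻¹ ∈ E := fun s hs x hx => by
      have : s ∈ N := by rw [hNS']; exact hs
      exact (Subgroup.mem_normalizer_iff.1 this.2 x).1 hx
    obtain ⟨H₁, h1a, h1b, h1c, h1n, -⟩ := exists_normal_step h.hS hE.1.1 (A := ⊥) (bot_lt_iff_ne_bot.2 fun e => by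
      rw [e, Subgroup.card_bot] at hEc
      exact absurd hEc.symm (Nat.one_lt_pow (by norm_num) hp.out.one_lt).ne')
      (fun s _ a ha => by rw [Subgroup.mem_bot.1 ha]; simp) hEn
    rw [Subgroup.card_bot, mul_one] at h1c
    obtain ⟨H, h2a, h2b, h2c, h2n, h2s⟩ := exists_normal_step h.hS hE.1.1 (A := H₁) (lt_of_le_of_ne h1b fun e => by
      rw [e, hEc] at h1c
      exact absurd (Nat.pow_right_injective hp.out.two_le (h1c.trans (pow_one p).symm)) (by norm_num)) h1n hEn
    rw [h1c, ← sq] at h2c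
    have h1Z : H₁ ≤ Zc S := small_normal_le_Zc h.hS (h1b.trans hE.1.1) h1c.le h1n
    haveI := finite_of_le_base (h2b.trans hE.1.1)
    -- the centralizer of `H` is large
    obtain ⟨b, hb, hbH⟩ : ∃ b ∈ H, b ∉ H₁ := SetLike.exists_of_lt (lt_of_le_of_ne h2a fun e => by
      rw [← e, h1c] at h2c
      exact absurd (Nat.pow_right_injective hp.out.two_le ((pow_one p).trans h2c)) (by norm_num))
    have hval : ∀ s : S, b⁻¹ * ((s : Ω) * b * (s : Ω)⁻¹) ∈ H₁ := fun s => h2s b hb s s.2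
    let φ : S →* H₁ := MonoidHom.mk' (fun s => ⟨_, hval s⟩) fun s s' => Subtype.ext (by
      show b⁻¹ * (((s : Ω) * s') * b * ((s : Ω) * s')⁻¹) = b⁻¹ * (s * b * (s : Ω)⁻¹) * (b⁻¹ * (s' * b * (s' : Ω)⁻¹))
      have hc := (mem_Zc.1 (h1Z (hval s'))).2 (s : Ω) s.2
      calc b⁻¹ * (((s : Ω) * s') * b * ((s : Ω) * s')⁻¹)
          = b⁻¹ * s * b * (b⁻¹ * (s' * b * (s' : Ω)⁻¹)) * (s : Ω)⁻¹ := by group
        _ = b⁻¹ * s * b * ((s : Ω)⁻¹ * (s * (b⁻¹ * (s' * b * (s' : Ω)⁻¹)))) * (s : Ω)⁻¹ := by group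
        _ = b⁻¹ * (s * b * (s : Ω)⁻¹) * (b⁻¹ * (s' * b * (s' : Ω)⁻¹)) := by rw [hc]; group)
    haveI := finite_of_le_base (h1b.trans hE.1.1)
    have hker : p ^ 4 ≤ Nat.card φ.ker := by
      have h3 := Subgroup.card_mul_index φ.ker
      rw [Subgroup.index_ker, h.card] at h3
      have h4 : Nat.card φ.range ≤ p := (Subgroup.card_le_card_group _).trans h1c.le
      have h5 : p ^ 4 * p ≤ Nat.card φ.ker * p := by
        rw [← pow_succ, ← h3]
        exact Nat.mul_le_mul_left _ h4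
      exact Nat.le_of_mul_le_mul_right h5 hp.out.pos
    obtain ⟨s, hs, hsE⟩ : ∃ s ∈ φ.ker, (s : Ω) ∉ E := by
      by_contra hno
      push Not at hno
      have h3 := Nat.card_le_card_of_injective (fun s : φ.ker => (⟨((s : S) : Ω), hno s s.2⟩ : E))
        fun a b e => Subtype.ext (Subtype.ext (congrArg Subtype.val e :))
      rw [hEc] at h3
      exact absurd ((Nat.pow_le_pow_iff_right hp.out.one_lt).1 (hker.trans h3)) (by norm_num)
    have hsb : (s : Ω) * b = b * s := by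
      have e := congrArg Subtype.val (MonoidHom.mem_ker.1 hs)
      exact mul_inv_eq_iff_eq_mul.1 (inv_mul_eq_one.1 e).symm
    let C : Subgroup Ω := Subgroup.centralizer {(s : Ω)}
    have hHgen : H ≤ C := by
      have hle : Subgroup.zpowers b ⊔ H₁ ≤ C := sup_le
        (Subgroup.zpowers_le.2 (Subgroup.mem_centralizer_singleton_iff.2 hsb.symm)) fun z hz =>
          Subgroup.mem_centralizer_singleton_iff.2 ((mem_Zc.1 (h1Z hz)).2 _ s.2).symm
      have hsub : Subgroup.zpowers b ⊔ H₁ ≤ H := sup_le (Subgroup.zpowers_le.2 hb) h2a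
      haveI := finite_of_le_base (hsub.trans (h2b.trans hE.1.1))
      have heq : Subgroup.zpowers b ⊔ H₁ = H := Subgroup.eq_of_le_of_card_ge hsub (by
        obtain ⟨i, hi⟩ := IsPGroup.iff_card.1 (h.hS.to_le (hsub.trans (h2b.trans hE.1.1)))
        have h3 : Nat.card H₁ < Nat.card (Subgroup.zpowers b ⊔ H₁ : Subgroup Ω) :=
          lt_of_le_of_ne (Subgroup.card_le_of_le le_sup_right) fun e => hbH
            ((Subgroup.eq_of_le_of_card_ge le_sup_right e.ge).ge (Subgroup.mem_sup_left (Subgroup.mem_zpowers b)))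
        rw [h1c, hi, ← pow_one p, ← pow_mul, one_mul, Nat.pow_lt_pow_iff_right hp.out.one_lt] at h3
        rw [h2c, hi]
        exact Nat.pow_le_pow_right hp.out.pos h3)
      exact heq ▸ hle
    have hfix : ∀ x ∈ E, (s : Ω) * x = x * s ↔ x ∈ H := by
      refine fun x hx => ⟨fun hc => ?_, fun hxH => (Subgroup.mem_centralizer_singleton_iff.1 (hHgen hxH)).symm⟩
      by_contra hxH
      obtain ⟨y, hy, hyc⟩ := not_all_fixed hE s.2 hsE
      have hle : Subgroup.zpowers x ⊔ H ≤ E := sup_le (Subgroup.zpowers_le.2 hx) h2b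
      haveI := finite_of_le_base (hle.trans hE.1.1)
      have heq : Subgroup.zpowers x ⊔ H = E := Subgroup.eq_of_le_of_card_ge hle (by
        obtain ⟨i, hi⟩ := IsPGroup.iff_card.1 (h.hS.to_le (hle.trans hE.1.1))
        have h3 : Nat.card H < Nat.card (Subgroup.zpowers x ⊔ H : Subgroup Ω) :=
          lt_of_le_of_ne (Subgroup.card_le_of_le le_sup_right) fun e => hxH
            ((Subgroup.eq_of_le_of_card_ge le_sup_right e.ge).ge (Subgroup.mem_sup_left (Subgroup.mem_zpowers x)))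
        rw [h2c, hi, Nat.pow_lt_pow_iff_right hp.out.one_lt] at h3
        rw [hEc, hi]
        exact Nat.pow_le_pow_right hp.out.pos h3)
      have hle2 : Subgroup.zpowers x ⊔ H ≤ C :=
        sup_le (Subgroup.zpowers_le.2 (Subgroup.mem_centralizer_singleton_iff.2 hc.symm)) hHgen
      exact hyc (Subgroup.mem_centralizer_singleton_iff.1 (hle2 (heq.ge hy))).symm
    exact hbig (card_normalizerIn_le h.hS hE hEc hcomm hexp h2b h2c (n := (s : Ω))
      (show (s : Ω) ∈ N by rw [hNS']; exact s.2) (fun y hy => h2n y hy.1) hfix)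
  have hNc : Nat.card N = p ^ 4 := by
    refine le_antisymm hNne ?_
    obtain ⟨j, hj⟩ := IsPGroup.iff_card.1 (h.hS.to_le hNS)
    have := card_lt_of_lt' hNS hlt
    rw [hj, hEc, Nat.pow_lt_pow_iff_right hp.out.one_lt] at this
    rw [hj]
    exact Nat.pow_le_pow_right hp.out.pos this
  have hNnorm : ∀ s ∈ S, ∀ x ∈ N, s * x * s⁻¹ ∈ N := by
    intro s hs x hx
    haveI : (N.subgroupOf S).Normal := by
      refine Subgroup.normal_of_index_eq_minFac_card ?_
      rw [h.card, hp.out.pow_minFac (by norm_num)]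
      have := Subgroup.card_mul_index (N.subgroupOf S)
      rw [Nat.card_congr (Subgroup.subgroupOfEquivOfLe hNS).toEquiv, hNc, h.card, pow_succ p 4] at this
      exact Nat.eq_of_mul_eq_mul_left (pow_pos hp.out.pos 4) this
    have := ‹(N.subgroupOf S).Normal›.conj_mem ⟨x, hNS hx⟩ hx ⟨s, hs⟩
    simpa [Subgroup.mem_subgroupOf] using this
  obtain ⟨s, hsS, hsN⟩ : ∃ s ∈ S, s ∉ N := by
    by_contra hno
    push Not at hno
    rw [le_antisymm hNS hno, h.card] at hNc
    exact absurd (Nat.pow_right_injective hp.out.two_le hNc) (by norm_num)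
  obtain ⟨x₀, hx₀, hx₀s⟩ : ∃ x ∈ E, s * x * s⁻¹ ∉ E := by
    by_contra hno
    push Not at hno
    exact hsN ⟨hsS, mem_normalizer_of_map_le hno⟩
  set E' := E.map (MulAut.conj s).toMonoidHom
  have hE'N : E' ≤ N := by rintro _ ⟨x, hx, rfl⟩; exact hNnorm s hsS x (hEN hx)
  haveI := finite_of_le_base (hE'N.trans hNS)
  have hE'c : Nat.card E' = p ^ 3 := by rw [Subgroup.card_map_of_injective (MulEquiv.injective _), hEc]
  set n := s * x₀ * s⁻¹ with hndef
  have hnE' : n ∈ E' := ⟨x₀, hx₀, rfl⟩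
  set L := E ⊓ E'
  haveI : Finite L := finite_of_le_base (inf_le_left.trans hE.1.1)
  have hgenN : Subgroup.zpowers n ⊔ E = N := by
    have hle : Subgroup.zpowers n ⊔ E ≤ N := sup_le (Subgroup.zpowers_le.2 (hE'N hnE')) hEN
    haveI := finite_of_le_base (hle.trans hNS)
    refine Subgroup.eq_of_le_of_card_ge hle ?_
    obtain ⟨i, hi⟩ := IsPGroup.iff_card.1 (h.hS.to_le (hle.trans hNS))
    have h3 : Nat.card E < Nat.card (Subgroup.zpowers n ⊔ E : Subgroup Ω) :=
      lt_of_le_of_ne (Subgroup.card_le_of_le le_sup_right) fun e => hx₀s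
        ((Subgroup.eq_of_le_of_card_ge le_sup_right e.ge).ge (Subgroup.mem_sup_left (Subgroup.mem_zpowers n)))
    rw [hEc, hi, Nat.pow_lt_pow_iff_right hp.out.one_lt] at h3
    rw [hNc, hi]
    exact Nat.pow_le_pow_right hp.out.pos h3
  have hLcent : ∀ l ∈ L, ∀ y ∈ N, y * l = l * y := by
    intro l hl y hy
    have hle : Subgroup.zpowers n ⊔ E ≤ Subgroup.centralizer {l} := by
      refine sup_le (Subgroup.zpowers_le.2 (Subgroup.mem_centralizer_singleton_iff.2 ?_)) fun x hx =>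
        Subgroup.mem_centralizer_singleton_iff.2 (hcomm x hx l hl.1)
      obtain ⟨a, ha, hal⟩ := hl.2
      rw [← hal]
      show s * x₀ * s⁻¹ * (s * a * s⁻¹) = s * a * s⁻¹ * (s * x₀ * s⁻¹)
      calc s * x₀ * s⁻¹ * (s * a * s⁻¹) = s * (x₀ * a) * s⁻¹ := by group
        _ = s * (a * x₀) * s⁻¹ := by rw [hcomm x₀ hx₀ a ha]
        _ = s * a * s⁻¹ * (s * x₀ * s⁻¹) := by group
    exact Subgroup.mem_centralizer_singleton_iff.1 (hle (hgenN.ge hy))
  have hLge : p ^ 2 ≤ Nat.card L := by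
    haveI : (E'.subgroupOf N).Normal := by
      refine Subgroup.normal_of_index_eq_minFac_card ?_
      rw [hNc, hp.out.pow_minFac (by norm_num)]
      have := Subgroup.card_mul_index (E'.subgroupOf N)
      rw [Nat.card_congr (Subgroup.subgroupOfEquivOfLe hE'N).toEquiv, hE'c, hNc, pow_succ p 3] at this
      exact Nat.eq_of_mul_eq_mul_left (pow_pos hp.out.pos 3) this
    have h1 : ((E'.subgroupOf N).subgroupOf (E.subgroupOf N)).index ∣ (E'.subgroupOf N).index :=
      Subgroup.relIndex_dvd_index_of_normal _ _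
    have h2 : (E'.subgroupOf N).index = p := by
      have := Subgroup.card_mul_index (E'.subgroupOf N)
      rw [Nat.card_congr (Subgroup.subgroupOfEquivOfLe hE'N).toEquiv, hE'c, hNc, pow_succ p 3] at this
      exact Nat.eq_of_mul_eq_mul_left (pow_pos hp.out.pos 3) this
    have h3 := Subgroup.card_mul_index ((E'.subgroupOf N).subgroupOf (E.subgroupOf N))
    rw [Nat.card_congr (Subgroup.subgroupOfEquivOfLe hEN).toEquiv, hEc] at h3
    have h4 : Nat.card ((E'.subgroupOf N).subgroupOf (E.subgroupOf N)) ≤ Nat.card L :=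
      Nat.card_le_card_of_injective (fun x => (⟨(((x : E.subgroupOf N) : N) : Ω),
        Subgroup.mem_subgroupOf.1 (x : E.subgroupOf N).2, Subgroup.mem_subgroupOf.1 (Subgroup.mem_subgroupOf.1 x.2)⟩ : L))
        fun a b e => Subtype.ext (Subtype.ext (Subtype.ext (congrArg Subtype.val e :)))
    have h5 : p ^ 2 * p ≤ Nat.card L * p := by
      rw [← pow_succ, ← h3]
      exact Nat.mul_le_mul h4 (Nat.le_of_dvd hp.out.pos (h2 ▸ h1))
    exact Nat.le_of_mul_le_mul_right h5 hp.out.pos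
  have hLne : L < E := lt_of_le_of_ne inf_le_left fun e => hx₀s (by
    haveI := finite_of_le_base hE.1.1
    have hsub : E ≤ E' := fun x hx => (e.ge hx).2
    exact (Subgroup.eq_of_le_of_card_ge hsub (by rw [hE'c, hEc])).ge hnE')
  have hLc : Nat.card L = p ^ 2 := by
    refine le_antisymm ?_ hLge
    obtain ⟨j, hj⟩ := IsPGroup.iff_card.1 (h.hS.to_le (hLne.le.trans hE.1.1))
    have := card_lt_of_lt' hE.1.1 hLne
    rw [hj, hEc, Nat.pow_lt_pow_iff_right hp.out.one_lt] at this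
    rw [hj]
    exact Nat.pow_le_pow_right hp.out.pos (by omega)
  have hfix : ∀ x ∈ E, n * x = x * n ↔ x ∈ L := by
    refine fun x hx => ⟨fun hc => ?_, fun hl => hLcent x hl n (hE'N hnE')⟩
    by_contra hxL
    obtain ⟨y, hy, hyc⟩ := not_all_fixed hE (hNS (hE'N hnE')) hx₀s
    have hle : Subgroup.zpowers x ⊔ L ≤ E := sup_le (Subgroup.zpowers_le.2 hx) inf_le_left
    haveI := finite_of_le_base (hle.trans hE.1.1)
    have heq : Subgroup.zpowers x ⊔ L = E := Subgroup.eq_of_le_of_card_ge hle (by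
      obtain ⟨i, hi⟩ := IsPGroup.iff_card.1 (h.hS.to_le (hle.trans hE.1.1))
      have h3 : Nat.card L < Nat.card (Subgroup.zpowers x ⊔ L : Subgroup Ω) :=
        lt_of_le_of_ne (Subgroup.card_le_of_le le_sup_right) fun e => hxL
          ((Subgroup.eq_of_le_of_card_ge le_sup_right e.ge).ge (Subgroup.mem_sup_left (Subgroup.mem_zpowers x)))
      rw [hLc, hi, Nat.pow_lt_pow_iff_right hp.out.one_lt] at h3
      rw [hEc, hi]
      exact Nat.pow_le_pow_right hp.out.pos h3)
    have hle2 : Subgroup.zpowers x ⊔ L ≤ Subgroup.centralizer {n} :=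
      sup_le (Subgroup.zpowers_le.2 (Subgroup.mem_centralizer_singleton_iff.2 hc.symm)) fun l hl =>
        Subgroup.mem_centralizer_singleton_iff.2 (hLcent l hl n (hE'N hnE')).symm
    exact hyc (Subgroup.mem_centralizer_singleton_iff.1 (hle2 (heq.ge hy))).symm
  refine ⟨L, n, ⟨hE, hEc, hcomm, hexp, hNc, inf_le_left, hLc, fun t ht l hl => ?_, hE'N hnE', hx₀s, hfix⟩,
    fun z hz => (hfix z (Zc_le_essential hE hz)).1 ((mem_Zc.1 hz).2 n (hNS (hE'N hnE')))⟩
  have hconj : ∀ y ∈ N, y * (t * l * t⁻¹) = t * l * t⁻¹ * y := by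
    intro y hy
    have h1 : t⁻¹ * y * t ∈ N := by simpa using hNnorm t⁻¹ (S.inv_mem ht) y hy
    calc y * (t * l * t⁻¹) = t * ((t⁻¹ * y * t) * l) * t⁻¹ := by group
      _ = t * (l * (t⁻¹ * y * t)) * t⁻¹ := by rw [hLcent l hl _ h1]
      _ = t * l * t⁻¹ * y := by group
  have hin : t * l * t⁻¹ ∈ E := centralizer_le_of_centric hE.1
    (mem_centralizerIn.2 ⟨S.mul_mem (S.mul_mem ht (hE.1.1 hl.1)) (S.inv_mem ht), fun x hx => hconj x (hEN hx)⟩)
  exact (hfix _ hin).1 (hconj n (hE'N hnE'))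

end CfsgLib.Fsys.OrderPFive
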