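import Cfsg.Agent.Lib.FusionSystem.OrderPFive.CentreSq

/-!
A moved hyperplane and a centre of order `p`: the prime is three and there is an invariant character.
-/

set_option autoImplicit false
set_option linter.unusedSectionVars false
set_option linter.style.haveILetI false

open Cfsg Cfsg.FusionSystem
open CfsgLib.Fsys.CentralIndex (Zc mem_Zc mem_Zc_iff_center)
open CfsgLib.PGroup.MaxDeg (comm_bil)
open scoped commutatorElement

namespace CfsgLib.Fsys.OrderPFive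

variable {Ω : Type*} [Group Ω] {S : Subgroup Ω} [Finite S] {p : ℕ} [hp : Fact p.Prime]
  {F : FusionSystem S} {E L : Subgroup Ω} {n : Ω} {C : Subgroup Ω} {a : Ω} {K : Subgroup Ω} {s k : Ω}

theorem three_pow_eq_one (u : Multiplicative (ZMod 3)) : u ^ 3 = 1 := by
  revert u; decide

theorem three_weight_aux : ∀ x₁ x₂ x₃ x₄ x₅ x₆ x₇ : ZMod 3, x₃ = 0 → ¬x₇ = 0 →
    ¬x₁ * (x₁ * x₄ - x₂ * x₃) = 0 →
    x₇ * (x₁ * (x₁ * x₄ - x₂ * x₃)) - (x₅ * x₃ + x₆ * (x₇ * x₄)) = 0 → x₆ - 1 = 0 := by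
  intro x₁ x₂ x₃ x₄ x₅ x₆ x₇ h3
  subst h3
  simp only [mul_zero, sub_zero, zero_add]
  revert x₁ x₄ x₆ x₇
  clear x₂ x₅
  decide

theorem Cube.normalizer_index (h : Five p F) (c : Cube p F E L n) :
    ((normalizerIn S E).subgroupOf S).Normal ∧ ((normalizerIn S E).subgroupOf S).index = p := by
  have hidx : ((normalizerIn S E).subgroupOf S).index = p := by
    have := Subgroup.card_mul_index ((normalizerIn S E).subgroupOf S)
    rw [Nat.card_congr (Subgroup.subgroupOfEquivOfLe normalizerIn_le).toEquiv, c.Ncard, h.card, pow_succ p 4] at this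
    exact Nat.eq_of_mul_eq_mul_left (pow_pos hp.out.pos 4) this
  refine ⟨Subgroup.normal_of_index_eq_minFac_card ?_, hidx⟩
  rw [h.card, hp.out.pow_minFac (by norm_num), hidx]

/-- The prime is three. -/
theorem Frame.prime_three (h : Five p F) (c : Cube p F E L n) (f : Frame h c C a K s k)
    (hZ : Nat.card (Zc S) = p) : p = 3 := by
  have hDZ : c.D h = Zc S := by
    haveI := finite_of_le_base (Zc_le_base (S := S))
    exact Subgroup.eq_of_le_of_card_ge (c.D_le_Zc h) (by rw [hZ, c.card_D h])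
  haveI := finite_of_le_base (f.CL.trans (c.le.trans c.ess.1.1))
  haveI : Nontrivial C := Finite.one_lt_card_iff_nontrivial.1 (by rw [f.Ccard]; exact hp.out.one_lt)
  obtain ⟨⟨w, hw⟩, hw1'⟩ := exists_ne (1 : C)
  have hw1 : w ≠ 1 := fun e => hw1' (Subtype.ext e)
  have hwL := f.CL hw
  have hwS : w ∈ S := c.ess.1.1 (c.le hwL)
  obtain ⟨hNn, hNidx⟩ := c.normalizer_index h
  set ss : S := ⟨s, f.smem⟩
  set ws : S := ⟨w, hwS⟩
  have hzS : ∀ q : S, q * ⁅ws, ss⁆ = ⁅ws, ss⁆ * q := fun q => Subtype.ext (by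
    have := (mem_Zc.1 (c.D_le_Zc h (f.KS w (f.LK hwL) s f.smem))).2 q q.2
    simpa [ws, ss, commutatorElement_def] using this)
  have hne : ⁅ws, ss⁆ ≠ 1 := fun e => hw1 (f.disjoint w (by
    rw [hDZ, mem_Zc]
    refine ⟨hwS, fun x hx => ?_⟩
    obtain ⟨j, hj⟩ := exists_zpow_shift hNidx (y := ss) f.snot ⟨x, hx⟩
    have hy : (((ss ^ j)⁻¹ * ⟨x, hx⟩ : S) : Ω) ∈ normalizerIn S E := hj
    have h1 := c.L_comm h hwL hy
    have h2 : Commute ws ss := commutatorElement_eq_one_iff_mul_comm.1 e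
    have h3 : Commute ws ((ss ^ j)⁻¹ * ⟨x, hx⟩) := Subtype.ext h1.symm
    have h4 := (h2.zpow_right j).mul_right h3
    rw [mul_inv_cancel_left] at h4
    exact (congrArg Subtype.val h4.eq).symm) hw)
  have hord : orderOf ⁅ws, ss⁆ = p := by
    refine orderOf_eq_prime (Subtype.ext ?_) hne
    rw [SubgroupClass.coe_pow]
    refine c.exp _ (c.le (c.D_le h ?_))
    have := f.KS w (f.LK hwL) s f.smem
    simpa [ws, ss, commutatorElement_def] using this
  have h2p : ¬ (p : ℤ) ∣ 2 := fun hd => h.hp2 ((Nat.prime_dvd_prime_iff_eq hp.out Nat.prime_two).1 (by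
    have := Int.natAbs_dvd_natAbs.2 hd
    simpa using this))
  obtain ⟨mu, hmu⟩ := exists_intInv h2p
  obtain ⟨β, hβ, sig, m, -, hβC, -, -, hβD, hsig, hsN, -, -⟩ := f.torus 2 mu hmu
  let B : S →* S := β.toMonoidHom
  have hB : ∀ u : S, ((B u : S) : Ω) = autFn β u := fun u => (autFn_coe β u).symm
  set y : S := (ss ^ sig)⁻¹ * B ss
  have hy : (y : Ω) ∈ normalizerIn S E := by simpa [y, ss, hB] using hsN
  have e1 : B ⁅ws, ss⁆ = ⁅ws, ss⁆ ^ (2 : ℤ) := Subtype.ext (by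
    rw [hB, SubgroupClass.coe_zpow]
    exact hβD _ (by simpa [ws, ss, commutatorElement_def] using f.KS w (f.LK hwL) s f.smem))
  have e2 : B ⁅ws, ss⁆ = ⁅ws, ss⁆ ^ sig := by
    rw [map_commutatorElement, show B ws = ws from Subtype.ext ((hB ws).trans (hβC w hw)),
      show B ss = ss ^ sig * y by simp [y]]
    have := comm_bil (g := ws) (a := ss) (b := y) (c := 1) hzS (by rw [one_mul, mul_one]) (by rw [one_mul, mul_one])
      (Subtype.ext (c.L_comm h hwL hy).symm) 1 sig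
    rwa [zpow_one, mul_one, one_mul] at this
  rw [e1, zpow_eq_zpow_iff_modEq, hord, Int.modEq_iff_dvd] at e2
  have h6 := dvd_sub e2 hsig
  rw [show sig - 2 - (sig - 2 * (2 * 2)) = ((2 * 3 : ℕ) : ℤ) by push_cast; ring] at h6
  rcases (Nat.Prime.dvd_mul hp.out).1 (Int.natCast_dvd_natCast.1 h6) with h7 | h7
  · exact absurd ((Nat.prime_dvd_prime_iff_eq hp.out Nat.prime_two).1 h7) h.hp2
  · exact (Nat.prime_dvd_prime_iff_eq hp.out Nat.prime_three).1 h7

/-- At the prime three there is a nontrivial character invariant under `Aut_F(S)`. -/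
theorem Frame.exists_char [Fact (Nat.Prime 3)] (h : Five 3 F) (c : Cube 3 F E L n) (f : Frame h c C a K s k)
    (hZ : Nat.card (Zc S) = 3) :
    ∃ χ : S →* Multiplicative (ZMod 3), (∀ σ ∈ F.autGroup S, ∀ x, χ (σ x) = χ x) ∧ ∃ y, χ y ≠ 1 := by
  classical
  have hES := c.ess.1.1
  have hDZ : c.D h = Zc S := by
    haveI := finite_of_le_base (Zc_le_base (S := S))
    exact Subgroup.eq_of_le_of_card_ge (c.D_le_Zc h) (by rw [hZ, c.card_D h])
  set N := normalizerIn S E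
  have hNS : N ≤ S := normalizerIn_le
  have hKS : K ≤ S := f.KN.trans hNS
  obtain ⟨hNn, hNidx⟩ := c.normalizer_index h
  haveI := finite_of_le_base (f.CL.trans (c.le.trans hES))
  haveI := finite_of_le_base hES
  haveI := finite_of_le_base hNS
  haveI := finite_of_le_base hKS
  haveI : Nontrivial C := Finite.one_lt_card_iff_nontrivial.1 (by rw [f.Ccard]; norm_num)
  obtain ⟨⟨w, hw⟩, hw1'⟩ := exists_ne (1 : C)
  have hw1 : w ≠ 1 := fun e => hw1' (Subtype.ext e)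
  -- values of commutators
  have hval : ∀ x : S, (x : Ω) ∈ K → ∀ y : S, ((⁅x, y⁆ : S) : Ω) ∈ Zc S := fun x hx y => by
    have := c.D_le_Zc h (f.KS x hx y y.2)
    simpa [commutatorElement_def] using this
  have hcen : ∀ x : S, (x : Ω) ∈ K → ∀ y q : S, q * ⁅x, y⁆ = ⁅x, y⁆ * q := fun x hx y q =>
    Subtype.ext ((mem_Zc.1 (hval x hx y)).2 q q.2)
  have hmulr : ∀ x : S, (x : Ω) ∈ K → ∀ y z : S, ⁅x, y * z⁆ = ⁅x, y⁆ * ⁅x, z⁆ := fun x hx y z => by
    rw [commutatorElement_mul_right_eq_mul_conj, mul_assoc ⁅x, y⁆ y, hcen x hx z y, ← mul_assoc,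
      mul_inv_cancel_right]
  have hmull : ∀ x x' : S, (x' : Ω) ∈ K → (x : Ω) ∈ K → ∀ y : S, ⁅x * x', y⁆ = ⁅x, y⁆ * ⁅x', y⁆ :=
      fun x x' hx' hx y => by
    rw [commutatorElement_mul_left_eq_conj_mul, hcen x' hx' y x, mul_inv_cancel_right, hcen x hx y ⁅x', y⁆]
  have hzr : ∀ x : S, (x : Ω) ∈ K → ∀ (y : S) (i : ℤ), ⁅x, y ^ i⁆ = ⁅x, y⁆ ^ i := fun x hx y i =>
    map_zpow (MonoidHom.mk' (fun y => ⁅x, y⁆) (hmulr x hx)) y i
  have hzl : ∀ x : S, (x : Ω) ∈ K → ∀ (y : S) (i : ℤ), ⁅x ^ i, y⁆ = ⁅x, y⁆ ^ i := fun x hx y i => by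
    let f' : K.subgroupOf S →* S :=
      MonoidHom.mk' (fun u => ⁅(u : S), y⁆) fun u v => hmull u v v.2 u.2 y
    exact map_zpow f' ⟨x, hx⟩ i
  set as : S := ⟨a, hES f.amem⟩
  set s₀ : S := ⟨s, f.smem⟩
  set ws : S := ⟨w, hES (c.le (f.CL hw))⟩
  have hwK : (ws : Ω) ∈ K := f.LK (f.CL hw)
  -- the commutator `⁅a, s⁆`
  set k₁ : S := ⁅as, s₀⁆
  haveI : ((normalizerIn S E).subgroupOf S).Normal := hNn
  have hk₁N : (k₁ : Ω) ∈ N := by
    have h1 := hNn.conj_mem as⁻¹ (inv_mem (le_normalizerIn hES f.amem : (as : Ω) ∈ N)) s₀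
    have h2 := N.mul_mem (le_normalizerIn hES f.amem) (Subgroup.mem_subgroupOf.1 h1)
    simpa [k₁, as, s₀, commutatorElement_def, mul_assoc] using h2
  have hk₁K : (k₁ : Ω) ∈ K := by
    haveI := finite_of_le_base hKS
    have hcard : Nat.card N ≤ 3 * Nat.card K := by rw [c.Ncard, f.Kcard]; norm_num
    have hNn' : ∀ x ∈ N, s * x * s⁻¹ ∈ N := fun x hx => by
      have := hNn.conj_mem ⟨x, hNS hx⟩ hx s₀
      simpa [s₀, Subgroup.mem_subgroupOf] using this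
    have h2 := shift_step h.hS hNS le_rfl f.KN hcard (fun m hm => f.Knormal m (hNS hm))
      ⟨f.smem, mem_normalizer_of_map_le hNn'⟩ (f.Knormal s f.smem) hNn' (le_normalizerIn hES f.amem)
    have h3 := f.Knormal a (hES f.amem) _ (K.inv_mem h2)
    simpa [k₁, as, s₀, commutatorElement_def, mul_assoc] using h3
  have hEgen : E ≤ Subgroup.zpowers a ⊔ L := by
    have hle : Subgroup.zpowers a ⊔ L ≤ E := sup_le (Subgroup.zpowers_le.2 f.amem) c.le
    haveI := finite_of_le_base (hle.trans hES)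
    haveI := finite_of_le_base hES
    refine (Subgroup.eq_of_le_of_card_ge hle ?_).ge
    obtain ⟨i, hi⟩ := IsPGroup.iff_card.1 (h.hS.to_le (hle.trans hES))
    have h3 := card_lt_of_lt' (hle.trans hES) (lt_of_le_not_ge (le_sup_right : L ≤ Subgroup.zpowers a ⊔ L)
      fun e => f.anot (e (Subgroup.mem_sup_left (Subgroup.mem_zpowers a))))
    rw [c.Lcard, hi, Nat.pow_lt_pow_iff_right (by norm_num : 1 < 3)] at h3
    rw [c.card, hi]
    exact Nat.pow_le_pow_right (by norm_num) h3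
  have hk₁L : (k₁ : Ω) ∉ L := fun hl => by
    refine f.snot ⟨f.smem, mem_normalizer_of_map_le fun x hx => ?_⟩
    have hle : Subgroup.zpowers a ⊔ L ≤ E.comap (MulAut.conj s).toMonoidHom := sup_le
      (Subgroup.zpowers_le.2 (by
        show s * a * s⁻¹ ∈ E
        have := E.mul_mem (E.inv_mem (c.le hl)) f.amem
        simpa [k₁, as, s₀, commutatorElement_def, mul_assoc] using this))
      fun l hl => c.le (c.Lnormal s f.smem l hl)
    exact hle (hEgen hx)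
  have hk₁E : (k₁ : Ω) ∉ E := fun hE => by
    have hle : Subgroup.zpowers (k₁ : Ω) ⊔ L ≤ E ⊓ K :=
      sup_le (Subgroup.zpowers_le.2 ⟨hE, hk₁K⟩) (le_inf c.le f.LK)
    haveI := finite_of_le_base ((hle.trans inf_le_left).trans hES)
    haveI := finite_of_le_base hES
    haveI := finite_of_le_base hKS
    obtain ⟨i, hi⟩ := IsPGroup.iff_card.1 (h.hS.to_le ((hle.trans inf_le_left).trans hES))
    have h3 := card_lt_of_lt' ((hle.trans inf_le_left).trans hES)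
      (lt_of_le_not_ge (le_sup_right : L ≤ Subgroup.zpowers (k₁ : Ω) ⊔ L)
        fun e' => hk₁L (e' (Subgroup.mem_sup_left (Subgroup.mem_zpowers _))))
    rw [c.Lcard, hi, Nat.pow_lt_pow_iff_right (by norm_num : 1 < 3)] at h3
    have heq : Subgroup.zpowers (k₁ : Ω) ⊔ L = E := Subgroup.eq_of_le_of_card_ge (hle.trans inf_le_left) (by
      rw [c.card, hi]; exact Nat.pow_le_pow_right (by norm_num) h3)
    have hEK : E ≤ K := heq ▸ hle.trans inf_le_right
    exact f.knot ((Subgroup.eq_of_le_of_card_ge hEK (by rw [c.card, f.Kcard])).ge f.kmem)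
  set z₀ : S := ⁅k₁, as⁆
  have hz₀ : z₀ ≠ 1 := fun e => by
    refine hk₁E (centralizer_le_of_centric c.ess.1 (mem_centralizerIn.2 ⟨k₁.2, fun x hx => ?_⟩))
    have hle : Subgroup.zpowers a ⊔ L ≤ Subgroup.centralizer {(k₁ : Ω)} :=
      sup_le (Subgroup.zpowers_le.2 (Subgroup.mem_centralizer_singleton_iff.2
        (congrArg Subtype.val (commutatorElement_eq_one_iff_mul_comm.1 e)).symm))
        fun l hl => Subgroup.mem_centralizer_singleton_iff.2 (c.L_comm h hl hk₁N).symm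
    exact Subgroup.mem_centralizer_singleton_iff.1 (hle (hEgen hx))
  have hZ3 : ∀ u : S, (u : Ω) ∈ Zc S → u ^ 3 = 1 := fun u hu => Subtype.ext (by
    rw [SubgroupClass.coe_pow]
    exact c.exp _ (c.le (c.D_le h (hDZ.ge hu))))
  have hz₀ord : orderOf z₀ = 3 := orderOf_eq_prime (hZ3 _ (hval _ hk₁K _)) hz₀
  have hZgen : ∀ u : S, (u : Ω) ∈ Zc S → ∃ j : ℤ, z₀ ^ j = u := fun u hu => by
    haveI := finite_of_le_base (Zc_le_base (S := S))
    have heq : Subgroup.zpowers (z₀ : Ω) = Zc S := Subgroup.eq_of_le_of_card_ge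
      (Subgroup.zpowers_le.2 (hval _ hk₁K _)) (by rw [hZ, Nat.card_zpowers, Subgroup.orderOf_coe, hz₀ord])
    obtain ⟨j, hj⟩ := Subgroup.mem_zpowers_iff.1 (heq.ge hu)
    exact ⟨j, Subtype.ext (by rw [SubgroupClass.coe_zpow, hj])⟩
  -- change `s` so that it commutes with `k₁`
  obtain ⟨j₀, hj₀⟩ := hZgen _ (hval _ hk₁K s₀)
  set s₁ : S := s₀ * as ^ (-j₀)
  have hks₁ : ⁅k₁, s₁⁆ = 1 := by
    rw [hmulr _ hk₁K, hzr _ hk₁K, ← hj₀, ← zpow_add, add_neg_cancel, zpow_zero]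
  have has₁ : ⁅as, s₁⁆ = k₁ := by
    rw [commutatorElement_mul_right_eq_mul_conj, (commutatorElement_eq_one_iff_mul_comm.2
      ((Commute.refl as).zpow_right _).eq : ⁅as, as ^ (-j₀)⁆ = 1), mul_one, mul_inv_cancel_right]
  have hs₁N : (s₁ : Ω) ∉ N := fun hh => f.snot (by
    have := N.mul_mem hh (N.inv_mem (N.zpow_mem (le_normalizerIn hES f.amem) (-j₀)))
    simpa [s₁, s₀, as] using this)
  -- the quotient by `D`
  set D' := (c.D h).subgroupOf S
  haveI : D'.Normal := ⟨fun x hx y => by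
    rw [Subgroup.mem_subgroupOf] at hx ⊢
    simpa using c.D_normal h y y.2 _ hx⟩
  let ρ : S →* S ⧸ D' := QuotientGroup.mk' D'
  have hρ1 : ∀ x : S, ρ x = 1 ↔ (x : Ω) ∈ c.D h := fun x =>
    (QuotientGroup.eq_one_iff x).trans Subgroup.mem_subgroupOf
  have hKcen : ∀ x : S, (x : Ω) ∈ K → ∀ q, q * ρ x = ρ x * q := fun x hx q => by
    obtain ⟨y, rfl⟩ := QuotientGroup.mk'_surjective D' q
    rw [eq_comm, ← commutatorElement_eq_one_iff_mul_comm, ← map_commutatorElement, hρ1, hDZ]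
    exact hval x hx y
  have hk₁3 : ρ k₁ ^ 3 = 1 := by
    rw [← map_pow, hρ1, hDZ, mem_Zc]
    refine ⟨(k₁ ^ 3).2, fun y hy => ?_⟩
    have h1 : ⁅k₁ ^ 3, (⟨y, hy⟩ : S)⁆ = 1 := by
      rw [← zpow_natCast k₁ 3, hzl _ hk₁K, zpow_natCast]
      exact hZ3 _ (hval _ hk₁K _)
    exact (congrArg Subtype.val (commutatorElement_eq_one_iff_mul_comm.1 h1)).symm
  -- the quotient by `⟨k₁⟩ D`
  set Z1 := Subgroup.zpowers (ρ k₁)
  haveI : Z1.Normal := ⟨fun x hx q => by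
    obtain ⟨i, rfl⟩ := Subgroup.mem_zpowers_iff.1 hx
    have hc : Commute q (ρ k₁) := hKcen _ hk₁K q
    rw [(hc.zpow_right i).eq, mul_inv_cancel_right]
    exact Subgroup.zpow_mem _ (Subgroup.mem_zpowers _) i⟩
  let θ : S →* (S ⧸ D') ⧸ Z1 := (QuotientGroup.mk' Z1).comp ρ
  have hθ : Function.Surjective θ := (QuotientGroup.mk'_surjective Z1).comp (QuotientGroup.mk'_surjective D')
  have hθD : ∀ x : S, (x : Ω) ∈ c.D h → θ x = 1 := fun x hx => by
    show QuotientGroup.mk' Z1 (ρ x) = 1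
    rw [(hρ1 x).2 hx, map_one]
  have hθk : θ k₁ = 1 := (QuotientGroup.eq_one_iff _).2 (Subgroup.mem_zpowers _)
  have hRcard : 3 ^ 3 ≤ Nat.card ((S ⧸ D') ⧸ Z1) := by
    have h1 := Subgroup.card_eq_card_quotient_mul_card_subgroup Z1
    have h2 := Subgroup.card_eq_card_quotient_mul_card_subgroup D'
    rw [h.card, Nat.card_congr (Subgroup.subgroupOfEquivOfLe ((c.D_le h).trans (c.le.trans hES))).toEquiv,
      c.card_D h, h1] at h2
    have h3 : Nat.card Z1 ≤ 3 := by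
      rw [Nat.card_zpowers]
      exact Nat.le_of_dvd (by norm_num) (orderOf_dvd_of_pow_eq_one hk₁3)
    have h4 : 3 ^ 5 ≤ Nat.card ((S ⧸ D') ⧸ Z1) * 3 * 3 := by
      rw [h2]
      exact Nat.mul_le_mul_right _ (Nat.mul_le_mul_left _ h3)
    omega
  have hKdec : ∀ x : S, (x : Ω) ∈ K → ∃ f' : ℤ, ∃ l : S, (l : Ω) ∈ L ∧ x = k₁ ^ f' * l := fun x hx => by
    haveI : (L.subgroupOf K).Normal := ⟨fun w hw m => by
      rw [Subgroup.mem_subgroupOf] at hw ⊢
      simpa using c.Lnormal m (hKS m.2) _ hw⟩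
    have hLKidx : (L.subgroupOf K).index = 3 := by
      have := Subgroup.card_mul_index (L.subgroupOf K)
      rw [Nat.card_congr (Subgroup.subgroupOfEquivOfLe f.LK).toEquiv, f.Kcard, c.Lcard] at this
      omega
    obtain ⟨i, hi⟩ := exists_zpow_shift hLKidx (y := (⟨(k₁ : Ω), hk₁K⟩ : K)) (fun hh => hk₁L hh) ⟨_, hx⟩
    exact ⟨i, (k₁ ^ i)⁻¹ * x, by simpa [Subgroup.mem_subgroupOf] using hi, by simp⟩
  have hLdec : ∀ l : S, (l : Ω) ∈ L → ∃ e : ℤ, ∃ d : S, (d : Ω) ∈ c.D h ∧ l = ws ^ e * d := fun l hl => by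
    haveI : ((c.D h).subgroupOf L).Normal := ⟨fun x hx y => by
      rw [Subgroup.mem_subgroupOf] at hx ⊢
      simpa using c.D_normal h y (hES (c.le y.2)) _ hx⟩
    have hidx : ((c.D h).subgroupOf L).index = 3 := by
      have := Subgroup.card_mul_index ((c.D h).subgroupOf L)
      rw [Nat.card_congr (Subgroup.subgroupOfEquivOfLe (c.D_le h)).toEquiv, c.card_D h, c.Lcard] at this
      omega
    obtain ⟨i, hi⟩ := exists_zpow_shift hidx (y := (⟨w, f.CL hw⟩ : L)) (fun hh => hw1 (f.disjoint w hh hw)) ⟨_, hl⟩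
    exact ⟨i, (ws ^ i)⁻¹ * l, by simpa [ws, Subgroup.mem_subgroupOf] using hi, by simp⟩
  have haK : a ∉ K := fun haK => hk₁L (by
    have h1 := c.D_le h (f.KS a haK s f.smem)
    simpa [k₁, as, s₀, commutatorElement_def] using h1)
  have hNdec : ∀ y : S, (y : Ω) ∈ N → ∃ i : ℤ, ∃ κ : S, (κ : Ω) ∈ K ∧ y = as ^ i * κ := by
    intro y hy
    haveI : (K.subgroupOf N).Normal := ⟨fun x hx m => by
      rw [Subgroup.mem_subgroupOf] at hx ⊢
      simpa using f.Knormal m (hNS m.2) _ hx⟩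
    have hidx : (K.subgroupOf N).index = 3 := by
      have := Subgroup.card_mul_index (K.subgroupOf N)
      rw [Nat.card_congr (Subgroup.subgroupOfEquivOfLe f.KN).toEquiv, f.Kcard, c.Ncard] at this
      omega
    obtain ⟨i, hi⟩ := exists_zpow_shift hidx (y := (⟨a, le_normalizerIn hES f.amem⟩ : N)) haK ⟨_, hy⟩
    exact ⟨i, (as ^ i)⁻¹ * y, by simpa [as, Subgroup.mem_subgroupOf] using hi, by simp⟩
  have hSdec : ∀ y : S, ∃ i j : ℤ, ∃ κ : S, (κ : Ω) ∈ K ∧ y = s₁ ^ j * as ^ i * κ := by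
    intro y
    obtain ⟨j, hj⟩ := exists_zpow_shift hNidx (y := s₁) hs₁N y
    obtain ⟨i, κ, hκ, e⟩ := hNdec ((s₁ ^ j)⁻¹ * y) hj
    exact ⟨i, j, κ, hκ, by rw [mul_assoc, ← e, mul_inv_cancel_left]⟩
  -- generators of the quotient
  set A := θ as
  set Sb := θ s₁
  set W := θ ws
  have hθK : ∀ x : S, (x : Ω) ∈ K → ∃ e : ℤ, θ x = W ^ e := fun x hx => by
    obtain ⟨f', l, hl, rfl⟩ := hKdec x hx
    obtain ⟨e, d, hd, rfl⟩ := hLdec l hl
    exact ⟨e, by rw [map_mul, map_mul, map_zpow, map_zpow, hθk, one_zpow, one_mul, hθD d hd, mul_one]⟩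
  have hWq : ∀ q, Commute W q := fun q => by
    obtain ⟨y, rfl⟩ := hθ q
    refine commutatorElement_eq_one_iff_mul_comm.1 ?_
    rw [← map_commutatorElement θ]
    exact hθD _ (by rw [hDZ]; exact hval ws hwK y)
  have hAS : Commute A Sb := by
    refine commutatorElement_eq_one_iff_mul_comm.1 ?_
    rw [← map_commutatorElement θ, has₁, hθk]
  have hcomm : ∀ q r : (S ⧸ D') ⧸ Z1, q * r = r * q := by
    intro q r
    obtain ⟨y, rfl⟩ := hθ q
    obtain ⟨y', rfl⟩ := hθ r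
    obtain ⟨i, j, κ, hκ, rfl⟩ := hSdec y
    obtain ⟨i', j', κ', hκ', rfl⟩ := hSdec y'
    obtain ⟨e, he⟩ := hθK κ hκ
    obtain ⟨e', he'⟩ := hθK κ' hκ'
    simp only [map_mul, map_zpow, he, he']
    have h1 : Commute A (Sb ^ j' * A ^ i' * W ^ e') :=
      ((hAS.zpow_right j').mul_right ((Commute.refl A).zpow_right i')).mul_right ((hWq A).symm.zpow_right e')
    have h2 : Commute Sb (Sb ^ j' * A ^ i' * W ^ e') :=
      (((Commute.refl Sb).zpow_right j').mul_right (hAS.symm.zpow_right i')).mul_right ((hWq Sb).symm.zpow_right e')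
    exact (((h2.zpow_left j).mul_left (h1.zpow_left i)).mul_left ((hWq _).zpow_left e)).eq
  letI : CommGroup ((S ⧸ D') ⧸ Z1) := { (inferInstance : Group ((S ⧸ D') ⧸ Z1)) with mul_comm := hcomm }
  have hA3 : A ^ 3 = 1 := by
    rw [← map_pow, show as ^ 3 = 1 from Subtype.ext (c.exp a f.amem), map_one]
  have hW3 : W ^ 3 = 1 := by
    rw [← map_pow, show ws ^ 3 = 1 from Subtype.ext (c.exp w (c.le (f.CL hw))), map_one]
  have hθN : ∀ y : S, (y : Ω) ∈ N → θ y ^ 3 = 1 := fun y hy => by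
    obtain ⟨i, κ, hκ, rfl⟩ := hNdec y hy
    obtain ⟨e, he⟩ := hθK κ hκ
    rw [map_mul, map_zpow, he, mul_pow, ← zpow_natCast (A ^ i), ← zpow_natCast (W ^ e), ← zpow_mul, ← zpow_mul,
      mul_comm i, mul_comm e, zpow_mul, zpow_mul, zpow_natCast, zpow_natCast, hA3, hW3, one_zpow, one_zpow, one_mul]
  -- an automorphism inverting `A` and fixing `W`
  obtain ⟨β, hβ, sig, m, -, hβC, -, -, hβD, hsig, hsN, -, -⟩ := f.torus (-1) (-1) ⟨0, by ring⟩
  let B : S →* S := β.toMonoidHom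
  have hB : ∀ u : S, ((B u : S) : Ω) = autFn β u := fun u => (autFn_coe β u).symm
  have hBK : ∀ x : S, (x : Ω) ∈ K → θ (B x) = θ x := fun x hx => by
    obtain ⟨f', l, hl, rfl⟩ := hKdec x hx
    obtain ⟨e, d, hd, rfl⟩ := hLdec l hl
    have h1 : θ (B k₁) = 1 := by
      rw [map_commutatorElement B, map_commutatorElement θ]
      exact commutatorElement_eq_one_iff_mul_comm.2 (hcomm _ _)
    simp only [map_mul, map_zpow, h1, hθk, one_zpow, one_mul]
    rw [show B ws = ws from Subtype.ext ((hB ws).trans (hβC w hw)), hθD d hd,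
      hθD (B d) (by rw [hB, hβD _ hd]; exact (c.D h).zpow_mem hd _)]
  -- cubes of `s` vanish
  have hs3 : θ s₀ ^ 3 = 1 := by
    have hN3 : ((s₀ ^ 3 : S) : Ω) ∈ N := by
      have := Subgroup.pow_index_mem ((normalizerIn S E).subgroupOf S) s₀
      rw [hNidx] at this
      exact this
    obtain ⟨i, κ, hκ, e⟩ := hNdec _ hN3
    have hρk : orderOf (ρ k₁) = 3 := orderOf_eq_prime hk₁3 fun e => hk₁L (c.D_le h ((hρ1 _).1 e))
    have hi : (3 : ℤ) ∣ i := by
      have h1 : ⁅ρ (s₀ ^ 3), ρ s₀⁆ = 1 := by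
        rw [map_pow]
        exact commutatorElement_eq_one_iff_mul_comm.2 ((Commute.refl (ρ s₀)).pow_left 3).eq
      rw [e, map_mul, map_zpow] at h1
      have h2 := comm_bil (g := ρ as) (a := ρ s₀) (b := 1) (c := ρ κ)
        (by rw [← map_commutatorElement]; exact hKcen _ hk₁K) (hKcen κ hκ _).symm (by simp) (by simp) i 1
      rw [zpow_one, mul_one, mul_one, h1, ← map_commutatorElement] at h2
      have := orderOf_dvd_iff_zpow_eq_one.2 h2.symm
      rwa [hρk] at this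
    have hB3 : θ (B (s₀ ^ 3)) = θ (s₀ ^ 3) := by
      have hAi : θ (as ^ i) = 1 ∧ θ (B (as ^ i)) = 1 := by
        obtain ⟨q, rfl⟩ := hi
        have e3 : as ^ ((3 : ℤ) * q) = 1 := by
          rw [zpow_mul, show as ^ (3 : ℤ) = 1 from (zpow_natCast as 3).trans (Subtype.ext (c.exp a f.amem)), one_zpow]
        rw [e3, map_one, map_one, map_one]
        exact ⟨rfl, rfl⟩
      rw [e, map_mul B, map_mul θ, map_mul θ, hAi.1, hAi.2, hBK κ hκ]
    set y : S := (s₀ ^ sig)⁻¹ * B s₀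
    have hy : (y : Ω) ∈ N := by simpa [y, s₀, hB] using hsN
    rw [map_pow B, map_pow θ, show B s₀ = s₀ ^ sig * y by simp [y], map_mul θ, mul_pow, hθN y hy, mul_one,
      map_zpow, map_pow θ, ← zpow_natCast, ← zpow_mul, mul_comm, zpow_mul, zpow_natCast] at hB3
    set x := θ s₀ ^ 3
    have hx3 : x ^ 3 = 1 := by
      simp only [x, ← map_pow]
      rw [map_pow θ]
      exact hθN _ hN3
    by_contra hne
    have hord : orderOf x = 3 := orderOf_eq_prime hx3 hne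
    nth_rewrite 2 [← zpow_one x] at hB3
    rw [zpow_eq_zpow_iff_modEq, hord, Int.modEq_iff_dvd] at hB3
    omega
  have hSb3 : Sb ^ 3 = 1 := by
    show θ (s₀ * as ^ (-j₀)) ^ 3 = 1
    rw [map_mul, mul_pow, hs3, one_mul, map_zpow, ← zpow_natCast, ← zpow_mul, mul_comm, zpow_mul, zpow_natCast,
      hA3, one_zpow]
  -- the kernel of the character
  set M : Subgroup ((S ⧸ D') ⧸ Z1) := Subgroup.zpowers Sb ⊔ Subgroup.zpowers A
  have hMcard : Nat.card M ≤ 9 := by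
    haveI : Finite ((S ⧸ D') ⧸ Z1) := Finite.of_surjective θ hθ
    let g : Subgroup.zpowers Sb × Subgroup.zpowers A →* (S ⧸ D') ⧸ Z1 :=
      (Subgroup.zpowers Sb).subtype.coprod (Subgroup.zpowers A).subtype
    have hle : M ≤ g.range := sup_le (fun x hx => ⟨(⟨x, hx⟩, 1), by simp [g]⟩)
      fun x hx => ⟨(1, ⟨x, hx⟩), by simp [g]⟩
    refine (Subgroup.card_le_of_le hle).trans ?_
    refine (Nat.card_le_card_of_surjective g.rangeRestrict g.rangeRestrict_surjective).trans ?_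
    rw [Nat.card_prod, Nat.card_zpowers, Nat.card_zpowers]
    exact Nat.mul_le_mul (Nat.le_of_dvd (by norm_num) (orderOf_dvd_of_pow_eq_one hSb3))
      (Nat.le_of_dvd (by norm_num) (orderOf_dvd_of_pow_eq_one hA3))
  have hWM : W ∉ M := fun hh => by
    have htop : M = ⊤ := eq_top_iff.2 fun q _ => by
      obtain ⟨y, rfl⟩ := hθ q
      obtain ⟨i, j, κ, hκ, rfl⟩ := hSdec y
      obtain ⟨e, he⟩ := hθK κ hκ
      rw [map_mul, map_mul, map_zpow, map_zpow, he]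
      exact M.mul_mem (M.mul_mem (Subgroup.mem_sup_left ⟨j, rfl⟩) (Subgroup.mem_sup_right ⟨i, rfl⟩))
        (M.zpow_mem hh e)
    rw [htop, Subgroup.card_top] at hMcard
    omega
  have hMidx : Nat.card (((S ⧸ D') ⧸ Z1) ⧸ M) = 3 := by
    have hgen : ∀ q : ((S ⧸ D') ⧸ Z1) ⧸ M, q ∈ Subgroup.zpowers (QuotientGroup.mk' M W) := fun q => by
      obtain ⟨q, rfl⟩ := QuotientGroup.mk'_surjective M q
      obtain ⟨y, rfl⟩ := hθ q
      obtain ⟨i, j, κ, hκ, rfl⟩ := hSdec y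
      obtain ⟨e, he⟩ := hθK κ hκ
      refine ⟨e, ?_⟩
      show QuotientGroup.mk' M W ^ e = _
      rw [map_mul θ, map_mul θ, map_zpow θ, map_zpow θ, he, map_mul, map_mul, map_zpow (QuotientGroup.mk' M) W,
        show QuotientGroup.mk' M (θ s₁ ^ j) = 1 from (QuotientGroup.eq_one_iff _).2 (Subgroup.mem_sup_left ⟨j, rfl⟩),
        show QuotientGroup.mk' M (θ as ^ i) = 1 from (QuotientGroup.eq_one_iff _).2 (Subgroup.mem_sup_right ⟨i, rfl⟩),
        one_mul, one_mul]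
    rw [← Subgroup.card_top, ← eq_top_iff.2 (fun q _ => hgen q), Nat.card_zpowers]
    exact orderOf_eq_prime (by rw [← map_pow, hW3, map_one]) fun e => hWM ((QuotientGroup.eq_one_iff W).1 e)
  let iso := mulEquivOfPrimeCardEq (p := 3) hMidx
    (show Nat.card (Multiplicative (ZMod 3)) = 3 by simp [Nat.card_eq_fintype_card])
  let χ₀ : S →* Multiplicative (ZMod 3) := iso.toMonoidHom.comp ((QuotientGroup.mk' M).comp θ)
  have hX : ∀ u : Multiplicative (ZMod 3), u ^ 3 = 1 := three_pow_eq_one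
  have hχW : χ₀ ws ≠ 1 := fun e => hWM ((QuotientGroup.eq_one_iff W).1 (iso.injective (e.trans (map_one iso).symm)))
  refine exists_invariant_char h.hS h.hF χ₀ hX hχW fun σ hσ => ?_
  -- every automorphism fixes the class of `ws`
  have hσK : ∀ x : S, (x : Ω) ∈ K → ((σ x : S) : Ω) ∈ K := fun x hx => by
    rw [← autFn_coe σ x]
    exact (f.second _).1 (((f.second _).2 hx).map hσ)
  let G : S →* S := σ.toMonoidHom
  have hG : Function.Injective G := σ.injective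
  have hGK : ∀ x : S, (x : Ω) ∈ K → ((G x : S) : Ω) ∈ K := hσK
  obtain ⟨A', B', κ₁, hκ₁, hσa⟩ := hSdec (G as)
  obtain ⟨C', D₁, κ₂, hκ₂, hσs⟩ := hSdec (G s₁)
  -- commutators with `k₁` and `ws` in terms of exponents
  have hws : ⁅ws, as⁆ = 1 := commutatorElement_eq_one_iff_mul_comm.2 (Subtype.ext (c.comm w (c.le (f.CL hw)) a f.amem))
  obtain ⟨mz, hmz⟩ := hZgen _ (hval _ hwK s₁)
  have hmz3 : ¬ (3 : ℤ) ∣ mz := fun ⟨q, hq⟩ => by
    rw [hq, zpow_mul, show z₀ ^ (3 : ℤ) = 1 by exact_mod_cast hZ3 _ (hval _ hk₁K _), one_zpow] at hmz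
    refine hw1 (f.disjoint w ?_ hw)
    rw [hDZ, mem_Zc]
    refine ⟨ws.2, fun x hx => ?_⟩
    obtain ⟨i, j, κ, hκ, e⟩ := hSdec ⟨x, hx⟩
    obtain ⟨fk, l, hl, rfl⟩ := hKdec κ hκ
    obtain ⟨e', d, hd, rfl⟩ := hLdec l hl
    have hwk : ⁅ws, k₁⁆ = 1 :=
      commutatorElement_eq_one_iff_mul_comm.2 (Subtype.ext (c.L_comm h (f.CL hw) hk₁N).symm)
    have hwd : ⁅ws, d⁆ = 1 := commutatorElement_eq_one_iff_mul_comm.2
      (Subtype.ext ((mem_Zc.1 (c.D_le_Zc h hd)).2 w ws.2))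
    have : ⁅ws, (⟨x, hx⟩ : S)⁆ = 1 := by
      rw [e, hmulr _ hwK, hmulr _ hwK, hmulr _ hwK, hmulr _ hwK, hzr _ hwK, hzr _ hwK, hzr _ hwK, hzr _ hwK,
        hws, ← hmz, hwk, hwd, commutatorElement_self]
      simp
    exact (congrArg Subtype.val (commutatorElement_eq_one_iff_mul_comm.1 this)).symm
  have hkκ : ∀ κ : S, (κ : Ω) ∈ K → ⁅k₁, κ⁆ = 1 ∧ ⁅ws, κ⁆ = 1 := fun κ hκ => by
    obtain ⟨fk, l, hl, rfl⟩ := hKdec κ hκ
    have hl1 : ⁅k₁, l⁆ = 1 := commutatorElement_eq_one_iff_mul_comm.2 (Subtype.ext (c.L_comm h hl hk₁N))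
    have hwk : ⁅ws, k₁⁆ = 1 :=
      commutatorElement_eq_one_iff_mul_comm.2 (Subtype.ext (c.L_comm h (f.CL hw) hk₁N).symm)
    have hwl : ⁅ws, l⁆ = 1 := commutatorElement_eq_one_iff_mul_comm.2
      (Subtype.ext (c.comm w (c.le (f.CL hw)) _ (c.le hl)))
    exact ⟨by rw [hmulr _ hk₁K, hzr _ hk₁K, commutatorElement_self, hl1]; simp,
      by rw [hmulr _ hwK, hzr _ hwK, hwk, hwl]; simp⟩
  have ev : ∀ (i j : ℤ) (κ : S), (κ : Ω) ∈ K →
      ⁅k₁, s₁ ^ j * as ^ i * κ⁆ = z₀ ^ i ∧ ⁅ws, s₁ ^ j * as ^ i * κ⁆ = z₀ ^ (mz * j) := fun i j κ hκ => by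
    constructor
    · rw [hmulr _ hk₁K, hmulr _ hk₁K, hzr _ hk₁K, hzr _ hk₁K, hks₁, (hkκ κ hκ).1, one_zpow, one_mul, mul_one]
    · rw [hmulr _ hwK, hmulr _ hwK, hzr _ hwK, hzr _ hwK, hws, ← hmz, (hkκ κ hκ).2, one_zpow, mul_one, mul_one,
        ← zpow_mul]
  -- the image of `k₁`
  have hσk : ∃ d : S, (d : Ω) ∈ c.D h ∧ G k₁ = k₁ ^ (A' * D₁ - B' * C') * d := by
    have e1 : ρ (G k₁) = ρ k₁ ^ (A' * D₁ - B' * C') := by
      have hz' : ∀ q, q * ⁅ρ as, ρ s₁⁆ = ⁅ρ as, ρ s₁⁆ * q := by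
        rw [← map_commutatorElement, has₁]; exact hKcen _ hk₁K
      rw [← has₁, map_commutatorElement G, hσa, hσs, map_commutatorElement, map_commutatorElement ρ as s₁]
      simp only [map_mul, map_zpow]
      set u := ρ as
      set v := ρ s₁
      have hc : ∀ q, q * ρ κ₁ = ρ κ₁ * q := hKcen κ₁ hκ₁
      have hc' : ∀ q, q * ρ κ₂ = ρ κ₂ * q := hKcen κ₂ hκ₂
      have k1 : ∀ x y q : S ⧸ D', (∀ r, r * q = q * r) → ⁅x * q, y⁆ = ⁅x, y⁆ := fun x y q hq => by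
        rw [commutatorElement_mul_left_eq_conj_mul, commutatorElement_eq_one_iff_mul_comm.2 (hq y).symm, mul_one,
          mul_inv_cancel, one_mul]
      have k2 : ∀ x y q : S ⧸ D', (∀ r, r * q = q * r) → ⁅x, y * q⁆ = ⁅x, y⁆ := fun x y q hq => by
        rw [commutatorElement_mul_right_eq_mul_conj, commutatorElement_eq_one_iff_mul_comm.2 (hq x), mul_one,
          mul_inv_cancel_right]
      rw [k1 _ _ _ hc, k2 _ _ _ hc']
      have huv : ∀ i j : ℤ, ⁅u ^ i, v ^ j⁆ = ⁅u, v⁆ ^ (i * j) := fun i j =>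
        PGroup.MaxDeg.comm_zpow_zpow hz' i j
      have hvu : ∀ i j : ℤ, ⁅v ^ j, u ^ i⁆ = ⁅u, v⁆ ^ (-(i * j)) := fun i j => by
        rw [← commutatorElement_inv, huv, zpow_neg]
      have hcz : ∀ (r : ℤ) q, q * ⁅u, v⁆ ^ r = ⁅u, v⁆ ^ r * q := fun r q => ((show Commute q _ from hz' q).zpow_right r).eq
      rw [commutatorElement_mul_left_eq_conj_mul, commutatorElement_mul_right_eq_mul_conj,
        commutatorElement_mul_right_eq_mul_conj, huv, hvu,
        commutatorElement_eq_one_iff_mul_comm.2 ((Commute.refl v).zpow_zpow B' D₁).eq,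
        commutatorElement_eq_one_iff_mul_comm.2 ((Commute.refl u).zpow_zpow A' C').eq]
      have hconj : ∀ (q : S ⧸ D') (r : ℤ), q * ⁅u, v⁆ ^ r * q⁻¹ = ⁅u, v⁆ ^ r := fun q r => by rw [hcz r q, mul_inv_cancel_right]
      simp only [mul_one, one_mul, mul_inv_cancel_right, hconj]
      rw [← zpow_add]
      congr 1
      ring
    refine ⟨(k₁ ^ (A' * D₁ - B' * C'))⁻¹ * G k₁, ?_, by simp⟩
    rw [← hρ1, map_mul, map_inv, map_zpow, e1, inv_mul_cancel]
  obtain ⟨d, hd, hσk⟩ := hσk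
  set Δ := A' * D₁ - B' * C'
  have hdy : ∀ y : S, ⁅d, y⁆ = 1 := fun y => commutatorElement_eq_one_iff_mul_comm.2
    (Subtype.ext ((mem_Zc.1 (c.D_le_Zc h hd)).2 y y.2).symm)
  have hdK : (d : Ω) ∈ K := f.LK (c.D_le h hd)
  have hkzK : ((k₁ ^ Δ : S) : Ω) ∈ K := by rw [SubgroupClass.coe_zpow]; exact K.zpow_mem hk₁K _
  have ek : ∀ y : S, ⁅G k₁, y⁆ = ⁅k₁, y⁆ ^ Δ := fun y => by
    rw [hσk, hmull _ _ hdK hkzK, hdy, mul_one, hzl _ hk₁K]
  have hz3 : ∀ i : ℤ, z₀ ^ i = 1 ↔ (3 : ℤ) ∣ i := fun i => by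
    rw [← orderOf_dvd_iff_zpow_eq_one, hz₀ord]; rfl
  have h31 : (3 : ℤ) ∣ C' * Δ := by
    have e := congrArg G hks₁
    rw [map_commutatorElement G, map_one, ek, hσs, (ev C' D₁ κ₂ hκ₂).1, ← zpow_mul, hz3] at e
    exact e
  have h32 : ¬ (3 : ℤ) ∣ A' * Δ := by
    intro hdvd
    refine hz₀ (hG ?_)
    rw [map_one, map_commutatorElement G, ek, hσa, (ev A' B' κ₁ hκ₁).1, ← zpow_mul, hz3]
    exact hdvd
  have hC3 : (3 : ℤ) ∣ C' := by
    rcases (Nat.prime_iff_prime_int.1 Nat.prime_three).dvd_mul.1 h31 with h1 | h1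
    · exact h1
    · exact absurd (dvd_mul_of_dvd_right h1 A') h32
  -- the image of `ws`
  obtain ⟨fk, l, hl, hσw⟩ := hKdec (G ws) (hGK ws hwK)
  obtain ⟨e, d', hd', rfl⟩ := hLdec l hl
  have hweight : (3 : ℤ) ∣ mz * (A' * Δ) - (fk * C' + e * (mz * D₁)) := by
    have e1 := congrArg G hmz
    rw [map_zpow, map_commutatorElement G k₁ as, ek, hσa, (ev A' B' κ₁ hκ₁).1, map_commutatorElement G ws s₁, hσw,
      ← zpow_mul, ← zpow_mul] at e1
    have hd'y : ∀ y : S, ⁅d', y⁆ = 1 := fun y => commutatorElement_eq_one_iff_mul_comm.2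
      (Subtype.ext ((mem_Zc.1 (c.D_le_Zc h hd')).2 y y.2).symm)
    have hwzK : ((ws ^ e : S) : Ω) ∈ K := by rw [SubgroupClass.coe_zpow]; exact K.zpow_mem hwK _
    have hd'K : (d' : Ω) ∈ K := f.LK (c.D_le h hd')
    have hkfK : ((k₁ ^ fk : S) : Ω) ∈ K := by rw [SubgroupClass.coe_zpow]; exact K.zpow_mem hk₁K _
    rw [hmull _ _ (by rw [Subgroup.coe_mul]; exact K.mul_mem hwzK hd'K) hkfK, hmull _ _ hd'K hwzK, hd'y, mul_one,
      hzl _ hk₁K, hzl _ hwK, hσs, (ev C' D₁ κ₂ hκ₂).1, (ev C' D₁ κ₂ hκ₂).2, ← zpow_mul, ← zpow_mul, ← zpow_add,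
      zpow_eq_zpow_iff_modEq, hz₀ord, Int.modEq_iff_dvd] at e1
    obtain ⟨q, hq⟩ := e1
    exact ⟨-q, by push_cast at hq; linear_combination -hq⟩
  have he : (3 : ℤ) ∣ e - 1 := by
    simp only [Δ] at h32 hweight
    rw [show (3 : ℤ) = ((3 : ℕ) : ℤ) from rfl, ← ZMod.intCast_zmod_eq_zero_iff_dvd _ 3] at h32 hweight hC3 hmz3 ⊢
    push_cast at h32 hweight hC3 hmz3 ⊢
    revert hweight
    revert h32
    revert hmz3
    revert hC3
    generalize (A' : ZMod 3) = x₁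
    generalize (B' : ZMod 3) = x₂
    generalize (C' : ZMod 3) = x₃
    generalize (D₁ : ZMod 3) = x₄
    generalize (fk : ZMod 3) = x₅
    generalize (e : ZMod 3) = x₆
    generalize (mz : ZMod 3) = x₇
    intro h3 h4 h5 h6
    exact three_weight_aux _ _ _ _ _ _ _ h3 h4 h5 h6
  show χ₀ (G ws) = χ₀ ws
  have hk0 : χ₀ k₁ = 1 := by simp [χ₀, hθk]
  have hd0 : χ₀ d' = 1 := by simp [χ₀, hθD d' hd']
  rw [hσw, map_mul, map_mul, map_zpow, map_zpow, hk0, one_zpow, one_mul, hd0, mul_one]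
  obtain ⟨q, hq⟩ := he
  rw [show e = 1 + 3 * q by linarith, zpow_add, zpow_one, zpow_mul,
    show χ₀ ws ^ (3 : ℤ) = 1 by exact_mod_cast hX _, one_zpow, mul_one]

end CfsgLib.Fsys.OrderPFive
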