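import Cfsg.Agent.Lib.FusionSystem.OrderPFive.Cube

/-!
The fixed point, the torus and the extension property of an elementary essential subgroup of order `p ^ 3`.
-/

set_option autoImplicit false
set_option linter.unusedSectionVars false
set_option linter.style.haveILetI false

open Cfsg Cfsg.FusionSystem
open CfsgLib.Fsys.CentralIndex (Zc mem_Zc mem_Zc_iff_center exists_zpow_eq shift_zpow)
open scoped commutatorElement

namespace CfsgLib.Fsys.OrderPFive

variable {Ω : Type*} [Group Ω] {S : Subgroup Ω} [Finite S] {p : ℕ} [hp : Fact p.Prime]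
  {F : FusionSystem S} {E L : Subgroup Ω} {n : Ω} (h : Five p F) (c : Cube p F E L n)
include h c

theorem Cube.conj_mem {y : Ω} (hy : y ∈ normalizerIn S E) {x : Ω} (hx : x ∈ E) : y * x * y⁻¹ ∈ E :=
  (Subgroup.mem_normalizer_iff.1 hy.2 x).1 hx

theorem Cube.gen : Subgroup.zpowers n ⊔ E = normalizerIn S E := by
  have hle : Subgroup.zpowers n ⊔ E ≤ normalizerIn S E :=
    sup_le (Subgroup.zpowers_le.2 c.mem) (le_normalizerIn c.ess.1.1)
  haveI := finite_of_le_base (hle.trans normalizerIn_le)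
  haveI := finite_of_le_base (normalizerIn_le (S := S) (P := E))
  refine Subgroup.eq_of_le_of_card_ge hle ?_
  obtain ⟨i, hi⟩ := IsPGroup.iff_card.1 (h.hS.to_le (hle.trans normalizerIn_le))
  have h3 := card_lt_of_lt' (hle.trans normalizerIn_le)
    (lt_of_le_not_ge (le_sup_right : E ≤ Subgroup.zpowers n ⊔ E)
      fun e => c.not_mem (e (Subgroup.mem_sup_left (Subgroup.mem_zpowers n))))
  rw [c.card, hi, Nat.pow_lt_pow_iff_right hp.out.one_lt] at h3
  rw [c.Ncard, hi]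
  exact Nat.pow_le_pow_right hp.out.pos h3

theorem Cube.L_comm {l : Ω} (hl : l ∈ L) {y : Ω} (hy : y ∈ normalizerIn S E) : y * l = l * y := by
  have hle : Subgroup.zpowers n ⊔ E ≤ Subgroup.centralizer {l} :=
    sup_le (Subgroup.zpowers_le.2 (Subgroup.mem_centralizer_singleton_iff.2 ((c.fix l (c.le hl)).2 hl)))
      fun x hx => Subgroup.mem_centralizer_singleton_iff.2 (c.comm x hx l (c.le hl))
  exact Subgroup.mem_centralizer_singleton_iff.1 (hle ((c.gen h).ge hy))

theorem Cube.delta_mem {x : Ω} (hx : x ∈ E) : delta n x ∈ L := by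
  have hL : Nat.card E ≤ p * Nat.card L := by rw [c.card, c.Lcard, ← pow_succ']
  exact shift_step h.hS c.ess.1.1 le_rfl c.le hL (fun m hm l hl => c.Lnormal m (c.ess.1.1 hm) l hl) c.mem
    (c.Lnormal n c.mem.1) (fun b hb => c.conj_mem h c.mem hb) hx

theorem Cube.delta_mul {x y : Ω} (hx : x ∈ E) (hy : y ∈ E) : delta n (x * y) = delta n x * delta n y := by
  have hy' := c.conj_mem h c.mem hy
  have h1 := c.comm _ (c.le (c.delta_mem h hx)) y⁻¹ (E.inv_mem hy)
  unfold delta at h1 ⊢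
  calc (x * y)⁻¹ * (n * (x * y) * n⁻¹) = y⁻¹ * (x⁻¹ * (n * x * n⁻¹)) * (n * y * n⁻¹) := by group
    _ = x⁻¹ * (n * x * n⁻¹) * (y⁻¹ * (n * y * n⁻¹)) := by rw [← h1]; group

theorem Cube.delta_eq_one_iff {x : Ω} (hx : x ∈ E) : delta n x = 1 ↔ x ∈ L := by
  rw [← c.fix x hx, delta, inv_mul_eq_one, eq_comm, mul_inv_eq_iff_eq_mul]

/-- The image of the shift. -/
def Cube.D : Subgroup Ω where
  carrier := {z | ∃ x ∈ E, delta n x = z}
  one_mem' := ⟨1, E.one_mem, by simp [delta]⟩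
  mul_mem' := fun {a b} ⟨x, hx, ha⟩ ⟨y, hy, hb⟩ => ⟨x * y, E.mul_mem hx hy, by rw [c.delta_mul h hx hy, ha, hb]⟩
  inv_mem' := fun {a} ⟨x, hx, ha⟩ => ⟨x⁻¹, E.inv_mem hx, by
    refine eq_inv_of_mul_eq_one_left ?_
    rw [← ha, ← c.delta_mul h (E.inv_mem hx) hx]
    simp [delta]⟩

theorem Cube.D_le : c.D h ≤ L := fun _ ⟨x, hx, e⟩ => e ▸ c.delta_mem h hx

theorem Cube.card_D : Nat.card (c.D h) = p := by
  haveI := finite_of_le_base c.ess.1.1
  let f : E →* c.D h := MonoidHom.mk' (fun x => ⟨delta n x, x, x.2, rfl⟩) fun x y =>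
    Subtype.ext (c.delta_mul h x.2 y.2)
  have hf : Function.Surjective f := fun ⟨z, x, hx, e⟩ => ⟨⟨x, hx⟩, Subtype.ext e⟩
  have hker : f.ker = L.subgroupOf E := by
    ext x
    rw [MonoidHom.mem_ker, Subgroup.mem_subgroupOf, ← c.delta_eq_one_iff h x.2]
    exact ⟨fun e => congrArg Subtype.val e, fun e => Subtype.ext e⟩
  have h1 := Subgroup.card_mul_index f.ker
  rw [Subgroup.index_ker, MonoidHom.range_eq_top.2 hf, Subgroup.card_top, hker,
    Nat.card_congr (Subgroup.subgroupOfEquivOfLe c.le).toEquiv, c.Lcard, c.card, pow_succ p 2] at h1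
  exact Nat.eq_of_mul_eq_mul_left (pow_pos hp.out.pos 2) h1

/-- The transvection as an element of `Aut_F(E)`. -/
noncomputable def Cube.t : MulAut E := conjAut E c.mem.2

theorem Cube.t_mem : c.t ∈ F.autGroup E :=
  autInducedBy_le_autGroup c.ess.1.1 (conjAut_mem_autInducedBy c.mem.2 c.mem.1)

theorem Cube.t_apply {x : Ω} (hx : x ∈ E) : autFn c.t x = x * delta n x := by
  rw [show autFn c.t x = ((c.t ⟨x, hx⟩ : E) : Ω) from autFn_coe c.t ⟨x, hx⟩, Cube.t, conjAut_coe, delta,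
    mul_inv_cancel_left]

theorem Cube.t_zpow {x : Ω} (hx : x ∈ E) (i : ℤ) : autFn (c.t ^ i) x = x * delta n x ^ i := by
  have h1 : c.t ⟨x, hx⟩ = ⟨x, hx⟩ * ⟨delta n x, c.le (c.delta_mem h hx)⟩ := Subtype.ext (by
    rw [← autFn_coe c.t ⟨x, hx⟩]
    exact c.t_apply h hx)
  have h2 : c.t ⟨delta n x, c.le (c.delta_mem h hx)⟩ = ⟨delta n x, c.le (c.delta_mem h hx)⟩ := Subtype.ext (by
    rw [← autFn_coe c.t ⟨delta n x, c.le (c.delta_mem h hx)⟩, c.t_apply h (c.le (c.delta_mem h hx)),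
      (c.delta_eq_one_iff h (c.le (c.delta_mem h hx))).2 (c.delta_mem h hx), mul_one])
  have h3 := congrArg Subtype.val (shift_zpow h1 h2 i)
  rw [← autFn_coe (c.t ^ i) ⟨x, hx⟩] at h3
  simpa using h3

/-- The Sylow subgroup of the automizer is generated by the transvection. -/
theorem Cube.sylow {Q : Subgroup (F.autGroup E)} (hQ : IsPGroup p Q) (ht : ⟨c.t, c.t_mem h⟩ ∈ Q) :
    ∀ q ∈ Q, (q : MulAut E) ∈ Subgroup.zpowers c.t := by
  classical
  haveI := finite_of_le_base c.ess.1.1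
  obtain ⟨-, R, hR⟩ := (fullyNormalized_good h.hS h.hF c.ess.2.1).1
  set T : F.autGroup E := ⟨c.t, c.t_mem h⟩
  have hRle : (R : Subgroup (F.autGroup E)) ≤ Subgroup.zpowers T := by
    rw [hR]
    intro q hq
    obtain ⟨g, hg, hgq⟩ := mem_autInducedBy.1 (Subgroup.mem_subgroupOf.1 hq)
    let ψ : normalizerIn S E →* MulAut E := E.normalizerMonoidHom.comp (Subgroup.inclusion inf_le_right)
    have hgen : normalizerIn S E ≤ ((Subgroup.zpowers c.t).comap ψ).map (normalizerIn S E).subtype := by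
      refine (c.gen h).ge.trans ?_
      refine sup_le (Subgroup.zpowers_le.2 ⟨⟨n, c.mem⟩, Subgroup.mem_zpowers c.t, rfl⟩) fun e he => ?_
      refine ⟨⟨e, le_normalizerIn c.ess.1.1 he⟩, ?_, rfl⟩
      show ψ _ ∈ Subgroup.zpowers c.t
      rw [show ψ ⟨e, le_normalizerIn c.ess.1.1 he⟩ = 1 from MulEquiv.ext fun x => Subtype.ext (by
        show e * x * e⁻¹ = x
        rw [c.comm e he x x.2, mul_inv_cancel_right])]
      exact one_mem _
    obtain ⟨g', hg', hgg'⟩ := hgen (⟨hg, mem_normalizer_of_autEq hgq⟩ : g ∈ normalizerIn S E)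
    obtain ⟨i, hi⟩ := Subgroup.mem_zpowers_iff.1 (hg' : ψ g' ∈ Subgroup.zpowers c.t)
    refine ⟨i, Subtype.ext (MulEquiv.ext fun x => Subtype.ext ?_)⟩
    show ((((T ^ i : F.autGroup E) : MulAut E) x : E) : Ω) = _
    rw [SubgroupClass.coe_zpow, hi, hgq x, show g = ((g' : normalizerIn S E) : Ω) from hgg'.symm]
    rfl
  obtain ⟨R', hR'⟩ := hQ.exists_le_sylow
  have hT : Subgroup.zpowers T ≤ Q := Subgroup.zpowers_le.2 ht
  haveI : Finite (F.autGroup E) := inferInstance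
  have hQc : Nat.card Q ≤ Nat.card (Subgroup.zpowers T) := by
    refine ((Subgroup.card_le_of_le hR').trans ?_)
    rw [Sylow.card_eq_multiplicity, ← Sylow.card_eq_multiplicity R]
    exact Subgroup.card_le_of_le hRle
  intro q hq
  obtain ⟨i, hi⟩ := Subgroup.mem_zpowers_iff.1 ((Subgroup.eq_of_le_of_card_ge hT hQc).ge hq)
  exact ⟨i, by rw [← hi]; rfl⟩

/-- Two transvections stabilizing a common series have the same axis. -/
theorem Cube.key {α : MulAut E} (hα : α ∈ F.autGroup E) (hD : ∀ z ∈ c.D h, autFn α z ∈ L) :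
    ∀ l ∈ L, autFn α l ∈ L := by
  haveI := finite_of_le_base c.ess.1.1
  set K' := L.comap (E.subtype.comp (α : E →* E))
  set D' := (c.D h).subgroupOf E
  have hK' : ∀ x : E, x ∈ K' ↔ ((α x : E) : Ω) ∈ L := fun x => Iff.rfl
  have hDK : D' ≤ K' := fun z hz => by
    rw [hK', ← autFn_coe α z]
    exact hD _ hz
  let Q : Subgroup (F.autGroup E) :=
    { carrier := {a | (∀ x : E, x⁻¹ * (a : MulAut E) x ∈ K') ∧ (∀ k ∈ K', k⁻¹ * (a : MulAut E) k ∈ D') ∧
        ∀ z ∈ D', (a : MulAut E) z = z}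
      one_mem' := ⟨fun x => by simp, fun k _ => by simp, fun z _ => rfl⟩
      mul_mem' := fun {a b} ha hb => by
        have hbK : ∀ k ∈ K', (b : MulAut E) k ∈ K' := fun k hk => by
          have := K'.mul_mem hk (hDK (hb.2.1 k hk)); rwa [mul_inv_cancel_left] at this
        refine ⟨fun x => ?_, fun k hk => ?_, fun z hz => ?_⟩
        · rw [Subgroup.coe_mul, MulAut.mul_apply, show x⁻¹ * (a : MulAut E) ((b : MulAut E) x) =
            (x⁻¹ * (b : MulAut E) x) * (((b : MulAut E) x)⁻¹ * (a : MulAut E) ((b : MulAut E) x)) by group]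
          exact mul_mem (hb.1 x) (ha.1 _)
        · rw [Subgroup.coe_mul, MulAut.mul_apply, show k⁻¹ * (a : MulAut E) ((b : MulAut E) k) =
            (k⁻¹ * (b : MulAut E) k) * (((b : MulAut E) k)⁻¹ * (a : MulAut E) ((b : MulAut E) k)) by group]
          exact mul_mem (hb.2.1 k hk) (ha.2.1 _ (hbK k hk))
        · rw [Subgroup.coe_mul, MulAut.mul_apply, hb.2.2 z hz, ha.2.2 z hz]
      inv_mem' := fun {a} ha => by
        have hfz : ∀ z ∈ D', (a : MulAut E)⁻¹ z = z := fun z hz =>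
          (congrArg ((a : MulAut E)⁻¹ : MulAut E) (ha.2.2 z hz).symm).trans (MulAut.inv_apply_self _ _ _)
        refine ⟨fun x => ?_, fun k hk => ?_, fun z hz => ?_⟩
        · have h1 := inv_mem (ha.1 ((a : MulAut E)⁻¹ x))
          rwa [MulAut.apply_inv_self, mul_inv_rev, inv_inv] at h1
        · have hk' : (a : MulAut E)⁻¹ k ∈ K' := by
            have h1 := inv_mem (ha.1 ((a : MulAut E)⁻¹ k))
            rw [MulAut.apply_inv_self, mul_inv_rev, inv_inv] at h1
            have := K'.mul_mem hk h1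
            rwa [mul_inv_cancel_left] at this
          have h1 := inv_mem (ha.2.1 _ hk')
          rwa [MulAut.apply_inv_self, mul_inv_rev, inv_inv] at h1
        · exact hfz z hz }
  have hQp : IsPGroup p Q := isPGroup_of_forall_coprime fun a ha => by
    have hco : (orderOf ((a : F.autGroup E) : MulAut E)).Coprime p := by
      rwa [Subgroup.orderOf_coe, Subgroup.orderOf_coe]
    have hEp : IsPGroup p E := h.hS.to_le c.ess.1.1
    have hk : ∀ k ∈ K', ((a : F.autGroup E) : MulAut E) k = k := fun k hk =>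
      fixed_of_fixed_shift hEp hco (a.2.2.2 _ (a.2.2.1 k hk))
    refine Subtype.ext (Subtype.ext (MulEquiv.ext fun x => ?_))
    exact fixed_of_fixed_shift hEp hco (hk _ (a.2.1 x))
  have htD : ∀ x : E, x⁻¹ * c.t x ∈ D' := fun x => by
    refine ⟨x, x.2, ?_⟩
    show delta n x = ((x⁻¹ * c.t x : E) : Ω)
    rw [Subgroup.coe_mul, Subgroup.coe_inv, ← autFn_coe c.t x, c.t_apply h x.2, inv_mul_cancel_left]
  have htfix : ∀ x : E, (x : Ω) ∈ L → c.t x = x := fun x hx => Subtype.ext (by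
    rw [← autFn_coe c.t x, c.t_apply h x.2, (c.delta_eq_one_iff h x.2).2 hx, mul_one])
  have htQ : (⟨c.t, c.t_mem h⟩ : F.autGroup E) ∈ Q :=
    ⟨fun x => hDK (htD x), fun k _ => htD k, fun z hz => htfix z (c.D_le h hz)⟩
  set t' : MulAut E := α⁻¹ * c.t * α
  have hfix' : ∀ k ∈ K', t' k = k := fun k hk => by
    show α⁻¹ (c.t (α k)) = k
    rw [htfix _ ((hK' k).1 hk), MulAut.inv_apply_self]
  have ht'Q : (⟨t', mul_mem (mul_mem (inv_mem hα) (c.t_mem h)) hα⟩ : F.autGroup E) ∈ Q := by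
    refine ⟨fun x => (hK' _).2 ?_, fun k hk => by rw [hfix' k hk, inv_mul_cancel]; exact one_mem _,
      fun z hz => hfix' z (hDK hz)⟩
    have : α (x⁻¹ * t' x) = (α x)⁻¹ * c.t (α x) := by
      show α (x⁻¹ * α⁻¹ (c.t (α x))) = _
      rw [map_mul, map_inv, MulAut.apply_inv_self]
    show ((α (x⁻¹ * t' x) : E) : Ω) ∈ L
    rw [this]
    exact c.D_le h (htD (α x))
  obtain ⟨i, hi⟩ := Subgroup.mem_zpowers_iff.1 (c.sylow h hQp htQ _ ht'Q)
  intro l hl
  set x : E := ⟨l, c.le hl⟩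
  have h1 : (c.t ^ i) x = x := zpow_mem (show c.t ∈ MulAction.stabilizer (MulAut E) x from htfix x hl) i
  have h2 : c.t (α x) = α x := by
    have h3 : t' x = x := (congrArg (fun a : MulAut E => a x) hi).symm.trans h1
    have h4 := congrArg α h3
    rwa [show α (t' x) = c.t (α x) from MulAut.apply_inv_self _ _ _] at h4
  rw [show autFn α l = ((α x : E) : Ω) from autFn_coe α x, ← c.delta_eq_one_iff h (α x).2]
  have h3 := c.t_apply h (α x).2
  rw [autFn_coe c.t (α x), h2] at h3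
  exact mul_left_cancel (a := ((α x : E) : Ω)) (h3.symm.trans (mul_one _).symm)

theorem Cube.D_normal : ∀ s ∈ S, ∀ z ∈ c.D h, s * z * s⁻¹ ∈ c.D h := by
  set N := normalizerIn S E
  have hNS : N ≤ S := normalizerIn_le
  haveI : (N.subgroupOf S).Normal := by
    refine Subgroup.normal_of_index_eq_minFac_card ?_
    rw [h.card, hp.out.pow_minFac (by norm_num)]
    have := Subgroup.card_mul_index (N.subgroupOf S)
    rw [Nat.card_congr (Subgroup.subgroupOfEquivOfLe hNS).toEquiv, c.Ncard, h.card, pow_succ p 4] at this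
    exact Nat.eq_of_mul_eq_mul_left (pow_pos hp.out.pos 4) this
  have hDN : ∀ d ∈ c.D h, ∀ y ∈ N, y * d = d * y := fun d hd y hy => c.L_comm h (c.D_le h hd) hy
  -- commutators of the normalizer lie in `D`
  have hcom : ∀ u ∈ N, ∀ v ∈ N, ⁅u, v⁆ ∈ c.D h := by
    set D' := (c.D h).subgroupOf N
    haveI : D'.Normal := ⟨fun d hd y => by
      rw [Subgroup.mem_subgroupOf] at hd ⊢
      simpa [hDN _ hd y y.2] using hd⟩
    let π := QuotientGroup.mk' D'
    have hEN : E ≤ N := le_normalizerIn c.ess.1.1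
    let C : Subgroup Ω := (Subgroup.center (N ⧸ D')).comap π |>.map N.subtype
    have hsub : N ≤ C := by
      refine (c.gen h).ge.trans ?_
      have base : ∀ (a : Ω) (ha : a ∈ N), (∀ b, ∀ hb : b ∈ N, b = n ∨ b ∈ E → π ⟨b, hb⟩ * π ⟨a, ha⟩ = π ⟨a, ha⟩ * π ⟨b, hb⟩) →
          a ∈ C := by
        intro a ha hb
        refine ⟨⟨a, ha⟩, Subgroup.mem_center_iff.2 fun q => ?_, rfl⟩
        obtain ⟨⟨b, hbN⟩, rfl⟩ := QuotientGroup.mk'_surjective D' q
        have hgen : N ≤ ((Subgroup.centralizer {π ⟨a, ha⟩}).comap π).map N.subtype := by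
          refine (c.gen h).ge.trans ?_
          exact sup_le (Subgroup.zpowers_le.2 ⟨⟨n, c.mem⟩,
            Subgroup.mem_centralizer_singleton_iff.2 (hb n c.mem (Or.inl rfl)), rfl⟩) fun e he =>
              ⟨⟨e, hEN he⟩, Subgroup.mem_centralizer_singleton_iff.2 (hb e (hEN he) (Or.inr he)), rfl⟩
        obtain ⟨⟨b', hb'⟩, hb'', e⟩ := hgen hbN
        obtain rfl : b' = b := e
        exact Subgroup.mem_centralizer_singleton_iff.1 hb''
      have hne : ∀ e, ∀ he : e ∈ E, π ⟨n, c.mem⟩ * π ⟨e, hEN he⟩ = π ⟨e, hEN he⟩ * π ⟨n, c.mem⟩ := fun e he => by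
        rw [← map_mul, ← map_mul]
        symm
        refine (QuotientGroup.eq).2 ?_
        refine Subgroup.mem_subgroupOf.2 ?_
        refine ⟨e, he, ?_⟩
        show e⁻¹ * (n * e * n⁻¹) = ((((⟨e, hEN he⟩ * ⟨n, c.mem⟩ : N))⁻¹ * (⟨n, c.mem⟩ * ⟨e, hEN he⟩) : N) : Ω)
        simp only [Subgroup.coe_mul, Subgroup.coe_inv, mul_inv_rev]
        have hd := hDN _ ⟨e, he, rfl⟩ n c.mem
        calc e⁻¹ * (n * e * n⁻¹) = (n⁻¹ * (n * delta n e)) := by rw [inv_mul_cancel_left]
          _ = n⁻¹ * (delta n e * n) := by rw [hd]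
          _ = n⁻¹ * e⁻¹ * (n * e) := by simp only [delta]; group
      refine sup_le (Subgroup.zpowers_le.2 (base n c.mem fun b hb hor => ?_)) fun a ha => base a (hEN ha) fun b hb hor => ?_
      · rcases hor with rfl | hbE
        · rfl
        · exact (hne b hbE).symm
      · rcases hor with rfl | hbE
        · exact hne a ha
        · rw [← map_mul, ← map_mul]
          exact congrArg π (Subtype.ext (c.comm b hbE a ha))
    intro u hu v hv
    obtain ⟨⟨u', hu'⟩, huc, e⟩ := hsub hu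
    obtain rfl : u' = u := e
    have h1 : π ⁅(⟨u', hu'⟩ : N), ⟨v, hv⟩⁆ = 1 := by
      rw [map_commutatorElement, commutatorElement_eq_one_iff_mul_comm]
      exact (Subgroup.mem_center_iff.1 huc _).symm
    have := Subgroup.mem_subgroupOf.1 ((QuotientGroup.eq_one_iff _).1 h1)
    simpa [commutatorElement_def] using this
  rintro s hs z ⟨x, hx, rfl⟩
  have hN' : ∀ y ∈ N, s * y * s⁻¹ ∈ N := fun y hy => by
    have := ‹(N.subgroupOf S).Normal›.conj_mem ⟨y, hNS hy⟩ hy ⟨s, hs⟩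
    simpa [Subgroup.mem_subgroupOf] using this
  have := hcom _ (N.inv_mem (hN' x (le_normalizerIn c.ess.1.1 hx))) _ (hN' n c.mem)
  rwa [show s * delta n x * s⁻¹ = ⁅(s * x * s⁻¹)⁻¹, s * n * s⁻¹⁆ by
    simp [commutatorElement_def, delta, mul_assoc]]

theorem Cube.D_le_Zc : c.D h ≤ Zc S :=
  small_normal_le_Zc h.hS ((c.D_le h).trans (c.le.trans c.ess.1.1)) (c.card_D h).le (c.D_normal h)

/-- Stabilizers of the hyperplane preserve the shift image. -/
theorem Cube.pres_D {α : MulAut E} (hα : α ∈ F.autGroup E) (hL : ∀ l ∈ L, autFn α l ∈ L) :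
    ∀ z ∈ c.D h, autFn α z ∈ c.D h := by
  haveI := finite_of_le_base c.ess.1.1
  let Q : Subgroup (F.autGroup E) :=
    { carrier := {a | (∀ x ∈ E, x⁻¹ * autFn (a : MulAut E) x ∈ L) ∧ ∀ l ∈ L, autFn (a : MulAut E) l = l}
      one_mem' := ⟨fun x hx => by
          rw [show autFn ((1 : F.autGroup E) : MulAut E) x = x from autFn_coe 1 ⟨x, hx⟩, inv_mul_cancel]
          exact L.one_mem, fun l hl => autFn_coe 1 ⟨l, c.le hl⟩⟩
      mul_mem' := fun {a b} ha hb => ⟨fun x hx => by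
          rw [Subgroup.coe_mul, autFn_mul _ _ hx]
          have := L.mul_mem (hb.1 x hx) (ha.1 _ (autFn_mem (b : MulAut E) hx))
          rwa [mul_assoc, mul_inv_cancel_left] at this,
        fun l hl => by rw [Subgroup.coe_mul, autFn_mul _ _ (c.le hl), hb.2 l hl, ha.2 l hl]⟩
      inv_mem' := fun {a} ha => ⟨fun x hx => by
          have := L.inv_mem (ha.1 _ (autFn_mem ((a : MulAut E)⁻¹) hx))
          rw [autFn_apply_inv _ hx, mul_inv_rev, inv_inv] at this
          exact this,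
        fun l hl => by
          conv_lhs => rw [← ha.2 l hl]
          exact autFn_inv_apply _ (c.le hl)⟩ }
  have hQp : IsPGroup p Q := isPGroup_of_forall_coprime fun a ha => by
    have hco : (orderOf ((a : F.autGroup E) : MulAut E)).Coprime p := by
      rwa [Subgroup.orderOf_coe, Subgroup.orderOf_coe]
    refine Subtype.ext (Subtype.ext (MulEquiv.ext fun x => ?_))
    refine fixed_of_fixed_shift (h.hS.to_le c.ess.1.1) hco (Subtype.ext ?_)
    have h1 : ((x⁻¹ * ((a : F.autGroup E) : MulAut E) x : E) : Ω) ∈ L := by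
      rw [Subgroup.coe_mul, Subgroup.coe_inv, ← autFn_coe]
      exact a.2.1 x x.2
    rw [← autFn_coe ((a : F.autGroup E) : MulAut E)]
    exact a.2.2 _ h1
  have htQ : (⟨c.t, c.t_mem h⟩ : F.autGroup E) ∈ Q := ⟨fun x hx => by
      rw [c.t_apply h hx, inv_mul_cancel_left]; exact c.delta_mem h hx,
    fun l hl => by rw [c.t_apply h (c.le hl), (c.delta_eq_one_iff h (c.le hl)).2 hl, mul_one]⟩
  have ht'Q : (⟨α⁻¹ * c.t * α, mul_mem (mul_mem (inv_mem hα) (c.t_mem h)) hα⟩ : F.autGroup E) ∈ Q := by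
    haveI := finite_of_le_base (c.le.trans c.ess.1.1)
    have hLi : ∀ l ∈ L, autFn α⁻¹ l ∈ L := fun l hl => by
      obtain ⟨⟨l', hl'⟩, e⟩ := Finite.surjective_of_injective
        (f := fun l : L => (⟨autFn α l, hL l l.2⟩ : L)) (fun a b e => Subtype.ext (by
          have e' := congrArg (autFn α⁻¹) (congrArg Subtype.val e :)
          rwa [autFn_inv_apply _ (c.le a.2), autFn_inv_apply _ (c.le b.2)] at e')) ⟨l, hl⟩
      rw [← show autFn α l' = l from congrArg Subtype.val e, autFn_inv_apply _ (c.le hl')]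
      exact hl'
    refine ⟨fun x hx => ?_, fun l hl => ?_⟩
    · have hy := autFn_mem α hx
      rw [autFn_mul _ _ hx, autFn_mul _ _ hy, c.t_apply h hy]
      have hf := (mem_autGroup_iff_fn c.ess.1.1).1 (inv_mem hα)
      rw [hf.map_mul hy (c.le (c.delta_mem h hy)), autFn_inv_apply _ hx, inv_mul_cancel_left]
      exact hLi _ (c.delta_mem h hy)
    · have hy := autFn_mem α (c.le hl)
      rw [autFn_mul _ _ (c.le hl), autFn_mul _ _ hy, c.t_apply h hy, (c.delta_eq_one_iff h hy).2 (hL l hl), mul_one,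
        autFn_inv_apply _ (c.le hl)]
  obtain ⟨i, hi⟩ := Subgroup.mem_zpowers_iff.1 (c.sylow h hQp htQ _ ht'Q)
  have hmap : ∀ x ∈ E, autFn α (delta n x ^ i) = delta n (autFn α x) := by
    intro x hx
    have hf := (mem_autGroup_iff_fn c.ess.1.1).1 hα
    have e1 : autFn α (autFn (c.t ^ i) x) = autFn c.t (autFn α x) := by
      rw [hi]
      have hy := autFn_mem α hx
      rw [autFn_mul _ _ hx, autFn_mul _ _ hy, autFn_apply_inv _ (autFn_mem _ hy)]
    rw [c.t_zpow h hx, hf.map_mul hx (E.zpow_mem (c.le (c.delta_mem h hx)) i), c.t_apply h (autFn_mem α hx)] at e1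
    exact mul_left_cancel e1
  haveI := finite_of_le_base ((c.D_le h).trans (c.le.trans c.ess.1.1))
  have hDle : ∀ d ∈ c.D h, ∃ z ∈ c.D h, autFn α z = d := by
    rintro d ⟨x, hx, rfl⟩
    refine ⟨delta n (autFn α⁻¹ x) ^ i, (c.D h).zpow_mem ⟨_, autFn_mem α⁻¹ hx, rfl⟩ i, ?_⟩
    rw [hmap _ (autFn_mem _ hx), autFn_apply_inv _ hx]
  intro z hz
  choose g hg hge using hDle
  let G : c.D h → c.D h := fun d => ⟨g d d.2, hg d d.2⟩
  obtain ⟨d, hd⟩ := Finite.surjective_of_injective (f := G) (fun a b e => by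
    refine Subtype.ext ?_
    rw [← hge a a.2, ← hge b b.2]
    exact congrArg (fun w : c.D h => autFn α (w : Ω)) e) ⟨z, hz⟩
  have e : g d d.2 = z := congrArg Subtype.val hd
  rw [← e, hge d d.2]
  exact d.2

/-- Stabilizers of the hyperplane preserve the centre. -/
theorem Cube.pres_Zc {α : MulAut E} (hα : α ∈ F.autGroup E) (hL : ∀ l ∈ L, autFn α l ∈ L) (hZL : Zc S ≤ L) :
    ∀ z ∈ Zc S, autFn α z ∈ Zc S := by
  haveI := finite_of_le_base (c.le.trans c.ess.1.1)
  haveI := finite_of_le_base (Zc_le_base (S := S))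
  obtain ⟨j, hj⟩ := IsPGroup.iff_card.1 (h.hS.to_le (Zc_le_base (S := S)))
  have h1 := Subgroup.card_le_of_le hZL
  rw [c.Lcard, hj, Nat.pow_le_pow_iff_right hp.out.one_lt] at h1
  have h2 := one_lt_card_Zc h
  rcases (show j ≤ 1 ∨ j = 2 by omega) with h3 | h3
  · have e : c.D h = Zc S := Subgroup.eq_of_le_of_card_ge (c.D_le_Zc h) (by
      rw [c.card_D h, hj]
      exact (Nat.pow_le_pow_right hp.out.pos h3).trans (pow_one p).le)
    rw [← e]
    exact c.pres_D h hα hL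
  · have e : Zc S = L := Subgroup.eq_of_le_of_card_ge hZL (by rw [c.Lcard, hj, h3])
    rw [e]
    exact hL

/-- Stabilizers of the hyperplane extend to `S`. -/
theorem Cube.ext (hZL : Zc S ≤ L) {α : MulAut E} (hα : α ∈ F.autGroup E) (hL : ∀ l ∈ L, autFn α l ∈ L) :
    ∃ β ∈ F.autGroup S, ∀ x ∈ E, autFn β x = autFn α x :=
  ext_cube h c.ess c.card c.Ncard c.le c.Lcard c.Lnormal hZL le_rfl (one_lt_card_Zc h) hα hL
    (c.pres_Zc h hα hL hZL)

/-- When the hyperplane is moved there is an invariant point off the shift image and a torus. -/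
theorem Cube.frame (hZL : Zc S ≤ L) {α₀ : MulAut E} (hα₀ : α₀ ∈ F.autGroup E) {l₀ : Ω} (hl₀ : l₀ ∈ L)
    (hmv : autFn α₀ l₀ ∉ L) :
    ∃ (C : Subgroup Ω) (a : Ω), C ≤ L ∧ Nat.card C = p ∧ (∀ α ∈ F.autGroup E, ∀ x ∈ C, autFn α x ∈ C) ∧
      a ∈ E ∧ a ∉ L ∧ (∀ z ∈ c.D h, z ∈ C → z = 1) ∧
      (∀ lam mu : ℤ, (p : ℤ) ∣ lam * mu - 1 → ∃ β ∈ F.autGroup S, (∀ x ∈ E, autFn β x ∈ E) ∧
        (∀ x ∈ C, autFn β x = x) ∧ (a ^ mu)⁻¹ * autFn β a ∈ C ∧ (∀ l ∈ L, (l ^ lam)⁻¹ * autFn β l ∈ C) ∧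
        ∀ z ∈ c.D h, autFn β z = z ^ lam) ∧
      Nat2 p (F.autGroup E) (C.subgroupOf E) ((⊥ : Subgroup Ω).subgroupOf E) c.t ∧
      ∀ [(C.subgroupOf E).Normal], fixLine (C.subgroupOf E) c.t = L.subgroupOf E := by
  classical
  have hES := c.ess.1.1
  haveI := finite_of_le_base hES
  haveI := finite_of_le_base (c.le.trans hES)
  have hDc := c.card_D h
  have hf₀ := (mem_autGroup_iff_fn hES).1 hα₀
  set L' := img (autFn α₀) L
  have hL'E : L' ≤ E := img_le fun x hx => autFn_mem α₀ (c.le hx)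
  have hL'c : Nat.card L' = p ^ 2 := by rw [(hf₀.mono c.le).card_img, c.Lcard]
  haveI := finite_of_le_base (hL'E.trans hES)
  -- a map sending the shift image into the hyperplane sends the hyperplane to itself
  have key' : ∀ γ ∈ F.autGroup E, (∀ z ∈ c.D h, autFn γ z ∈ L) → img (autFn γ) L = L := fun γ hγ hz =>
    (((mem_autGroup_iff_fn hES).1 hγ).mono c.le).img_eq_self (c.key h hγ hz)
  have hDL' : ¬ c.D h ≤ L' := fun hle => hmv (by
    have h1 := key' α₀⁻¹ (inv_mem hα₀) fun z hz => by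
      obtain ⟨l, hl, rfl⟩ := (hf₀.mono c.le).mem_img.1 (hle hz)
      rwa [autFn_inv_apply _ (c.le hl)]
    obtain ⟨l, hl, e⟩ := (((mem_autGroup_iff_fn hES).1 (inv_mem hα₀)).mono c.le).mem_img.1 (h1.ge hl₀)
    rw [← e, autFn_apply_inv _ (c.le hl)]
    exact hl)
  set C := L ⊓ L'
  have hCS : C ≤ S := inf_le_left.trans (c.le.trans hES)
  haveI := finite_of_le_base hCS
  have hsup : c.D h ⊔ L' = E := by
    have hle : c.D h ⊔ L' ≤ E := sup_le ((c.D_le h).trans c.le) hL'E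
    haveI := finite_of_le_base (hle.trans hES)
    refine Subgroup.eq_of_le_of_card_ge hle ?_
    obtain ⟨i, hi⟩ := IsPGroup.iff_card.1 (h.hS.to_le (hle.trans hES))
    have h3 := card_lt_of_lt' (hle.trans hES) (lt_of_le_not_ge (le_sup_right : L' ≤ c.D h ⊔ L')
      fun e => hDL' (le_sup_left.trans e))
    rw [hL'c, hi, Nat.pow_lt_pow_iff_right hp.out.one_lt] at h3
    rw [c.card, hi]
    exact Nat.pow_le_pow_right hp.out.pos h3
  -- invariance
  have hCγ : ∀ γ ∈ F.autGroup E, C ≤ img (autFn γ) L := by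
    intro γ hγ
    by_cases hz : ∀ z ∈ c.D h, autFn γ z ∈ L
    · rw [key' γ hγ hz]; exact inf_le_left
    push Not at hz
    obtain ⟨z, hz, hzL⟩ := hz
    set w := autFn γ z with hw
    have hwE : w ∈ E := autFn_mem γ (c.le (c.D_le h hz))
    obtain ⟨d, hd, l', hl', hdl⟩ : ∃ d ∈ c.D h, ∃ l' ∈ L', d * l' = w := by
      let R : Subgroup Ω :=
        { carrier := {x | ∃ d ∈ c.D h, ∃ l' ∈ L', d * l' = x}
          one_mem' := ⟨1, one_mem _, 1, one_mem _, mul_one 1⟩
          mul_mem' := by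
            rintro x y ⟨d, hd, l, hl, rfl⟩ ⟨d', hd', l', hl', rfl⟩
            exact ⟨d * d', mul_mem hd hd', l * l', mul_mem hl hl', by
              rw [mul_assoc, ← mul_assoc d' l l', c.comm d' (c.le (c.D_le h hd')) l (hL'E hl)]; group⟩
          inv_mem' := by
            rintro x ⟨d, hd, l, hl, rfl⟩
            exact ⟨d⁻¹, inv_mem hd, l⁻¹, inv_mem hl, by
              rw [mul_inv_rev, c.comm d⁻¹ (E.inv_mem (c.le (c.D_le h hd))) l⁻¹ (E.inv_mem (hL'E hl))]⟩ }
      have hle : c.D h ⊔ L' ≤ R := sup_le (fun x hx => ⟨x, hx, 1, one_mem _, mul_one x⟩)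
        fun x hx => ⟨1, one_mem _, x, hx, one_mul x⟩
      exact hle (hsup.ge hwE)
    have hne : delta n w ≠ 1 := fun e => hzL ((c.delta_eq_one_iff h hwE).1 e)
    haveI := finite_of_le_base ((c.D_le h).trans (c.le.trans hES))
    have hgen : Subgroup.zpowers (delta n w) = c.D h := Subgroup.eq_of_le_of_card_ge
      (Subgroup.zpowers_le.2 ⟨w, hwE, rfl⟩) (by
        rw [Nat.card_zpowers, hDc, orderOf_eq_prime (c.exp _ (c.le (c.delta_mem h hwE))) hne])
    obtain ⟨j, hj⟩ := Subgroup.mem_zpowers_iff.1 (hgen.ge hd)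
    set γ' := α₀⁻¹ * c.t ^ (-j) * γ
    have hγ' : γ' ∈ F.autGroup E :=
      mul_mem (mul_mem (inv_mem hα₀) (zpow_mem (c.t_mem h) _)) hγ
    have hγ'z : autFn γ' z ∈ L := by
      rw [autFn_mul _ _ (c.le (c.D_le h hz)), ← hw, autFn_mul _ _ hwE, c.t_zpow h hwE, zpow_neg, hj, ← hdl,
        c.comm d (c.le (c.D_le h hd)) l' (hL'E hl'), mul_inv_cancel_right]
      obtain ⟨l, hl, rfl⟩ := (hf₀.mono c.le).mem_img.1 hl'
      rwa [autFn_inv_apply _ (c.le hl)]
    have hfix : img (autFn γ') L = L := by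
      refine key' γ' hγ' fun z' hz' => ?_
      have hz1 : z ≠ 1 := fun e => hzL (by
        rw [hw, e, ((mem_autGroup_iff_fn hES).1 hγ).map_one]; exact L.one_mem)
      have hg : Subgroup.zpowers z = c.D h := Subgroup.eq_of_le_of_card_ge (Subgroup.zpowers_le.2 hz) (by
        rw [Nat.card_zpowers, hDc, orderOf_eq_prime (c.exp _ (c.le (c.D_le h hz))) hz1])
      obtain ⟨i, rfl⟩ := Subgroup.mem_zpowers_iff.1 (hg.ge hz')
      have hzE : z ∈ E := c.le (c.D_le h hz)
      rw [show autFn γ' (z ^ i) = autFn γ' z ^ i by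
        rw [← SubgroupClass.coe_zpow (⟨z, hzE⟩ : E) i, autFn_coe, autFn_coe γ' ⟨z, hzE⟩, map_zpow,
          SubgroupClass.coe_zpow]]
      exact L.zpow_mem hγ'z i
    intro x hx
    -- `γ L = t ^ j (α₀ L)`
    obtain ⟨l, hl, hlx⟩ := (hf₀.mono c.le).mem_img.1 hx.2
    obtain ⟨m, hm, hml⟩ := (((mem_autGroup_iff_fn hES).1 hγ').mono c.le).mem_img.1 (hfix.ge hl)
    refine (((mem_autGroup_iff_fn hES).1 hγ).mono c.le).mem_img.2 ⟨m, hm, ?_⟩
    have e : α₀ * γ' = c.t ^ (-j) * γ := by rw [← mul_assoc, mul_inv_cancel_left]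
    have e2 : autFn (α₀ * γ') m = autFn (c.t ^ (-j) * γ) m := by rw [e]
    rw [autFn_mul _ _ (c.le hm), hml, hlx, autFn_mul _ _ (c.le hm)] at e2
    have e3 := congrArg (autFn (c.t ^ j)) e2
    rw [← autFn_mul _ _ (autFn_mem γ (c.le hm)), ← zpow_add, add_neg_cancel, zpow_zero] at e3
    rw [show autFn (1 : MulAut E) (autFn γ m) = autFn γ m from
      autFn_coe 1 ⟨_, autFn_mem γ (c.le hm)⟩] at e3
    rw [← e3, c.t_zpow h (c.le hx.1), (c.delta_eq_one_iff h (c.le hx.1)).2 hx.1, one_zpow, mul_one]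
  have hCinv : ∀ α ∈ F.autGroup E, ∀ x ∈ C, autFn α x ∈ C := by
    intro α hα x hx
    have h1 : ∀ γ ∈ F.autGroup E, autFn α x ∈ img (autFn γ) L := fun γ hγ => by
      obtain ⟨l, hl, e⟩ := (((mem_autGroup_iff_fn hES).1 (mul_mem (inv_mem hα) hγ)).mono c.le).mem_img.1
        (hCγ _ (mul_mem (inv_mem hα) hγ) hx)
      refine (((mem_autGroup_iff_fn hES).1 hγ).mono c.le).mem_img.2 ⟨l, hl, ?_⟩
      rw [← e, ← autFn_mul _ _ (c.le hl), mul_inv_cancel_left]
    refine ⟨?_, h1 α₀ hα₀⟩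
    obtain ⟨l, hl, e⟩ := (((mem_autGroup_iff_fn hES).1 (F.autGroup E).one_mem).mono c.le).mem_img.1 (h1 1 (F.autGroup E).one_mem)
    rw [← e, show autFn (1 : MulAut E) l = l from autFn_coe 1 ⟨l, c.le hl⟩]
    exact hl
  have hCc : Nat.card C = p := by
    obtain ⟨i, hi⟩ := IsPGroup.iff_card.1 (h.hS.to_le hCS)
    have h1 := card_lt_of_lt' (c.le.trans hES) (lt_of_le_of_ne (inf_le_left : C ≤ L) fun e => hmv (by
      have heq : L = L' := Subgroup.eq_of_le_of_card_ge (inf_eq_left.1 e) (by rw [c.Lcard, hL'c])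
      exact heq.ge (mem_img_of_mem hl₀)))
    rw [c.Lcard, hi, Nat.pow_lt_pow_iff_right hp.out.one_lt] at h1
    have h2 : i ≠ 0 := fun e0 => by
      rw [e0, pow_zero, Subgroup.card_eq_one] at hi
      -- two hyperplanes of `E` meet
      have hinj : Function.Injective (fun q : L × L' => (⟨(q.1 : Ω) * q.2, E.mul_mem (c.le q.1.2) (hL'E q.2.2)⟩ : E)) := by
        rintro ⟨a, b⟩ ⟨a', b'⟩ e
        have e' : (a' : Ω)⁻¹ * a = b' * (b : Ω)⁻¹ := by
          rw [inv_mul_eq_iff_eq_mul, ← mul_assoc, eq_mul_inv_iff_mul_eq]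
          exact congrArg Subtype.val e
        have h3 : (a' : Ω)⁻¹ * a ∈ C := ⟨L.mul_mem (L.inv_mem a'.2) a.2, e' ▸ L'.mul_mem b'.2 (L'.inv_mem b.2)⟩
        rw [hi, Subgroup.mem_bot] at h3
        have ha : a = a' := Subtype.ext (inv_mul_eq_one.1 h3).symm
        subst ha
        exact Prod.ext rfl (Subtype.ext (mul_left_cancel (congrArg Subtype.val e)))
      have := Nat.card_le_card_of_injective _ hinj
      rw [Nat.card_prod, c.Lcard, hL'c, c.card, ← pow_add, Nat.pow_le_pow_iff_right hp.out.one_lt] at this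
      omega
    rw [hi, show i = 1 by omega, pow_one]
  have hDC : ∀ z ∈ c.D h, z ∈ C → z = 1 := fun z hz hzC => by
    by_contra hz1
    haveI := finite_of_le_base ((c.D_le h).trans (c.le.trans hES))
    have hg : Subgroup.zpowers z = c.D h := Subgroup.eq_of_le_of_card_ge (Subgroup.zpowers_le.2 hz) (by
      rw [Nat.card_zpowers, hDc, orderOf_eq_prime (c.exp _ (c.le (c.D_le h hz))) hz1])
    exact hDL' fun d hd => (hg.symm ▸ Subgroup.zpowers_le.2 hzC : c.D h ≤ C) hd |>.2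
  have hidx : (C.subgroupOf E).index = p ^ 2 := by
    have := Subgroup.card_mul_index (C.subgroupOf E)
    rw [Nat.card_congr (Subgroup.subgroupOfEquivOfLe (inf_le_left.trans c.le)).toEquiv, hCc, c.card,
      pow_succ' p 2] at this
    exact Nat.eq_of_mul_eq_mul_left hp.out.pos this
  have hnat : Nat2 p (F.autGroup E) (C.subgroupOf E) ((⊥ : Subgroup Ω).subgroupOf E) c.t :=
    nat2_mk h.hS h.hF c.ess (inf_le_left.trans c.le) bot_le hCinv
      (fun α hα x hx => by
        rw [Subgroup.mem_bot] at hx ⊢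
        rw [hx, ((mem_autGroup_iff_fn hES).1 hα).map_one])
      hidx (fun x hx => by rw [c.exp x hx]; exact C.one_mem)
      (fun a ha b hb => by rw [Subgroup.mem_bot, commutatorElement_eq_one_iff_mul_comm]; exact c.comm a ha b hb)
      c.mem c.not_mem
      (fun x hx => Subgroup.mem_bot.2 ((c.delta_eq_one_iff h (c.le hx.1)).2 hx.1))
      fun x hx => by rw [Subgroup.mem_bot.1 hx]; simp
  haveI := hnat.normal
  have hEp : IsPGroup p E := h.hS.to_le hES
  obtain ⟨hFidx, -⟩ := fixLine_spec hEp hnat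
  have hfl : fixLine (C.subgroupOf E) c.t = L.subgroupOf E := by
    symm
    have hle : L.subgroupOf E ≤ fixLine (C.subgroupOf E) c.t := fun x hx => mem_fixLine.2 (by
      rw [show c.t x = x from Subtype.ext (by
        rw [← autFn_coe c.t x, c.t_apply h x.2, (c.delta_eq_one_iff h x.2).2 hx, mul_one]), inv_mul_cancel]
      exact one_mem _)
    refine Subgroup.eq_of_le_of_card_ge hle ?_
    have h1 := Subgroup.card_mul_index (fixLine (C.subgroupOf E) c.t)
    have h2 := Subgroup.card_mul_index (L.subgroupOf E)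
    rw [hFidx, c.card, pow_succ p 2] at h1
    rw [Nat.card_congr (Subgroup.subgroupOfEquivOfLe c.le).toEquiv, c.Lcard]
    exact (Nat.eq_of_mul_eq_mul_right hp.out.pos h1).le
  set l₀' : E := ⟨l₀, c.le hl₀⟩
  have hmv' : α₀ l₀' ∉ fixLine (C.subgroupOf E) c.t := by
    rw [hfl, Subgroup.mem_subgroupOf, ← autFn_coe α₀ l₀']
    exact hmv
  obtain ⟨htor, -⟩ := exists_torus hEp hnat hα₀ (l₀ := l₀') (by rw [hfl]; exact hl₀) hmv'
  refine ⟨C, autFn α₀ l₀, inf_le_left, hCc, hCinv, autFn_mem α₀ (c.le hl₀), hmv, hDC, fun lam mu hlm => ?_,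
    hnat, fun {_} => hfl⟩
  obtain ⟨d, hd, hdL, hda, hdC, -⟩ := htor lam mu hlm
  rw [hfl] at hdL
  have hdfix : ∀ x ∈ C, autFn d x = x := fun x hx => by
    have := Subgroup.mem_subgroupOf.1 (hdC ⟨x, c.le hx.1⟩ hx)
    rw [Subgroup.coe_mul, Subgroup.coe_inv, Subgroup.mem_bot, inv_mul_eq_one, ← autFn_coe] at this
    exact this.symm
  have hdl : ∀ l ∈ L, (l ^ lam)⁻¹ * autFn d l ∈ C := fun l hl => by
    have := Subgroup.mem_subgroupOf.1 (hdL ⟨l, c.le hl⟩ hl)
    rwa [Subgroup.coe_mul, Subgroup.coe_inv, SubgroupClass.coe_zpow, ← autFn_coe] at this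
  have hdLL : ∀ l ∈ L, autFn d l ∈ L := fun l hl => by
    have := L.mul_mem (L.zpow_mem hl lam) (hdl l hl).1
    rwa [mul_inv_cancel_left] at this
  obtain ⟨β, hβ, hβd⟩ := c.ext h hZL hd hdLL
  refine ⟨β, hβ, fun x hx => by rw [hβd x hx]; exact autFn_mem d hx,
    fun x hx => by rw [hβd x (c.le hx.1)]; exact hdfix x hx, ?_, fun l hl => by rw [hβd l (c.le hl)]; exact hdl l hl,
    fun z hz => ?_⟩
  · rw [hβd _ (autFn_mem α₀ (c.le hl₀))]
    have := Subgroup.mem_subgroupOf.1 hda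
    simp only [Subgroup.coe_mul, Subgroup.coe_inv, SubgroupClass.coe_zpow, ← autFn_coe] at this
    exact this
  · rw [hβd z (c.le (c.D_le h hz))]
    exact (inv_mul_eq_one.1 (hDC _ (mul_mem (inv_mem (zpow_mem hz lam)) (c.pres_D h hd hdLL z hz))
      (hdl z (c.D_le h hz)))).symm

end CfsgLib.Fsys.OrderPFive
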