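import Cfsg.Agent.Lib.FusionSystem.OrderPFive.CubeData
import Cfsg.Agent.Lib.PGroup.MaxClassActions

/-!
The shape of `S` around a moved hyperplane: the second centre, the weights of the torus and the commutators.
-/

set_option autoImplicit false
set_option linter.unusedSectionVars false
set_option linter.style.haveILetI false

open Cfsg Cfsg.FusionSystem
open CfsgLib.Fsys.CentralIndex (Zc mem_Zc mem_Zc_iff_center)
open CfsgLib.PGroup.MaxDeg (comm_bil)
open scoped commutatorElement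

namespace CfsgLib.Fsys.OrderPFive

variable {Ω : Type*} [Group Ω] {S : Subgroup Ω} [Finite S] {p : ℕ} [hp : Fact p.Prime]
  {F : FusionSystem S} {E L : Subgroup Ω} {n : Ω}

/-- The elements of `S` central modulo the centre. -/
def IsSecond (S : Subgroup Ω) (y : Ω) : Prop := y ∈ S ∧ ∀ s ∈ S, ⁅y, s⁆ ∈ Zc S

theorem IsSecond.map {y : Ω} (hy : IsSecond S y) {β : MulAut S} (hβ : β ∈ F.autGroup S) :
    IsSecond S (autFn β y) := by
  have hf := (mem_autGroup_iff_fn le_rfl).1 hβ
  refine ⟨autFn_mem β hy.1, fun s hs => ?_⟩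
  have hs' := autFn_mem β⁻¹ hs
  have hy' := hy.2 _ hs'
  have hZ : ∀ z ∈ Zc S, autFn β z ∈ Zc S := fun z hz => mem_Zc.2 ⟨autFn_mem β (Zc_le_base hz), fun x hx => by
    have hx' := autFn_mem β⁻¹ hx
    conv_lhs => rw [← autFn_apply_inv β hx]
    conv_rhs => rw [← autFn_apply_inv β hx]
    rw [← hf.map_mul hx' (Zc_le_base hz), ← hf.map_mul (Zc_le_base hz) hx', (mem_Zc.1 hz).2 _ hx']⟩
  have e := hZ _ hy'
  rw [commutatorElement_def, hf.map_mul (S.mul_mem (S.mul_mem hy.1 hs') (S.inv_mem hy.1)) (S.inv_mem hs'),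
    hf.map_conj hy.1 hs', hf.map_inv hs', autFn_apply_inv β hs] at e
  exact e

variable (h : Five p F) (c : Cube p F E L n)
include h c

/-- Every element of the normalizer acts as a power of the transvection. -/
theorem Cube.conj_eq {y : Ω} (hy : y ∈ normalizerIn S E) : ∃ i : ℤ, c.t ^ i = conjAut E hy.2 := by
  haveI := finite_of_le_base c.ess.1.1
  obtain ⟨-, R, hR⟩ := (fullyNormalized_good h.hS h.hF c.ess.2.1).1
  have ht : (⟨c.t, c.t_mem h⟩ : F.autGroup E) ∈ (R : Subgroup (F.autGroup E)) := by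
    rw [hR]
    exact Subgroup.mem_subgroupOf.2 (conjAut_mem_autInducedBy c.mem.2 c.mem.1)
  exact Subgroup.mem_zpowers_iff.1 (c.sylow h R.2 ht
    ⟨conjAut E hy.2, autInducedBy_le_autGroup c.ess.1.1 (conjAut_mem_autInducedBy hy.2 hy.1)⟩ (by
      rw [hR]
      exact Subgroup.mem_subgroupOf.2 (conjAut_mem_autInducedBy hy.2 hy.1)))

theorem Cube.conj_zpow {y : Ω} (hy : y ∈ normalizerIn S E) {i : ℤ} (hi : c.t ^ i = conjAut E hy.2) {x : Ω}
    (hx : x ∈ E) : y * x * y⁻¹ = x * delta n x ^ i := by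
  rw [← c.t_zpow h hx i, hi, autFn_coe (conjAut E hy.2) ⟨x, hx⟩]
  rfl

/-- Commutators of the normalizer with `E` lie in the shift image. -/
theorem Cube.comm_mem_D {y : Ω} (hy : y ∈ normalizerIn S E) {x : Ω} (hx : x ∈ E) : ⁅y, x⁆ ∈ c.D h := by
  obtain ⟨i, hi⟩ := c.conj_eq h hy
  have hd : delta n x ^ i ∈ c.D h := (c.D h).zpow_mem ⟨x, hx, rfl⟩ i
  rw [commutatorElement_def, c.conj_zpow h hy hi hx, c.comm x hx _ (c.le (c.D_le h hd)), mul_inv_cancel_right]
  exact hd

/-- The frame. -/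
structure Frame (C : Subgroup Ω) (a : Ω) (K : Subgroup Ω) (s k : Ω) : Prop where
  CL : C ≤ L
  Ccard : Nat.card C = p
  Cinv : ∀ α ∈ F.autGroup E, ∀ x ∈ C, autFn α x ∈ C
  amem : a ∈ E
  anot : a ∉ L
  disjoint : ∀ z ∈ c.D h, z ∈ C → z = 1
  nat : Nat2 p (F.autGroup E) (C.subgroupOf E) ((⊥ : Subgroup Ω).subgroupOf E) c.t
  line : ∀ [(C.subgroupOf E).Normal], fixLine (C.subgroupOf E) c.t = L.subgroupOf E
  LK : L ≤ K
  KN : K ≤ normalizerIn S E
  Kcard : Nat.card K = p ^ 3
  Knormal : ∀ y ∈ S, ∀ x ∈ K, y * x * y⁻¹ ∈ K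
  smem : s ∈ S
  snot : s ∉ normalizerIn S E
  kmem : k ∈ K
  knot : k ∉ E
  second : ∀ y, IsSecond S y ↔ y ∈ K
  KS : ∀ x ∈ K, ∀ y ∈ S, ⁅x, y⁆ ∈ c.D h
  torus : ∀ lam mu : ℤ, (p : ℤ) ∣ lam * mu - 1 → ∃ β ∈ F.autGroup S, ∃ sig : ℤ, ∃ m : ℤ,
    (∀ x ∈ E, autFn β x ∈ E) ∧ (∀ x ∈ C, autFn β x = x) ∧ (a ^ mu)⁻¹ * autFn β a ∈ C ∧
    (∀ l ∈ L, (l ^ lam)⁻¹ * autFn β l ∈ C) ∧ (∀ z ∈ c.D h, autFn β z = z ^ lam) ∧
    (p : ℤ) ∣ sig - lam * (lam * lam) ∧ (s ^ sig)⁻¹ * autFn β s ∈ normalizerIn S E ∧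
    (p : ℤ) ∣ m - lam * lam ∧ (k ^ m)⁻¹ * autFn β k ∈ L

theorem Cube.exists_frame (hZL : Zc S ≤ L) {α₀ : MulAut E} (hα₀ : α₀ ∈ F.autGroup E) {l₀ : Ω} (hl₀ : l₀ ∈ L)
    (hmv : autFn α₀ l₀ ∉ L) : ∃ C a K s k, Frame h c C a K s k := by
  obtain ⟨C, a, hCL, hCc, hCinv, haE, haL, hDC, htor, hnat, hfl⟩ := c.frame h hZL hα₀ hl₀ hmv
  have hES := c.ess.1.1
  haveI := finite_of_le_base hES
  set N := normalizerIn S E with hN
  have hNS : N ≤ S := normalizerIn_le
  have hNc : Nat.card N = p ^ 4 := c.Ncard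
  haveI := finite_of_le_base hNS
  have hEN : E ≤ N := le_normalizerIn hES
  have hLN : L ≤ N := c.le.trans hEN
  haveI hNnorm : (N.subgroupOf S).Normal := by
    refine Subgroup.normal_of_index_eq_minFac_card ?_
    rw [h.card, hp.out.pow_minFac (by norm_num)]
    have := Subgroup.card_mul_index (N.subgroupOf S)
    rw [Nat.card_congr (Subgroup.subgroupOfEquivOfLe hNS).toEquiv, c.Ncard, h.card, pow_succ p 4] at this
    exact Nat.eq_of_mul_eq_mul_left (pow_pos hp.out.pos 4) this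
  have hNidx : (N.subgroupOf S).index = p := by
    have := Subgroup.card_mul_index (N.subgroupOf S)
    rw [Nat.card_congr (Subgroup.subgroupOfEquivOfLe hNS).toEquiv, c.Ncard, h.card, pow_succ p 4] at this
    exact Nat.eq_of_mul_eq_mul_left (pow_pos hp.out.pos 4) this
  have hNn : ∀ y ∈ S, ∀ x ∈ N, y * x * y⁻¹ ∈ N := fun y hy x hx => by
    have := hNnorm.conj_mem ⟨x, hNS hx⟩ hx ⟨y, hy⟩
    simpa [Subgroup.mem_subgroupOf] using this
  obtain ⟨K, hLK, hKN, hKc, hKn, hKstep⟩ := exists_normal_step h.hS hNS (lt_of_le_of_ne hLN fun e => by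
    have := c.Ncard
    rw [← hN, ← e, c.Lcard] at this
    exact absurd (Nat.pow_right_injective hp.out.two_le this) (by norm_num)) c.Lnormal hNn
  rw [c.Lcard, ← pow_succ'] at hKc
  haveI := finite_of_le_base (hKN.trans hNS)
  obtain ⟨s, hsS, hsN⟩ : ∃ s ∈ S, s ∉ N := by
    by_contra hno
    push Not at hno
    have := c.Ncard
    rw [← hN, le_antisymm hNS hno, h.card] at this
    exact absurd (Nat.pow_right_injective hp.out.two_le this) (by norm_num)
  have hKE : ¬ K ≤ E := fun hle => by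
    have heq : K = E := Subgroup.eq_of_le_of_card_ge hle (by rw [c.card, hKc])
    exact hsN ⟨hsS, mem_normalizer_of_map_le (heq ▸ hKn s hsS)⟩
  obtain ⟨k, hkK, hkE⟩ := SetLike.not_le_iff_exists.1 hKE
  -- generation of `E`
  have hEgen : E ≤ Subgroup.zpowers a ⊔ L := by
    have hle : Subgroup.zpowers a ⊔ L ≤ E := sup_le (Subgroup.zpowers_le.2 haE) c.le
    haveI := finite_of_le_base (hle.trans hES)
    refine (Subgroup.eq_of_le_of_card_ge hle ?_).ge
    obtain ⟨i, hi⟩ := IsPGroup.iff_card.1 (h.hS.to_le (hle.trans hES))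
    have h3 := card_lt_of_lt' (hle.trans hES) (lt_of_le_not_ge (le_sup_right : L ≤ Subgroup.zpowers a ⊔ L)
      fun e => haL (e (Subgroup.mem_sup_left (Subgroup.mem_zpowers a))))
    rw [c.Lcard, hi, Nat.pow_lt_pow_iff_right hp.out.one_lt] at h3
    rw [c.card, hi]
    exact Nat.pow_le_pow_right hp.out.pos h3
  -- the quotient by `L`
  set L' := L.subgroupOf S
  haveI : L'.Normal := ⟨fun x hx y => by
    rw [Subgroup.mem_subgroupOf] at hx ⊢
    simpa using c.Lnormal y y.2 _ hx⟩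
  let π : S →* S ⧸ L' := QuotientGroup.mk' L'
  have hπ1 : ∀ x : S, π x = 1 ↔ (x : Ω) ∈ L := fun x =>
    (QuotientGroup.eq_one_iff x).trans Subgroup.mem_subgroupOf
  have hKcen : ∀ x : S, (x : Ω) ∈ K → ∀ q, q * π x = π x * q := fun x hx q => by
    obtain ⟨y, rfl⟩ := QuotientGroup.mk'_surjective L' q
    rw [← map_mul, ← map_mul]
    refine ((QuotientGroup.eq).2 ?_)
    rw [Subgroup.mem_subgroupOf]
    have := L.inv_mem (c.Lnormal (y : Ω)⁻¹ (S.inv_mem y.2) _ (hKstep _ hx y y.2))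
    simpa [mul_assoc] using this
  set as : S := ⟨a, hES haE⟩
  set ss : S := ⟨s, hsS⟩
  set ks : S := ⟨k, hNS (hKN hkK)⟩
  have hNab : ∀ x y : S, (x : Ω) ∈ N → (y : Ω) ∈ N → π x * π y = π y * π x := fun x y hx hy => by
    -- `N = E K` modulo `L`
    have hle : E ⊔ K ≤ N := sup_le hEN hKN
    have heq : E ⊔ K = N := by
      haveI := finite_of_le_base (hle.trans hNS)
      refine Subgroup.eq_of_le_of_card_ge hle ?_
      obtain ⟨i, hi⟩ := IsPGroup.iff_card.1 (h.hS.to_le (hle.trans hNS))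
      have h3 := card_lt_of_lt' (hle.trans hNS) (lt_of_le_not_ge (le_sup_left : E ≤ E ⊔ K)
        fun e => hkE (e (Subgroup.mem_sup_right hkK)))
      rw [c.card, hi, Nat.pow_lt_pow_iff_right hp.out.one_lt] at h3
      rw [hNc, hi]
      exact Nat.pow_le_pow_right hp.out.pos h3
    have hE1 : ∀ u : S, (u : Ω) ∈ E → ∀ v : S, (v : Ω) ∈ E ⊔ K → π u * π v = π v * π u := by
      intro u hu v hv
      have : E ⊔ K ≤ ((Subgroup.centralizer {π u}).comap π).map S.subtype := sup_le
        (fun w hw => ⟨⟨w, hES hw⟩, Subgroup.mem_centralizer_singleton_iff.2 (by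
          rw [← map_mul, ← map_mul]; exact congrArg π (Subtype.ext (c.comm w hw u hu))), rfl⟩)
        fun w hw => ⟨⟨w, hNS (hKN hw)⟩, Subgroup.mem_centralizer_singleton_iff.2 (hKcen _ hw (π u)).symm, rfl⟩
      obtain ⟨v', hv', e⟩ := this hv
      obtain rfl : v' = v := Subtype.ext e
      exact (Subgroup.mem_centralizer_singleton_iff.1 hv').symm
    have : E ⊔ K ≤ ((Subgroup.centralizer {π y}).comap π).map S.subtype := sup_le
      (fun w hw => ⟨⟨w, hES hw⟩, Subgroup.mem_centralizer_singleton_iff.2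
        (hE1 ⟨w, hES hw⟩ hw y (by rw [heq]; exact hy)), rfl⟩)
      fun w hw => ⟨⟨w, hNS (hKN hw)⟩, Subgroup.mem_centralizer_singleton_iff.2 (hKcen _ hw (π y)).symm, rfl⟩
    obtain ⟨v', hv', e⟩ := this (heq.ge hx)
    obtain rfl : v' = x := Subtype.ext e
    exact Subgroup.mem_centralizer_singleton_iff.1 hv'
  have hk1 : ((⁅as, ss⁆ : S) : Ω) ∈ K ∧ π ⁅as, ss⁆ ≠ 1 := by
    constructor
    · have hcard : Nat.card N ≤ p * Nat.card K := by rw [hNc, hKc, ← pow_succ']
      have h2 := shift_step h.hS hNS le_rfl hKN hcard (fun m hm => hKn m (hNS hm))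
        ⟨hsS, mem_normalizer_of_map_le (hNn s hsS)⟩ (hKn s hsS) (hNn s hsS) (hEN haE)
      have h3 := hKn a (hES haE) _ (K.inv_mem h2)
      simpa [as, ss, commutatorElement_def, mul_assoc] using h3
    · intro e
      have h2 := (hπ1 _).1 e
      refine hsN ⟨hsS, mem_normalizer_of_map_le fun x hx => ?_⟩
      have hle : Subgroup.zpowers a ⊔ L ≤ E.comap (MulAut.conj s).toMonoidHom := sup_le
        (Subgroup.zpowers_le.2 (by
          show s * a * s⁻¹ ∈ E
          have h3 : ⁅a, s⁆ ∈ E := c.le (by simpa [as, ss, commutatorElement_def] using h2)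
          have := E.mul_mem (E.inv_mem h3) haE
          rwa [show ⁅a, s⁆⁻¹ * a = s * a * s⁻¹ by simp [commutatorElement_def, mul_assoc]] at this))
        fun l hl => c.le (c.Lnormal s hsS l hl)
      exact hle (hEgen hx)
  have hz : ∀ q, q * π ⁅as, ss⁆ = π ⁅as, ss⁆ * q := hKcen _ hk1.1
  have hmodL : ∀ y ∈ S, (∀ u ∈ S, ⁅y, u⁆ ∈ L) → y ∈ K := by
    intro y hyS hy
    have hyN : y ∈ N := ⟨hyS, mem_normalizer_of_map_le fun x hx => by
      have h2 := E.mul_mem (c.le (hy x (hES hx))) hx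
      simpa [commutatorElement_def] using h2⟩
    -- `y` is a product of a power of `a` and an element of `K`
    haveI : (K.subgroupOf N).Normal := ⟨fun x hx m => by
      rw [Subgroup.mem_subgroupOf] at hx ⊢
      simpa using hKn m (hNS m.2) _ hx⟩
    have hidx : (K.subgroupOf N).index = p := by
      have := Subgroup.card_mul_index (K.subgroupOf N)
      rw [Nat.card_congr (Subgroup.subgroupOfEquivOfLe hKN).toEquiv, hKc, hNc, pow_succ p 3] at this
      exact Nat.eq_of_mul_eq_mul_left (pow_pos hp.out.pos 3) this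
    have haK : a ∉ K := fun haK => hk1.2 (by
      rw [map_commutatorElement, commutatorElement_eq_one_iff_mul_comm]
      exact (hKcen as haK (π ss)).symm)
    obtain ⟨i, hi⟩ := exists_zpow_shift hidx (y := (⟨a, hEN haE⟩ : N)) haK ⟨y, hyN⟩
    set w : S := (as ^ i)⁻¹ * ⟨y, hyS⟩
    have hw : (w : Ω) ∈ K := by simpa [w, as, Subgroup.mem_subgroupOf] using hi
    have hys : π ⟨y, hyS⟩ = π as ^ i * π w := by rw [← map_zpow, ← map_mul, mul_inv_cancel_left]
    have h4 : π ⁅(⟨y, hyS⟩ : S), ss⁆ = π ⁅as, ss⁆ ^ i := by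
      rw [map_commutatorElement, map_commutatorElement, hys]
      have := comm_bil (g := π as) (a := π ss) (b := 1) (c := π w) (by rwa [← map_commutatorElement])
        (hKcen w hw _).symm (by rw [mul_one, one_mul]) (by rw [mul_one, one_mul]) i 1
      rwa [zpow_one, mul_one, mul_one] at this
    have h5 : π ⁅(⟨y, hyS⟩ : S), ss⁆ = 1 := (hπ1 _).2 (by
      simpa [ss, commutatorElement_def] using hy s hsS)
    rw [h4] at h5
    have hip : (p : ℤ) ∣ i := by
      have hord : orderOf (π ⁅as, ss⁆) = p := by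
        refine orderOf_eq_prime ?_ hk1.2
        rw [← map_pow, hπ1]
        haveI : (L.subgroupOf K).Normal := ⟨fun x hx m => by
          rw [Subgroup.mem_subgroupOf] at hx ⊢
          simpa using c.Lnormal m (hNS (hKN m.2)) _ hx⟩
        have h7 := Subgroup.pow_index_mem (L.subgroupOf K) (⟨_, hk1.1⟩ : K)
        have h8 : (L.subgroupOf K).index = p := by
          have := Subgroup.card_mul_index (L.subgroupOf K)
          rw [Nat.card_congr (Subgroup.subgroupOfEquivOfLe hLK).toEquiv, hKc, c.Lcard, pow_succ p 2] at this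
          exact Nat.eq_of_mul_eq_mul_left (pow_pos hp.out.pos 2) this
        rw [h8, Subgroup.mem_subgroupOf] at h7
        simpa using h7
      rw [← hord]
      exact orderOf_dvd_iff_zpow_eq_one.2 h5
    obtain ⟨j, rfl⟩ := hip
    have h6 : a ^ ((p : ℤ) * j) = 1 := by rw [zpow_mul, zpow_natCast, c.exp a haE, one_zpow]
    simp only [w, as, Subgroup.coe_mul, Subgroup.coe_inv, SubgroupClass.coe_zpow, h6, inv_one, one_mul] at hw
    exact hw
  -- the action of `k`
  obtain ⟨i₀, hi₀⟩ := c.conj_eq h (hKN hkK)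
  have hi₀p : ¬ (p : ℤ) ∣ i₀ := by
    rintro ⟨j, rfl⟩
    refine hkE (centralizer_le_of_centric c.ess.1 (mem_centralizerIn.2 ⟨hNS (hKN hkK), fun x hx => ?_⟩))
    have := c.conj_zpow h (hKN hkK) hi₀ hx
    rw [zpow_mul, zpow_natCast, c.exp _ (c.le (c.delta_mem h hx)), one_zpow, mul_one] at this
    exact (mul_inv_eq_iff_eq_mul.1 this).symm
  have hda : delta n a ≠ 1 := fun e => haL ((c.delta_eq_one_iff h haE).1 e)
  have hdord : orderOf (delta n a) = p := orderOf_eq_prime (c.exp _ (c.le (c.delta_mem h haE))) hda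
  -- the torus
  have htor' : ∀ lam mu : ℤ, (p : ℤ) ∣ lam * mu - 1 → ∃ β ∈ F.autGroup S, ∃ sig : ℤ, ∃ m : ℤ,
      (∀ x ∈ E, autFn β x ∈ E) ∧ (∀ x ∈ C, autFn β x = x) ∧ (a ^ mu)⁻¹ * autFn β a ∈ C ∧
      (∀ l ∈ L, (l ^ lam)⁻¹ * autFn β l ∈ C) ∧ (∀ z ∈ c.D h, autFn β z = z ^ lam) ∧
      (p : ℤ) ∣ sig - lam * (lam * lam) ∧ (s ^ sig)⁻¹ * autFn β s ∈ N ∧
      (p : ℤ) ∣ m - lam * lam ∧ (k ^ m)⁻¹ * autFn β k ∈ L := by
    intro lam mu hlm
    obtain ⟨β, hβ, hβE, hβC, hβa, hβL, hβD⟩ := htor lam mu hlm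
    have hf := (mem_autGroup_iff_fn le_rfl).1 hβ
    have hβN : ∀ y ∈ N, autFn β y ∈ N := fun y hy =>
      hf.map_normalizer hES ((hf.mono hES).img_eq_self hβE) hy.1 hy.2
    have hβLL : ∀ l ∈ L, autFn β l ∈ L := fun l hl => by
      have := L.mul_mem (L.zpow_mem hl lam) (hCL (hβL l hl))
      rwa [mul_inv_cancel_left] at this
    have hβK : ∀ y ∈ K, autFn β y ∈ K := by
      -- `K` is the centraliser of `S` modulo `L` inside `N`
      intro y hy
      by_contra hne
      set x := autFn β y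
      have hxN : x ∈ N := hβN y (hKN hy)
      have hxs : ∀ u ∈ S, x⁻¹ * (u * x * u⁻¹) ∈ L := by
        intro u hu
        have hu' := autFn_mem β⁻¹ hu
        have h2 := hβLL _ (hKstep y hy _ hu')
        rwa [hf.map_mul (S.inv_mem (hNS (hKN hy))) (S.mul_mem (S.mul_mem hu' (hNS (hKN hy))) (S.inv_mem hu')),
          hf.map_inv (hNS (hKN hy)), hf.map_conj hu' (hNS (hKN hy)), autFn_apply_inv β hu] at h2
      refine hne (hmodL x (hNS hxN) fun u hu => ?_)
      have h2 := L.inv_mem (c.Lnormal x (hNS hxN) _ (hxs u hu))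
      simpa [commutatorElement_def, mul_assoc] using h2
    have hmidx : ((E).subgroupOf N).index = p := by
      have := Subgroup.card_mul_index (E.subgroupOf N)
      rw [Nat.card_congr (Subgroup.subgroupOfEquivOfLe hEN).toEquiv, c.card, hNc, pow_succ p 3] at this
      exact Nat.eq_of_mul_eq_mul_left (pow_pos hp.out.pos 3) this
    haveI : (E.subgroupOf N).Normal := ⟨fun x hx m => by
      rw [Subgroup.mem_subgroupOf] at hx ⊢
      simpa using c.conj_mem h m.2 hx⟩
    obtain ⟨m, hm⟩ := exists_zpow_shift hmidx (y := (⟨k, hKN hkK⟩ : N)) hkE ⟨autFn β k, hβN k (hKN hkK)⟩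
    rw [Subgroup.mem_subgroupOf, Subgroup.coe_mul, Subgroup.coe_inv, SubgroupClass.coe_zpow] at hm
    simp only [] at hm
    set e := (k ^ m)⁻¹ * autFn β k
    have heK : e ∈ K := K.mul_mem (K.inv_mem (K.zpow_mem hkK m)) (hβK k hkK)
    have heL : e ∈ L := by
      -- `E ∩ K = L`
      by_contra heL
      have hle : Subgroup.zpowers e ⊔ L ≤ E ⊓ K :=
        sup_le (Subgroup.zpowers_le.2 ⟨hm, heK⟩) (le_inf c.le hLK)
      haveI := finite_of_le_base ((hle.trans inf_le_left).trans hES)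
      obtain ⟨i, hi⟩ := IsPGroup.iff_card.1 (h.hS.to_le ((hle.trans inf_le_left).trans hES))
      have h3 := card_lt_of_lt' ((hle.trans inf_le_left).trans hES)
        (lt_of_le_not_ge (le_sup_right : L ≤ Subgroup.zpowers e ⊔ L)
          fun e' => heL (e' (Subgroup.mem_sup_left (Subgroup.mem_zpowers e))))
      rw [c.Lcard, hi, Nat.pow_lt_pow_iff_right hp.out.one_lt] at h3
      have h4 : E ≤ K := by
        have heq : Subgroup.zpowers e ⊔ L = E := Subgroup.eq_of_le_of_card_ge (hle.trans inf_le_left) (by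
          rw [c.card, hi]; exact Nat.pow_le_pow_right hp.out.pos h3)
        exact heq ▸ hle.trans inf_le_right
      exact hkE ((Subgroup.eq_of_le_of_card_ge h4 (by rw [hKc, c.card])).ge hkK)
    have hm' : (p : ℤ) ∣ m - lam * lam := by
      -- apply the map to `k a k⁻¹ = a δ(a) ^ i₀`
      have hk' : k ∈ S := hNS (hKN hkK)
      have haS : a ∈ S := hES haE
      have hbk : autFn β k ∈ N := hβN k (hKN hkK)
      have hact : c.t ^ (i₀ * m) = conjAut E hbk.2 := by
        rw [zpow_mul, hi₀]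
        have hkm : k ^ m ∈ Subgroup.normalizer (E : Set Ω) := Subgroup.zpow_mem _ (hKN hkK).2 m
        have e1 : conjAut E (hKN hkK).2 ^ m = conjAut E hkm := by
          rw [conjAut, ← map_zpow]; rfl
        rw [e1]
        refine MulEquiv.ext fun x => Subtype.ext ?_
        rw [conjAut_coe, conjAut_coe]
        have hex : e * x * e⁻¹ = x := by rw [c.comm e (c.le heL) x x.2, mul_inv_cancel_right]
        calc k ^ m * (x : Ω) * (k ^ m)⁻¹ = k ^ m * (e * x * e⁻¹) * (k ^ m)⁻¹ := by rw [hex]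
          _ = autFn β k * x * (autFn β k)⁻¹ := by simp only [e]; group
      have hd := c.delta_mem h haE
      have e1 := congrArg (autFn β) (c.conj_zpow h (hKN hkK) hi₀ haE)
      have hpow : autFn β (delta n a ^ i₀) = delta n a ^ (lam * i₀) := by
        rw [show autFn β (delta n a ^ i₀) = (delta n a ^ i₀) ^ lam from
          hβD _ ((c.D h).zpow_mem ⟨a, haE, rfl⟩ i₀), ← zpow_mul, mul_comm]
      rw [hf.map_conj hk' haS, hf.map_mul haS (S.zpow_mem (hES (c.le hd)) i₀), hpow,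
        c.conj_zpow h hbk hact (hβE a haE)] at e1
      have e2 := mul_left_cancel e1
      have e3 : delta n (autFn β a) = delta n a ^ mu := by
        set c₀ := (a ^ mu)⁻¹ * autFn β a
        rw [show autFn β a = a ^ mu * c₀ by simp [c₀], c.delta_mul h (E.zpow_mem haE mu) (c.le (hCL hβa)),
          (c.delta_eq_one_iff h (c.le (hCL hβa))).2 (hCL hβa), mul_one]
        let f : E →* Ω := MonoidHom.mk' (fun x => delta n x) fun x y => c.delta_mul h x.2 y.2
        exact map_zpow f ⟨a, haE⟩ mu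
      rw [e3, ← zpow_mul, zpow_eq_zpow_iff_modEq, hdord, Int.modEq_iff_dvd] at e2
      -- p ∣ lam * i₀ - mu * (i₀ * m)
      have h2 : (p : ℤ) ∣ i₀ * (lam - mu * m) := by
        rw [show i₀ * (lam - mu * m) = lam * i₀ - mu * (i₀ * m) by ring]; exact e2
      have h3 : (p : ℤ) ∣ lam - mu * m := ((Nat.prime_iff_prime_int.1 hp.out).dvd_mul.1 h2).resolve_left hi₀p
      have h4 := dvd_sub (dvd_neg.2 (h3.mul_right lam)) (hlm.mul_right m)
      rwa [show -((lam - mu * m) * lam) - (lam * mu - 1) * m = m - lam * lam by ring] at h4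
    -- the weight of `s`
    obtain ⟨sig, hsig⟩ := exists_zpow_shift hNidx (y := ss) hsN ⟨autFn β s, autFn_mem β hsS⟩
    have hsig' : (s ^ sig)⁻¹ * autFn β s ∈ N := by simpa [ss, Subgroup.mem_subgroupOf] using hsig
    refine ⟨β, hβ, sig, m, hβE, hβC, hβa, hβL, hβD, ?_, hsig', hm', heL⟩
    -- apply the map to `⁅a, s⁆`, a power of `k` modulo `L`
    haveI : (L.subgroupOf K).Normal := ⟨fun x hx m => by
      rw [Subgroup.mem_subgroupOf] at hx ⊢
      simpa using c.Lnormal m (hNS (hKN m.2)) _ hx⟩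
    have hLKidx : (L.subgroupOf K).index = p := by
      have := Subgroup.card_mul_index (L.subgroupOf K)
      rw [Nat.card_congr (Subgroup.subgroupOfEquivOfLe hLK).toEquiv, hKc, c.Lcard, pow_succ p 2] at this
      exact Nat.eq_of_mul_eq_mul_left (pow_pos hp.out.pos 2) this
    obtain ⟨i, hi⟩ := exists_zpow_shift hLKidx (y := (⟨k, hkK⟩ : K))
      (fun hh => hkE (c.le hh)) ⟨_, hk1.1⟩
    have hck : π ⁅as, ss⁆ = π ks ^ i := by
      symm
      rw [← map_zpow]
      refine QuotientGroup.eq.2 ?_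
      rw [Subgroup.mem_subgroupOf]
      simpa [ks, Subgroup.mem_subgroupOf] using hi
    have hkπ : π ks ^ p = 1 := by
      rw [← map_pow, hπ1]
      have h7 := Subgroup.pow_index_mem (L.subgroupOf K) (⟨k, hkK⟩ : K)
      rw [hLKidx, Subgroup.mem_subgroupOf] at h7
      simpa [ks] using h7
    have hkord : orderOf (π ks) = p := orderOf_eq_prime hkπ fun e => hkE (c.le ((hπ1 _).1 e))
    have hip : ¬ (p : ℤ) ∣ i := fun ⟨j, hj⟩ => hk1.2 (by
      rw [hck, hj, zpow_mul, zpow_natCast, hkπ, one_zpow])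
    set b' : S := ⟨autFn β a, autFn_mem β (hES haE)⟩
    set s' : S := ⟨autFn β s, autFn_mem β hsS⟩
    have hb' : π b' = π as ^ mu := by
      rw [← map_zpow]
      symm
      refine QuotientGroup.eq.2 ?_
      rw [Subgroup.mem_subgroupOf]
      simpa [b', as] using hCL hβa
    set y : S := (ss ^ sig)⁻¹ * s'
    have hyN : (y : Ω) ∈ N := by simpa [y, ss, s'] using hsig'
    have hs' : π s' = π ss ^ sig * π y := by rw [← map_zpow, ← map_mul, mul_inv_cancel_left]
    have h2 : π ⁅b', s'⁆ = π ⁅as, ss⁆ ^ (mu * sig) := by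
      rw [map_commutatorElement, map_commutatorElement, hb', hs']
      have := comm_bil (g := π as) (a := π ss) (b := π y) (c := 1) (by rwa [← map_commutatorElement])
        (by rw [one_mul, mul_one]) (by rw [one_mul, mul_one]) (hNab as y (hEN haE) hyN) mu sig
      rwa [mul_one] at this
    have h3 : π ⁅b', s'⁆ = π ks ^ (i * m) := by
      let B : S →* S := β.toMonoidHom
      have hB : ∀ u : S, ((B u : S) : Ω) = autFn β u := fun u => (autFn_coe β u).symm
      have hb : B as = b' := Subtype.ext (hB as)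
      have hs'' : B ss = s' := Subtype.ext (hB ss)
      set l : S := (ks ^ i)⁻¹ * ⁅as, ss⁆
      have hl : (l : Ω) ∈ L := by simpa [l, ks, Subgroup.mem_subgroupOf] using hi
      rw [← hb, ← hs'', ← map_commutatorElement B, show (⁅as, ss⁆ : S) = ks ^ i * l by simp [l], map_mul B,
        map_mul π, map_zpow B, map_zpow π, show π (B l) = 1 from (hπ1 _).2 (by rw [hB]; exact hβLL _ hl), mul_one,
        mul_comm i m, zpow_mul]
      congr 1
      rw [← map_zpow π]
      symm
      exact QuotientGroup.eq.2 (by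
        rw [Subgroup.mem_subgroupOf, Subgroup.coe_mul, Subgroup.coe_inv, SubgroupClass.coe_zpow, hB]
        exact heL)
    rw [h2, hck, ← zpow_mul, zpow_eq_zpow_iff_modEq, hkord, Int.modEq_iff_dvd,
      show i * m - i * (mu * sig) = i * (m - mu * sig) by ring] at h3
    have h4 : (p : ℤ) ∣ m - mu * sig := ((Nat.prime_iff_prime_int.1 hp.out).dvd_mul.1 h3).resolve_left hip
    have h5 := dvd_sub (dvd_sub (hm'.mul_right lam) (h4.mul_right lam)) (hlm.mul_right sig)
    rwa [show (m - lam * lam) * lam - (m - mu * sig) * lam - (lam * mu - 1) * sig = sig - lam * (lam * lam) by ring]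
      at h5
  -- commutators of `K` lie in the shift image
  have hKS : ∀ x ∈ K, ∀ y ∈ S, ⁅x, y⁆ ∈ c.D h := by
    set D' := (c.D h).subgroupOf S
    haveI : D'.Normal := ⟨fun x hx y => by
      rw [Subgroup.mem_subgroupOf] at hx ⊢
      simpa using c.D_normal h y y.2 _ hx⟩
    let ρ : S →* S ⧸ D' := QuotientGroup.mk' D'
    have hρ1 : ∀ x : S, ρ x = 1 ↔ (x : Ω) ∈ c.D h := fun x =>
      (QuotientGroup.eq_one_iff x).trans Subgroup.mem_subgroupOf
    have hLcard : Nat.card L ≤ p * Nat.card (c.D h) := by rw [c.Lcard, c.card_D h, sq]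
    have hLcen : ∀ x : S, (x : Ω) ∈ L → ∀ q, q * ρ x = ρ x * q := fun x hx q => by
      obtain ⟨y, rfl⟩ := QuotientGroup.mk'_surjective D' q
      rw [← map_mul, ← map_mul]
      refine ((QuotientGroup.eq).2 ?_)
      rw [Subgroup.mem_subgroupOf]
      have h2 := shift_step h.hS le_rfl (c.le.trans hES) (c.D_le h) hLcard
        (fun m hm => c.D_normal h m hm) (y := (y : Ω)) ⟨y.2, Subgroup.le_normalizer y.2⟩ (c.D_normal h y y.2)
        (c.Lnormal y y.2) hx
      have := (c.D h).inv_mem (c.D_normal h (y : Ω)⁻¹ (S.inv_mem y.2) _ h2)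
      simpa [mul_assoc] using this
    -- `K` and `N` commute modulo `D`
    have hKgen : ∀ x : S, (x : Ω) ∈ K → ∃ i : ℤ, ∃ l : S, (l : Ω) ∈ L ∧ x = ks ^ i * l := fun x hx => by
      haveI : (L.subgroupOf K).Normal := ⟨fun w hw m => by
        rw [Subgroup.mem_subgroupOf] at hw ⊢
        simpa using c.Lnormal m (hNS (hKN m.2)) _ hw⟩
      have hLKidx : (L.subgroupOf K).index = p := by
        have := Subgroup.card_mul_index (L.subgroupOf K)
        rw [Nat.card_congr (Subgroup.subgroupOfEquivOfLe hLK).toEquiv, hKc, c.Lcard, pow_succ p 2] at this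
        exact Nat.eq_of_mul_eq_mul_left (pow_pos hp.out.pos 2) this
      obtain ⟨i, hi⟩ := exists_zpow_shift hLKidx (y := (⟨k, hkK⟩ : K)) (fun hh => hkE (c.le hh)) ⟨_, hx⟩
      exact ⟨i, (ks ^ i)⁻¹ * x, by simpa [ks, Subgroup.mem_subgroupOf] using hi, by simp⟩
    have hkN : ∀ y : S, (y : Ω) ∈ N → ρ ks * ρ y = ρ y * ρ ks := fun y hy => by
      have : E ⊔ Subgroup.zpowers k ≤ ((Subgroup.centralizer {ρ ks}).comap ρ).map S.subtype := by
        refine sup_le (fun w hw => ⟨⟨w, hES hw⟩, Subgroup.mem_centralizer_singleton_iff.2 ?_, rfl⟩)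
          (Subgroup.zpowers_le.2 ⟨ks, Subgroup.mem_centralizer_singleton_iff.2 rfl, rfl⟩)
        rw [eq_comm, ← commutatorElement_eq_one_iff_mul_comm, ← map_commutatorElement, hρ1]
        simpa [ks, commutatorElement_def] using c.comm_mem_D h (hKN hkK) hw
      have hgen : N ≤ E ⊔ Subgroup.zpowers k := by
        have hle : E ⊔ Subgroup.zpowers k ≤ N := sup_le hEN (Subgroup.zpowers_le.2 (hKN hkK))
        haveI := finite_of_le_base (hle.trans hNS)
        refine (Subgroup.eq_of_le_of_card_ge hle ?_).ge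
        obtain ⟨i, hi⟩ := IsPGroup.iff_card.1 (h.hS.to_le (hle.trans hNS))
        have h3 := card_lt_of_lt' (hle.trans hNS) (lt_of_le_not_ge (le_sup_left : E ≤ E ⊔ Subgroup.zpowers k)
          fun e => hkE (e (Subgroup.mem_sup_right (Subgroup.mem_zpowers k))))
        rw [c.card, hi, Nat.pow_lt_pow_iff_right hp.out.one_lt] at h3
        rw [hNc, hi]
        exact Nat.pow_le_pow_right hp.out.pos h3
      obtain ⟨v', hv', e⟩ := this (hgen hy)
      obtain rfl : v' = y := Subtype.ext e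
      exact (Subgroup.mem_centralizer_singleton_iff.1 hv').symm
    have he1L : ((⁅ks, ss⁆ : S) : Ω) ∈ L := by
      have h2 := c.Lnormal k (hNS (hKN hkK)) _ (L.inv_mem (hKstep k hkK s hsS))
      simpa [ks, ss, commutatorElement_def, mul_assoc] using h2
    have hz1 : ∀ q, q * ⁅ρ ks, ρ ss⁆ = ⁅ρ ks, ρ ss⁆ * q := by
      rw [← map_commutatorElement]; exact hLcen _ he1L
    have he1D : ρ ⁅ks, ss⁆ = 1 := by
      obtain ⟨β, hβ, sig, m, hβE, hβC, hβa, hβL, hβD, hsig, hsN', hm, hk'⟩ := htor' (-1) (-1) ⟨0, by ring⟩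
      have hf := (mem_autGroup_iff_fn le_rfl).1 hβ
      -- `e = z c` with `z` inverted and `c` fixed
      have hsup : c.D h ⊔ C = L := by
        haveI := finite_of_le_base (hCL.trans (c.le.trans hES))
        haveI := finite_of_le_base (c.le.trans hES)
        have hle : c.D h ⊔ C ≤ L := sup_le (c.D_le h) hCL
        haveI := finite_of_le_base (hle.trans (c.le.trans hES))
        refine Subgroup.eq_of_le_of_card_ge hle ?_
        obtain ⟨i, hi⟩ := IsPGroup.iff_card.1 (h.hS.to_le (hle.trans (c.le.trans hES)))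
        have h3 := card_lt_of_lt' (hle.trans (c.le.trans hES)) (lt_of_le_not_ge (le_sup_left : c.D h ≤ c.D h ⊔ C)
          fun e => by
            have hCD : C ≤ c.D h := le_sup_right.trans e
            haveI : Nontrivial C := Finite.one_lt_card_iff_nontrivial.1 (by rw [hCc]; exact hp.out.one_lt)
            obtain ⟨x, hx⟩ := exists_ne (1 : C)
            exact hx (Subtype.ext (hDC x (hCD x.2) x.2)))
        rw [c.card_D h, hi, ← pow_one p, ← pow_mul, one_mul, Nat.pow_lt_pow_iff_right hp.out.one_lt] at h3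
        rw [c.Lcard, hi]
        exact Nat.pow_le_pow_right hp.out.pos h3
      let R : Subgroup Ω :=
        { carrier := {x | ∃ z ∈ c.D h, ∃ w ∈ C, x = z * w}
          one_mem' := ⟨1, one_mem _, 1, one_mem _, (mul_one 1).symm⟩
          mul_mem' := by
            rintro x y ⟨z, hz, w, hw, rfl⟩ ⟨z', hz', w', hw', rfl⟩
            exact ⟨z * z', mul_mem hz hz', w * w', mul_mem hw hw', by
              rw [mul_assoc, ← mul_assoc w z' w', c.comm w (c.le (hCL hw)) z' (c.le (c.D_le h hz'))]; group⟩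
          inv_mem' := by
            rintro x ⟨z, hz, w, hw, rfl⟩
            exact ⟨z⁻¹, inv_mem hz, w⁻¹, inv_mem hw, by
              rw [mul_inv_rev, c.comm w⁻¹ (E.inv_mem (c.le (hCL hw))) z⁻¹ (E.inv_mem (c.le (c.D_le h hz)))]⟩ }
      have hR : c.D h ⊔ C ≤ R := sup_le (fun x hx => ⟨x, hx, 1, one_mem _, (mul_one x).symm⟩)
        fun x hx => ⟨1, one_mem _, x, hx, (one_mul x).symm⟩
      obtain ⟨z, hz, w, hw, hzw⟩ := hR (hsup.ge he1L)
      let B : S →* S := β.toMonoidHom
      have hB : ∀ u : S, ((B u : S) : Ω) = autFn β u := fun u => (autFn_coe β u).symm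
      set ws : S := ⟨w, hES (c.le (hCL hw))⟩
      set zs : S := ⟨z, hES (c.le (c.D_le h hz))⟩
      have hzws : ⁅ks, ss⁆ = zs * ws := Subtype.ext hzw
      -- the left side
      have hlhs : ρ (B ⁅ks, ss⁆) = ρ ws := by
        rw [hzws, map_mul B, map_mul ρ, show B ws = ws from Subtype.ext ((hB ws).trans (hβC w hw)),
          show ρ (B zs) = 1 from (hρ1 _).2 (by rw [hB, hβD z hz]; exact (c.D h).zpow_mem hz _), one_mul]
      -- the right side
      set lk : S := (ks ^ m)⁻¹ * B ks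
      have hlk : (lk : Ω) ∈ L := by simpa [lk, ks, hB] using hk'
      set yn : S := (ss ^ sig)⁻¹ * B ss
      have hyn : (yn : Ω) ∈ N := by simpa [yn, ss, hB] using hsN'
      have hrhs : ρ (B ⁅ks, ss⁆) = ρ ⁅ks, ss⁆ ^ (m * sig) := by
        rw [map_commutatorElement B, show B ks = ks ^ m * lk by simp [lk], show B ss = ss ^ sig * yn by simp [yn],
          map_commutatorElement ρ, map_commutatorElement ρ, map_mul ρ (ks ^ m) lk, map_mul ρ (ss ^ sig) yn,
          map_zpow, map_zpow]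
        exact comm_bil hz1 (hLcen lk hlk _).symm (hLcen lk hlk _).symm (hkN yn hyn) m sig
      have hpw : ρ ws ^ p = 1 := by
        rw [← map_pow, hρ1]
        show (w : Ω) ^ p ∈ c.D h
        rw [c.exp w (c.le (hCL hw))]
        exact one_mem _
      have he : ρ ⁅ks, ss⁆ = ρ ws := by rw [hzws, map_mul, (hρ1 zs).2 hz, one_mul]
      rw [hlhs, he, show ρ ws = ρ ws ^ (1 : ℤ) from (zpow_one _).symm, ← zpow_mul, one_mul] at hrhs
      rw [he]
      by_contra hne
      have hord : orderOf (ρ ws) = p := orderOf_eq_prime hpw hne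
      rw [zpow_eq_zpow_iff_modEq, hord, Int.modEq_iff_dvd] at hrhs
      -- `m ≡ 1` and `sig ≡ -1`
      have h6 := dvd_sub hrhs (dvd_add (hm.mul_right sig) hsig)
      rw [show m * sig - 1 - ((m - -1 * -1) * sig + (sig - -1 * (-1 * -1))) = -2 by ring] at h6
      have h7 : p ∣ 2 := by
        have := Int.natAbs_dvd_natAbs.2 h6
        simpa using this
      exact h.hp2 ((Nat.prime_dvd_prime_iff_eq hp.out Nat.prime_two).1 h7)
    intro x hx y hy
    set ys : S := ⟨y, hy⟩
    set xs : S := ⟨x, hNS (hKN hx)⟩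
    obtain ⟨i, l, hl, hxl⟩ := hKgen xs hx
    obtain ⟨j, hj⟩ := exists_zpow_shift hNidx (y := ss) hsN ys
    set yn : S := (ss ^ j)⁻¹ * ys
    have hyn : (yn : Ω) ∈ N := hj
    have : ρ ⁅xs, ys⁆ = 1 := by
      rw [hxl, show ys = ss ^ j * yn by simp [yn], map_commutatorElement, map_mul, map_mul, map_zpow, map_zpow,
        comm_bil hz1 (hLcen l hl _).symm (hLcen l hl _).symm (hkN yn hyn) i j, ← map_commutatorElement, he1D,
        one_zpow]
    have := (hρ1 _).1 this
    simpa [xs, ys, commutatorElement_def] using this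
  exact ⟨C, a, K, s, k, hCL, hCc, hCinv, haE, haL, hDC, hnat, hfl, hLK, hKN, hKc, hKn, hsS, hsN, hkK, hkE,
    fun y => ⟨fun hy => hmodL y hy.1 fun u hu => hZL (hy.2 u hu), fun hy => ⟨hNS (hKN hy), fun u hu => c.D_le_Zc h (hKS y hy u hu)⟩⟩, hKS, htor'⟩

end CfsgLib.Fsys.OrderPFive
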