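import Cfsg.Agent.Lib.FusionSystem.OrderPFive.Natural
import Cfsg.Agent.Lib.FusionSystem.AbelianIndexPCentre
import Cfsg.Agent.Lib.FusionSystem.EssentialCube

/-!
General tools: stabilisers of chains of essential subgroups, extension of automorphisms of the centre, invariant
characters and the hyperfocal subgroup.
-/

set_option autoImplicit false
set_option linter.unusedSectionVars false
set_option linter.style.haveILetI false

open Cfsg Cfsg.FusionSystem
open CfsgLib.Fsys.CentralIndex (Zc mem_Zc mem_Zc_iff_center)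
open scoped commutatorElement

namespace CfsgLib.Fsys.OrderPFive

variable {Ω : Type*} [Group Ω] {S : Subgroup Ω} [Finite S] {p : ℕ} [hp : Fact p.Prime]
  {F : FusionSystem S}

/-- The standing hypotheses. -/
structure Five (p : ℕ) (F : FusionSystem S) : Prop where
  hS : IsPGroup p S
  hF : F.IsSaturated p
  hp2 : p ≠ 2
  card : Nat.card S = p ^ 5
  noAb : ∀ A : Subgroup Ω, A ≤ S → (∀ a ∈ A, ∀ b ∈ A, a * b = b * a) → Nat.card A < p ^ 4

theorem Zc_le_base : Zc S ≤ S := fun _ hz => (mem_Zc.1 hz).1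

theorem Zc_le_essential {E : Subgroup Ω} (hE : F.IsEssential p E) : Zc S ≤ E := fun z hz =>
  centralizer_le_of_centric hE.1 (mem_centralizerIn.2 ⟨(mem_Zc.1 hz).1, fun x hx =>
    (mem_Zc.1 hz).2 x (hE.1.1 hx)⟩)

/-- A `p`-element normalizing `M` and `A ≤ B ≤ M` with `|B : A| ≤ p` moves `B` into `A`. -/
theorem shift_step (hS : IsPGroup p S) {M A B : Subgroup Ω} (hM : M ≤ S) (hBM : B ≤ M) (hAB : A ≤ B)
    (hcard : Nat.card B ≤ p * Nat.card A) (hAn : ∀ m ∈ M, ∀ a ∈ A, m * a * m⁻¹ ∈ A) {y : Ω}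
    (hy : y ∈ normalizerIn S M) (hyA : ∀ a ∈ A, y * a * y⁻¹ ∈ A) (hyB : ∀ b ∈ B, y * b * y⁻¹ ∈ B) {x : Ω}
    (hx : x ∈ B) : x⁻¹ * (y * x * y⁻¹) ∈ A := by
  haveI := finite_of_le_base hM
  haveI := finite_of_le_base (hBM.trans hM)
  haveI := finite_of_le_base ((hAB.trans hBM).trans hM)
  set K := A.subgroupOf M
  haveI : K.Normal := ⟨fun a ha m => by
    rw [Subgroup.mem_subgroupOf] at ha ⊢
    simpa using hAn m m.2 _ ha⟩
  obtain ⟨k, hk⟩ := hS ⟨y, hy.1⟩
  have hα : conjAut M hy.2 ^ p ^ k = 1 := by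
    rw [conjAut, ← map_pow, show (⟨y, hy.2⟩ : Subgroup.normalizer (M : Set Ω)) ^ p ^ k = 1 from
      Subtype.ext (by simpa using congrArg Subtype.val hk), map_one]
  have hidx : K.relIndex (B.subgroupOf M) ≤ p := by
    rw [Subgroup.relIndex_subgroupOf hBM]
    have := Subgroup.card_mul_index (A.subgroupOf B)
    rw [Nat.card_congr (Subgroup.subgroupOfEquivOfLe hAB).toEquiv] at this
    rw [← this, mul_comm p] at hcard
    exact Nat.le_of_mul_le_mul_left hcard Nat.card_pos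
  have h := SmallEssential.shift_small (hS.to_le hM) (K := K) (L := B.subgroupOf M) (fun a ha => hAB ha) hidx hα
    (fun v hv => Subgroup.mem_subgroupOf.2 (hyA v hv)) (fun v hv => Subgroup.mem_subgroupOf.2 (hyB v hv))
    (v := ⟨x, hBM hx⟩) hx
  simpa [K, Subgroup.mem_subgroupOf] using h

/-- A normal subgroup of order at most `p` is central. -/
theorem small_normal_le_Zc (hS : IsPGroup p S) {D : Subgroup Ω} (hD : D ≤ S) (hc : Nat.card D ≤ p)
    (hn : ∀ s ∈ S, ∀ d ∈ D, s * d * s⁻¹ ∈ D) : D ≤ Zc S := fun d hd => mem_Zc.2 ⟨hD hd, fun s hs => by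
  have h := shift_step hS (M := S) (A := ⊥) (B := D) le_rfl hD bot_le
    (by rwa [Subgroup.card_bot, mul_one]) (fun m _ a ha => by rw [Subgroup.mem_bot.1 ha]; simp)
    (y := s) ⟨hs, Subgroup.le_normalizer hs⟩ (fun a ha => by rw [Subgroup.mem_bot.1 ha]; simp) (hn s hs) hd
  rw [Subgroup.mem_bot, inv_mul_eq_one] at h
  exact mul_inv_eq_iff_eq_mul.1 h.symm⟩

theorem one_lt_card_Zc (h : Five p F) : p ≤ Nat.card (Zc S) := by
  haveI := finite_of_le_base (Zc_le_base (S := S))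
  haveI : Nontrivial S := Finite.one_lt_card_iff_nontrivial.1 (by
    rw [h.card]; exact Nat.one_lt_pow (by norm_num) hp.out.one_lt)
  obtain ⟨z, hz⟩ := (nontrivial_iff_exists_ne 1).1 h.hS.center_nontrivial
  have h1 : 1 < Nat.card (Zc S) := Finite.one_lt_card_iff_nontrivial.2 ⟨⟨((z : S) : Ω), mem_Zc_iff_center.2 z.2⟩, 1,
    fun e => by
      refine hz (Subtype.ext (Subtype.ext ?_))
      have e' := congrArg (fun w : Zc S => (w : Ω)) e
      exact e'⟩
  obtain ⟨k, hk⟩ := IsPGroup.iff_card.1 (h.hS.to_le (Zc_le_base (S := S)))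
  rw [hk] at h1 ⊢
  exact Nat.le_self_pow (fun e => by rw [e, pow_zero] at h1; omega) p

/-- An element of `Aut_F(E)` stabilising an invariant chain is inner. -/
theorem mem_inn_of_stab (hS : IsPGroup p S) (hF : F.IsSaturated p) {E : Subgroup Ω} (hE : F.IsEssential p E)
    (D : ℕ → Subgroup E) (m : ℕ) (h0 : D 0 = ⊤) (hm : D m = ⊥)
    (hinv : ∀ k, k ≤ m → ∀ a ∈ F.autGroup E, ∀ x ∈ D k, a x ∈ D k) (hanti : ∀ k, k < m → D (k + 1) ≤ D k)
    {α : MulAut E} (hα : α ∈ F.autGroup E) (hst : ∀ k, k < m → ∀ x ∈ D k, x⁻¹ * α x ∈ D (k + 1)) :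
    α ∈ Inn E := by
  haveI := finite_of_le_base hE.1.1
  let M : Subgroup (F.autGroup E) :=
    { carrier := {a | ∀ k, k < m → ∀ x ∈ D k, x⁻¹ * (a : MulAut E) x ∈ D (k + 1)}
      one_mem' := fun k _ x _ => by simp
      mul_mem' := fun {a b} ha hb k hk x hx => by
        rw [Subgroup.coe_mul, MulAut.mul_apply,
          show x⁻¹ * (a : MulAut E) ((b : MulAut E) x) =
            (x⁻¹ * (b : MulAut E) x) * (((b : MulAut E) x)⁻¹ * (a : MulAut E) ((b : MulAut E) x)) by group]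
        exact mul_mem (hb k hk x hx) (ha k hk _ (hinv k hk.le _ b.2 x hx))
      inv_mem' := fun {a} ha k hk x hx => by
        have h1 := inv_mem (ha k hk _ (hinv k hk.le _ (inv_mem a.2) x hx))
        rwa [MulAut.apply_inv_self, mul_inv_rev, inv_inv] at h1 }
  haveI hMn : M.Normal := ⟨fun a ha g k hk x hx => by
    have h1 := hinv (k + 1) hk _ g.2 _ (ha k hk _ (hinv k hk.le _ (inv_mem g.2) x hx))
    rw [map_mul, map_inv, MulAut.apply_inv_self] at h1
    exact h1⟩
  have hEp : IsPGroup p E := hS.to_le hE.1.1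
  have hMp : IsPGroup p M := isPGroup_of_forall_coprime fun a ha => by
    have hco : (orderOf ((a : F.autGroup E) : MulAut E)).Coprime p := by
      rwa [Subgroup.orderOf_coe, Subgroup.orderOf_coe]
    have hfix : ∀ j, j ≤ m → ∀ x ∈ D (m - j), ((a : F.autGroup E) : MulAut E) x = x := by
      intro j
      induction j with
      | zero =>
        intro _ x hx
        rw [Nat.sub_zero, hm, Subgroup.mem_bot] at hx
        rw [hx, map_one]
      | succ j ih =>
        intro hj x hx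
        refine fixed_of_fixed_shift hEp hco (ih (by omega) _ ?_)
        have := a.2 (m - (j + 1)) (by omega) x hx
        rwa [show m - (j + 1) + 1 = m - j by omega] at this
    refine Subtype.ext (Subtype.ext (MulEquiv.ext fun x => ?_))
    exact hfix m le_rfl x (by rw [Nat.sub_self, h0]; exact Subgroup.mem_top x)
  exact (essential_radical hS hE).2.le ⟨⟨α, hα⟩, CfsgLib.Solvable.Cores.le_pCore (hn := hMn) hMp hst, rfl⟩

/-- The natural module data attached to an essential subgroup and an element of its normalizer. -/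
theorem nat2_mk (hS : IsPGroup p S) (hF : F.IsSaturated p) {E W U : Subgroup Ω} (hE : F.IsEssential p E)
    (hWE : W ≤ E) (hUW : U ≤ W) (hW : ∀ α ∈ F.autGroup E, ∀ x ∈ W, autFn α x ∈ W)
    (hU : ∀ α ∈ F.autGroup E, ∀ x ∈ U, autFn α x ∈ U) (hidx : (W.subgroupOf E).index = p ^ 2)
    (hpow : ∀ x ∈ E, x ^ p ∈ W) (hcomm : ∀ a ∈ E, ∀ b ∈ E, ⁅a, b⁆ ∈ U) {n : Ω} (hn : n ∈ normalizerIn S E)
    (hnE : n ∉ E) (hfixW : ∀ x ∈ W, x⁻¹ * (n * x * n⁻¹) ∈ U) (hfixU : ∀ x ∈ U, n * x = x * n) :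
    Nat2 p (F.autGroup E) (W.subgroupOf E) (U.subgroupOf E) (conjAut E hn.2) := by
  haveI := finite_of_le_base hE.1.1
  have hA : conjAut E hn.2 ∈ F.autGroup E := autInducedBy_le_autGroup hE.1.1 (conjAut_mem_autInducedBy hn.2 hn.1)
  have hinvW : ∀ α ∈ F.autGroup E, ∀ x ∈ W.subgroupOf E, α x ∈ W.subgroupOf E := fun α hα x hx => by
    rw [Subgroup.mem_subgroupOf, ← autFn_coe α x]
    exact hW α hα _ hx
  have hinvU : ∀ α ∈ F.autGroup E, ∀ x ∈ U.subgroupOf E, α x ∈ U.subgroupOf E := fun α hα x hx => by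
    rw [Subgroup.mem_subgroupOf, ← autFn_coe α x]
    exact hU α hα _ hx
  have hfixU' : ∀ x ∈ U.subgroupOf E, conjAut E hn.2 x = x := fun x hx => Subtype.ext (by
    rw [conjAut_coe, hfixU _ (Subgroup.mem_subgroupOf.1 hx), mul_inv_cancel_right])
  have hinn : ∀ α ∈ F.autGroup E, (∀ x, x⁻¹ * α x ∈ W.subgroupOf E) →
      (∀ x ∈ W.subgroupOf E, x⁻¹ * α x ∈ U.subgroupOf E) → (∀ x ∈ U.subgroupOf E, α x = x) → α ∈ Inn E := by
    intro α hα h1 h2 h3
    refine mem_inn_of_stab hS hF hE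
      (fun k => if k = 0 then ⊤ else if k = 1 then W.subgroupOf E else if k = 2 then U.subgroupOf E else ⊥) 3
      rfl rfl (fun k hk a ha x hx => ?_) (fun k hk => ?_) hα fun k hk x hx => ?_
    · interval_cases k <;> simp_all
    · interval_cases k
      · simp
      · show U.subgroupOf E ≤ W.subgroupOf E
        exact fun x hx => hUW hx
      · simp
    · interval_cases k
      · simpa using h1 x
      · simpa using h2 x (by simpa using hx)
      · simp [h3 x (by simpa using hx)]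
  have hcommW : ∀ a b : E, ⁅a, b⁆ ∈ W.subgroupOf E := fun a b => by
    rw [Subgroup.mem_subgroupOf]
    simpa [commutatorElement_def] using hUW (hcomm a a.2 b b.2)
  refine ⟨⟨fun x hx g => ?_⟩, hinvW, hinvU, fun x hx => hUW hx, hidx, fun x => ?_, hcommW, hA,
    SmallEssential.conjAut_pow hS hE hn, fun x hx => ?_, hfixU', ?_, fun α hα h1 h2 h3 x => ?_⟩
  · rw [show g * x * g⁻¹ = ⁅g, x⁆ * x by simp [commutatorElement_def, mul_assoc]]
    exact mul_mem (hcommW g x) hx
  · rw [Subgroup.mem_subgroupOf, SubgroupClass.coe_pow]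
    exact hpow _ x.2
  · rw [Subgroup.mem_subgroupOf]
    simpa using hfixW x hx
  · by_contra hno
    push Not at hno
    exact hnE ((conjAut_mem_inn_iff (centralizer_le_of_centric hE.1) hn hE.1.1).1
      (hinn _ hA hno (fun x hx => by rw [Subgroup.mem_subgroupOf]; simpa using hfixW x hx) hfixU'))
  · obtain ⟨g, hg⟩ := hinn α hα h1 h2 h3
    rw [← hg, Subgroup.mem_subgroupOf]
    show ((x : Ω))⁻¹ * ((g : Ω) * x * (g : Ω)⁻¹) ∈ U
    have := hcomm _ (E.inv_mem x.2) g g.2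
    rw [commutatorElement_def, inv_inv] at this
    simpa [mul_assoc] using this

/-- An automorphism of a subgroup containing the centre and preserving it agrees there with one of `S`. -/
theorem exists_ext_Zc (hS : IsPGroup p S) (hF : F.IsSaturated p) {P : Subgroup Ω} (hPS : P ≤ S) (hZP : Zc S ≤ P)
    {α : MulAut P} (hα : α ∈ F.autGroup P) (hZ : ∀ z ∈ Zc S, autFn α z ∈ Zc S) :
    ∃ β ∈ F.autGroup S, ∀ z ∈ Zc S, autFn β z = autFn α z := by
  have hf := ((mem_autGroup_iff_fn hPS).1 hα).mono hZP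
  obtain ⟨N, g, hg, -, hN, hge⟩ := receptive_extend
    (fullyNormalized_receptive hS hF AbelianIndexP.Zc_fullyNormalized) hf (hf.img_eq_self hZ)
  have hSN : S ≤ N := fun y hy => by
    haveI := finite_of_le_base (Zc_le_base (S := S))
    refine (hN y).2 ⟨hy, mem_normalizer_of_map_le fun z hz => ?_, 1, S.one_mem, fun z hz => ?_⟩
    · rwa [(mem_Zc.1 hz).2 y hy, mul_inv_cancel_right]
    · rw [(mem_Zc.1 hz).2 y hy, mul_inv_cancel_right, one_mul, inv_one, mul_one]
  have hg' := hg.mono hSN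
  obtain ⟨β, hβ, hβg⟩ := exists_aut_of_fn hg' (hg'.img_eq_self fun x hx => hg'.mem hx)
  exact ⟨β, hβ, fun z hz => by
    have h1 := hβg ⟨z, Zc_le_base hz⟩
    rw [← autFn_coe β ⟨z, Zc_le_base hz⟩] at h1
    exact h1.trans (hge z hz)⟩

/-- Maps of the centre lie in a group of order prime to `p`. -/
theorem unipotent_Zc (hS : IsPGroup p S) (hF : F.IsSaturated p) {α : MulAut S} (hα : α ∈ F.autGroup S)
    (L : Subgroup Ω) (hL : L ≤ Zc S) (h1 : ∀ z ∈ L, autFn α z = z) (h2 : ∀ z ∈ Zc S, z⁻¹ * autFn α z ∈ L)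
    {z : Ω} (hz : z ∈ Zc S) : autFn α z = z := by
  haveI := finite_of_le_base (Zc_le_base (S := S))
  have hf := ((mem_autGroup_iff_fn le_rfl).1 hα).mono (Zc_le_base (S := S))
  have hmem : ∀ w ∈ Zc S, autFn α w ∈ Zc S := fun w hw => by
    have := (Zc S).mul_mem hw (hL (h2 w hw))
    rwa [mul_inv_cancel_left] at this
  obtain ⟨β, hβ, hβf⟩ := exists_aut_of_fn hf (hf.img_eq_self hmem)
  have hco : (orderOf β).Coprime p := by
    have := AbelianIndexP.coprime_autGroup_Zc hS hF ⟨β, hβ⟩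
    rwa [← Subgroup.orderOf_coe] at this
  have := fixed_of_fixed_shift (hS.to_le (Zc_le_base (S := S))) hco (x := (⟨z, hz⟩ : Zc S)) (Subtype.ext (by
    rw [hβf, Subgroup.coe_mul, Subgroup.coe_inv, hβf]
    exact h1 _ (h2 z hz)))
  exact (hβf ⟨z, hz⟩).symm.trans (congrArg Subtype.val this)

section Char

variable {X : Type*} [CommGroup X]

/-- A character of `S` as a function on the ambient group. -/
noncomputable def chi (χ : S →* X) (x : Ω) : X :=
  open Classical in if h : x ∈ S then χ ⟨x, h⟩ else 1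

theorem chi_apply (χ : S →* X) {x : Ω} (h : x ∈ S) : chi χ x = χ ⟨x, h⟩ := by rw [chi, dif_pos h]

/-- A character invariant under `Aut_F(S)` and all essential automizers kills the hyperfocal subgroup. -/
theorem char_trivial_of_invariant (hS : IsPGroup p S) (hF : F.IsSaturated p) (χ : S →* X)
    (hinv : ∀ P : Subgroup Ω, P = S ∨ F.IsEssential p P → ∀ α ∈ F.autGroup P, ∀ x ∈ P,
      chi χ (autFn α x) = chi χ x) (hhyp : F.hyperfocalSubgroup p = S) : ∀ x, χ x = 1 := by
  let E : FusionSystem S :=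
    { Hom := fun P => {φ | φ ∈ F.Hom P ∧ ∀ x : P, chi χ (φ x) = chi χ x}
      le_of_mem := fun h => F.le_of_mem h.1
      injective_of_mem := fun h => F.injective_of_mem h.1
      conj_mem := fun {P g} hP hg => ⟨F.conj_mem hP hg, fun x => by
        show chi χ (g * x * g⁻¹) = chi χ (x : Ω)
        rw [chi_apply χ (hP x.2), chi_apply χ (S.mul_mem (S.mul_mem hg (hP x.2)) (S.inv_mem hg))]
        show χ (⟨g, hg⟩ * ⟨x, hP x.2⟩ * (⟨g, hg⟩ : S)⁻¹) = χ ⟨x, hP x.2⟩
        rw [map_mul, map_mul, map_inv, mul_inv_cancel_comm]⟩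
      comp_mem := fun {P Q φ ψ} hφ hψ h => ⟨F.comp_mem hφ.1 hψ.1 h, fun x => (hψ.2 _).trans (hφ.2 x)⟩
      inv_mem := fun {P φ} hφ => by
        obtain ⟨ψ, hψ, hψφ⟩ := F.inv_mem hφ.1
        refine ⟨ψ, ⟨hψ, ?_⟩, hψφ⟩
        rintro ⟨_, x, rfl⟩
        rw [hψφ x, hφ.2 x] }
  have key : ∀ P : Subgroup Ω, P = S ∨ F.IsEssential p P → F.autGroup P ≤ E.autGroup P := by
    intro P hP α hα
    have hPS : P ≤ S := by rcases hP with rfl | h; exacts [le_rfl, h.1.1]
    refine (mem_autGroup hPS).2 ⟨(mem_autGroup hPS).1 hα, fun x => ?_⟩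
    rw [show ((P.subtype.comp α.toMonoidHom) x : Ω) = autFn α x from (autFn_coe α x).symm]
    exact hinv P hP α hα x x.2
  have hle := alperin hS hF E (key S (Or.inl rfl)) fun P _ hP => key P (Or.inr hP)
  intro x
  have hker : F.hyperfocalSubgroup p ≤ (χ.ker).map S.subtype := (Subgroup.closure_le _).2 (by
    rintro _ ⟨P, α, z, hP, -, rfl⟩
    have h2 : ((α : MulAut P) z : Ω) ∈ S := hP ((α : MulAut P) z).2
    have h1 := (hle P ((mem_autGroup hP).1 α.2)).2 z
    rw [show (P.subtype.comp (α : MulAut P).toMonoidHom) z = (((α : MulAut P) z : P) : Ω) from rfl,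
      chi_apply χ h2, chi_apply χ (hP z.2)] at h1
    exact ⟨(⟨z, hP z.2⟩ : S)⁻¹ * ⟨_, h2⟩, by
      rw [SetLike.mem_coe, MonoidHom.mem_ker, map_mul, map_inv, h1, inv_mul_cancel], rfl⟩)
  obtain ⟨y, hy, hxy⟩ := hker (show (x : Ω) ∈ F.hyperfocalSubgroup p by rw [hhyp]; exact x.2)
  rw [← Subtype.ext hxy]
  exact hy

/-- Symmetrisation of a character over `Aut_F(S)`. -/
theorem exists_invariant_char (hS : IsPGroup p S) (hF : F.IsSaturated p) (χ₀ : S →* X)
    (hX : ∀ a : X, a ^ p = 1) {c : S} (hc : χ₀ c ≠ 1) (hfix : ∀ α ∈ F.autGroup S, χ₀ (α c) = χ₀ c) :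
    ∃ χ : S →* X, (∀ α ∈ F.autGroup S, ∀ x, χ (α x) = χ x) ∧ ∃ y, χ y ≠ 1 := by
  classical
  haveI hn := inn_normal_aut (F := F) (P := S)
  set A := F.autGroup S
  set I := (Inn S).subgroupOf A with hI
  haveI : Fintype (A ⧸ I) := Fintype.ofFinite _
  have hcong : ∀ a b : A, (a : A ⧸ I) = b → ∀ x : S, χ₀ ((a : MulAut S) x) = χ₀ ((b : MulAut S) x) := by
    intro a b e x
    have h1 : a⁻¹ * b ∈ I := QuotientGroup.eq.1 e
    obtain ⟨g, hg⟩ := Subgroup.mem_subgroupOf.1 h1
    rw [show (b : MulAut S) = (a : MulAut S) * (MulAut.conj g : MulAut S) by rw [hg]; simp, MulAut.mul_apply,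
      MulAut.conj_apply]
    simp [mul_inv_cancel_comm]
  let χ : S →* X := MonoidHom.mk' (fun x => ∏ q : A ⧸ I, χ₀ ((q.out : MulAut S) x)) fun x y => by
    rw [← Finset.prod_mul_distrib]
    exact Finset.prod_congr rfl fun q _ => by rw [map_mul, map_mul]
  refine ⟨χ, fun α hα x => ?_, c, ?_⟩
  · show ∏ q : A ⧸ I, χ₀ ((q.out : MulAut S) (α x)) = ∏ q : A ⧸ I, χ₀ ((q.out : MulAut S) x)
    refine Fintype.prod_equiv (Equiv.mulRight ((⟨α, hα⟩ : A) : A ⧸ I)) _ _ fun q => ?_
    rw [show (q.out : MulAut S) (α x) = ((q.out * ⟨α, hα⟩ : A) : MulAut S) x from rfl]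
    refine hcong _ _ ?_ x
    rw [QuotientGroup.mk_mul, QuotientGroup.out_eq', QuotientGroup.out_eq']
    rfl
  · show ∏ q : A ⧸ I, χ₀ ((q.out : MulAut S) c) ≠ 1
    rw [Finset.prod_congr rfl fun q _ => hfix _ q.out.2, Finset.prod_const, Finset.card_univ,
      ← Nat.card_eq_fintype_card]
    intro e
    obtain ⟨-, T, hT⟩ := fullyAutomized_top hF
    have hnd : ¬ p ∣ Nat.card (A ⧸ I) := by
      rw [← Subgroup.index_eq_card]
      have hIT : (T : Subgroup A) = I := by
        rw [hT]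
        exact congrArg (fun K => Subgroup.subgroupOf K A) (le_antisymm
          ((Subgroup.closure_le _).2 fun a ⟨g, hg, hga⟩ => ⟨⟨g, hg⟩, MulEquiv.ext fun z => Subtype.ext
            (by rw [hga]; rfl)⟩) (inn_le_autInducedBy le_rfl))
      rw [← hIT]
      exact T.not_dvd_index
    exact hc (orderOf_eq_one_iff.1 (Nat.eq_one_of_dvd_coprimes ((hp.out.coprime_iff_not_dvd).2 hnd)
      (orderOf_dvd_of_pow_eq_one (hX _)) (orderOf_dvd_of_pow_eq_one e)))

end Char

end CfsgLib.Fsys.OrderPFive
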