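import Cfsg.Agent.Lib.FusionSystem.CentralIndex
import Cfsg.Agent.Lib.FusionSystem.SmallEssential

/-!
A group of automorphisms of a `p`-group inducing on a quotient of order `p ^ 2` two different unipotent groups:
torus elements and invariant characters.
-/

set_option autoImplicit false
set_option linter.unusedSectionVars false
set_option linter.style.haveILetI false

open scoped commutatorElement

namespace CfsgLib.Fsys.OrderPFive

open CfsgLib.Fsys.CentralIndex (exists_zpow_eq shift_zpow)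

variable {G : Type*} [Group G] {p : ℕ} [hp : Fact p.Prime]

/-- Outside a normal subgroup of index `p` one element generates modulo it. -/
theorem exists_zpow_shift {H : Subgroup G} [H.Normal] (hH : H.index = p) {y : G} (hy : y ∉ H) (x : G) :
    ∃ i : ℤ, (y ^ i)⁻¹ * x ∈ H := by
  have h := zpowers_eq_top_of_prime_card (G := G ⧸ H) (p := p) (g := (y : G ⧸ H))
    (by rw [← Subgroup.index_eq_card, hH]) (fun e => hy ((QuotientGroup.eq_one_iff y).1 e))
  obtain ⟨i, hi⟩ := Subgroup.mem_zpowers_iff.1 (h.ge (Subgroup.mem_top (x : G ⧸ H)))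
  exact ⟨i, QuotientGroup.eq.1 (by rw [QuotientGroup.mk_zpow]; exact hi)⟩

/-- An integer with an inverse modulo `p`. -/
theorem exists_intInv {i : ℤ} (hi : ¬ (p : ℤ) ∣ i) : ∃ j : ℤ, (p : ℤ) ∣ i * j - 1 := by
  obtain ⟨u, v, huv⟩ := ((Nat.prime_iff_prime_int.1 hp.out).coprime_iff_not_dvd).2 hi
  exact ⟨v, -u, by linear_combination huv⟩

theorem zpow_congr_mod {x : G} (hx : x ^ p = 1) {i j : ℤ} (h : (p : ℤ) ∣ i - j) : x ^ i = x ^ j := by
  obtain ⟨k, hk⟩ := h
  rw [show i = (p : ℤ) * k + j by linarith, zpow_add, zpow_mul, zpow_natCast, hx, one_zpow, one_mul]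

/-- `A` acts on `G / W` of order `p ^ 2`; `t` is nontrivial there and trivial on `W / U` and on `U`. -/
structure Nat2 (p : ℕ) (A : Subgroup (MulAut G)) (W U : Subgroup G) (t : MulAut G) : Prop where
  normal : W.Normal
  invW : ∀ α ∈ A, ∀ x ∈ W, α x ∈ W
  invU : ∀ α ∈ A, ∀ x ∈ U, α x ∈ U
  UW : U ≤ W
  idx : W.index = p ^ 2
  pow : ∀ x : G, x ^ p ∈ W
  comm : ∀ a b : G, ⁅a, b⁆ ∈ W
  mem : t ∈ A
  ptor : ∃ k : ℕ, t ^ p ^ k = 1
  fixW : ∀ x ∈ W, x⁻¹ * t x ∈ U
  fixU : ∀ x ∈ U, t x = x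
  moves : ∃ x, x⁻¹ * t x ∉ W
  stab : ∀ α ∈ A, (∀ x, x⁻¹ * α x ∈ W) → (∀ x ∈ W, x⁻¹ * α x ∈ U) → (∀ x ∈ U, α x = x) → ∀ x, x⁻¹ * α x ∈ U

variable {A : Subgroup (MulAut G)} {W U : Subgroup G} {t : MulAut G}

/-- The elements whose class modulo `W` is fixed by `t`. -/
def fixLine (W : Subgroup G) [W.Normal] (t : MulAut G) : Subgroup G :=
  MonoidHom.eqLocus ((QuotientGroup.mk' W).comp t.toMonoidHom) (QuotientGroup.mk' W)

theorem mem_fixLine [W.Normal] {x : G} : x ∈ fixLine W t ↔ x⁻¹ * t x ∈ W := by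
  show ((t x : G) : G ⧸ W) = (x : G ⧸ W) ↔ _
  rw [eq_comm, QuotientGroup.eq]

theorem le_fixLine [W.Normal] (h : Nat2 p A W U t) : W ≤ fixLine W t := fun x hx =>
  mem_fixLine.2 (h.UW (h.fixW x hx))

theorem fixLine_normal [W.Normal] (h : Nat2 p A W U t) : (fixLine W t).Normal := by
  refine ⟨fun x hx g => ?_⟩
  have : g * x * g⁻¹ = ⁅g, x⁆ * x := by simp [commutatorElement_def, mul_assoc]
  rw [this]
  exact (fixLine W t).mul_mem (le_fixLine h (h.comm g x)) hx

/-- The line has index `p`, and `t` moves everything into it. -/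
theorem fixLine_spec [Finite G] [W.Normal] (hG : IsPGroup p G) (h : Nat2 p A W U t) :
    (fixLine W t).index = p ∧ ∀ x, x⁻¹ * t x ∈ fixLine W t := by
  classical
  set L := fixLine W t with hL
  haveI := fixLine_normal h
  have hne : L ≠ ⊤ := fun e => by
    obtain ⟨x, hx⟩ := h.moves
    exact hx (mem_fixLine.1 (hL ▸ e ▸ Subgroup.mem_top x))
  obtain ⟨k, hk⟩ := h.ptor
  -- a nontrivial fixed class
  let q : G ⧸ W ≃* G ⧸ W := QuotientGroup.congr W W t (by
    apply le_antisymm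
    · rintro _ ⟨x, hx, rfl⟩; exact h.invW t h.mem x hx
    · intro x hx
      refine ⟨t.symm x, ?_, t.apply_symm_apply x⟩
      have := h.invW t⁻¹ (inv_mem h.mem) x hx
      exact this)
  have hq : ∀ x : G, q (x : G ⧸ W) = ((t x : G) : G ⧸ W) := fun x => rfl
  have hqk : ∀ (n : ℕ) (x : G), (q ^ n : MulAut (G ⧸ W)) (x : G ⧸ W) = (((t ^ n) x : G) : G ⧸ W) := by
    intro n
    induction n with
    | zero => intro x; rfl
    | succ n ih => intro x; rw [pow_succ', MulAut.mul_apply, ih, hq, pow_succ', MulAut.mul_apply]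
  have hqp : (q : MulAut (G ⧸ W)) ^ p ^ k = 1 := MulEquiv.ext fun y => by
    obtain ⟨x, rfl⟩ := QuotientGroup.mk'_surjective W y
    rw [QuotientGroup.mk'_apply, hqk, hk]
    rfl
  have hP : IsPGroup p (Subgroup.zpowers (q : MulAut (G ⧸ W))) := by
    rintro ⟨_, j, rfl⟩
    refine ⟨k, Subtype.ext ?_⟩
    show ((q : MulAut (G ⧸ W)) ^ j) ^ p ^ k = 1
    rw [← zpow_natCast, ← zpow_mul, mul_comm, zpow_mul, zpow_natCast, hqp, one_zpow]
  have hcardQ : Nat.card (G ⧸ W) = p ^ 2 := by rw [← Subgroup.index_eq_card, h.idx]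
  obtain ⟨y, hy, hy1⟩ := hP.exists_fixed_point_of_prime_dvd_card_of_fixed_point (α := G ⧸ W)
    (by rw [hcardQ]; exact dvd_pow_self p two_ne_zero) (a := 1) (fun m => map_one (m : MulAut (G ⧸ W)))
  obtain ⟨x, rfl⟩ := QuotientGroup.mk'_surjective W y
  have hxL : x ∈ L := mem_fixLine.2 (QuotientGroup.eq.1 (by
    have := hy ⟨(q : MulAut (G ⧸ W)), Subgroup.mem_zpowers _⟩
    exact ((hq x).symm.trans this).symm))
  have hxW : x ∉ W := fun hh => hy1 ((QuotientGroup.eq_one_iff x).2 hh).symm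
  have hmul := Subgroup.relIndex_mul_index (le_fixLine h)
  have h1 : W.relIndex L ≠ 1 := fun e => hxW (Subgroup.relIndex_eq_one.1 e hxL)
  have h2 : L.index ≠ 1 := fun e => hne (Subgroup.index_eq_one.1 e)
  have hidx : L.index = p := by
    rw [h.idx] at hmul
    obtain ⟨i, hi, hie⟩ := (Nat.dvd_prime_pow hp.out).1 (⟨_, hmul.symm.trans (mul_comm _ _)⟩ : L.index ∣ p ^ 2)
    interval_cases i
    · exact absurd (by rw [hie, pow_zero]) h2
    · rw [hie, pow_one]
    · exfalso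
      rw [hie] at hmul
      exact h1 (Nat.eq_of_mul_eq_mul_right (pow_pos hp.out.pos 2) (by rw [hmul, one_mul]))
  refine ⟨hidx, fun g => SmallEssential.shift_small hG le_top (by rw [Subgroup.relIndex_top_right, hidx]) hk
    (fun v hv => ?_) (fun _ _ => Subgroup.mem_top _) (Subgroup.mem_top g)⟩
  refine mem_fixLine.2 ?_
  rw [← map_inv, ← map_mul]
  exact h.invW t h.mem _ (mem_fixLine.1 hv)

/-- Torus elements: if `A` moves the line then it has every diagonal element of determinant one. -/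
theorem exists_torus [Finite G] [W.Normal] (hG : IsPGroup p G) (h : Nat2 p A W U t) {α : MulAut G} (hα : α ∈ A)
    {l₀ : G} (hl₀ : l₀ ∈ fixLine W t) (hαl : α l₀ ∉ fixLine W t) :
    (∀ lam mu : ℤ, (p : ℤ) ∣ lam * mu - 1 → ∃ d ∈ A, (∀ x ∈ fixLine W t, (x ^ lam)⁻¹ * d x ∈ W) ∧
        ((α l₀) ^ mu)⁻¹ * d (α l₀) ∈ W ∧ (∀ x ∈ W, x⁻¹ * d x ∈ U) ∧ ∀ x ∈ U, d x = x) ∧
      ∃ w ∈ A, (w l₀)⁻¹ * (α l₀)⁻¹ ∈ W ∧ (∀ x ∈ W, x⁻¹ * w x ∈ U) ∧ ∀ x ∈ U, w x = x := by
  set L := fixLine W t with hLdef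
  haveI := fixLine_normal h
  obtain ⟨hLidx, htL⟩ := fixLine_spec hG h
  set y := α l₀ with hy
  have hl₀W : l₀ ∉ W := fun hh => hαl (le_fixLine h (h.invW α hα _ hh))
  -- the elements acting trivially on `W / U` and `U`
  let St : Subgroup (MulAut G) :=
    { carrier := {a | a ∈ A ∧ (∀ x ∈ W, x⁻¹ * a x ∈ U) ∧ ∀ x ∈ U, a x = x}
      one_mem' := ⟨A.one_mem, fun x _ => by simp, fun x _ => rfl⟩
      mul_mem' := fun {a b} ha hb => ⟨A.mul_mem ha.1 hb.1, fun x hx => by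
          rw [MulAut.mul_apply, show x⁻¹ * a (b x) = (x⁻¹ * a x) * a (x⁻¹ * b x) by rw [map_mul, map_inv]; group,
            ha.2.2 _ (hb.2.1 x hx)]
          exact U.mul_mem (ha.2.1 x hx) (hb.2.1 x hx),
        fun x hx => by rw [MulAut.mul_apply, hb.2.2 x hx, ha.2.2 x hx]⟩
      inv_mem' := fun {a} ha => ⟨A.inv_mem ha.1, fun x hx => by
          have hx' : a⁻¹ x ∈ W := h.invW _ (A.inv_mem ha.1) x hx
          have := U.inv_mem (ha.2.1 _ hx')
          rwa [MulAut.apply_inv_self, mul_inv_rev, inv_inv] at this,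
        fun x hx => by
          conv_lhs => rw [← ha.2.2 x hx]
          rw [MulAut.inv_apply_self]⟩ }
  set t' := α * t * α⁻¹ with ht'
  have htS : t ∈ St := ⟨h.mem, h.fixW, h.fixU⟩
  have ht'S : t' ∈ St := by
    refine ⟨A.mul_mem (A.mul_mem hα h.mem) (A.inv_mem hα), fun x hx => ?_, fun x hx => ?_⟩
    · have := h.invU α hα _ (h.fixW _ (h.invW _ (A.inv_mem hα) x hx))
      rwa [map_mul, map_inv, MulAut.apply_inv_self] at this
    · rw [ht', MulAut.mul_apply, MulAut.mul_apply, h.fixU _ (h.invU _ (A.inv_mem hα) x hx), MulAut.apply_inv_self]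
  -- classes modulo `W`
  let π : G →* G ⧸ W := QuotientGroup.mk' W
  have hπ : ∀ {a b : G}, π a = π b ↔ a⁻¹ * b ∈ W := fun {a b} => QuotientGroup.eq
  have hπp : ∀ a : G, π a ^ p = 1 := fun a => by rw [← map_pow]; exact (QuotientGroup.eq_one_iff _).2 (h.pow a)
  have hπc : ∀ a b : G, π a * π b = π b * π a := fun a b => by
    rw [← commutatorElement_eq_one_iff_mul_comm, ← map_commutatorElement]
    exact (QuotientGroup.eq_one_iff _).2 (h.comm a b)
  have hmap : ∀ (a : MulAut G), a ∈ A → ∀ x x' : G, π x = π x' → π (a x) = π (a x') := fun a ha x x' e => hπ.2 (by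
    rw [← map_inv, ← map_mul]; exact h.invW a ha _ (hπ.1 e))
  -- the induced action
  have hWmap : ∀ a : A, W.map ((a : MulAut G) : G →* G) = W := fun a => by
    apply le_antisymm
    · rintro _ ⟨x, hx, rfl⟩; exact h.invW a a.2 x hx
    · intro x hx
      exact ⟨(a : MulAut G)⁻¹ x, h.invW _ (A.inv_mem a.2) x hx, by simp⟩
  let ρ : A →* MulAut (G ⧸ W) :=
    MonoidHom.mk' (fun a => QuotientGroup.congr W W (a : MulAut G) (hWmap a)) fun a b => MulEquiv.ext fun q => by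
      obtain ⟨x, rfl⟩ := QuotientGroup.mk'_surjective W q
      rfl
  have hρ : ∀ (a : A) (x : G), ρ a (π x) = π ((a : MulAut G) x) := fun _ _ => rfl
  set T : A := ⟨t, h.mem⟩
  set T' : A := ⟨t', ht'S.1⟩
  have htfix : ∀ l ∈ L, π (t l) = π l := fun l hl => (hπ.2 (mem_fixLine.1 hl)).symm
  -- the two basic classes
  have hgenL : ∀ l ∈ L, π l ∈ Subgroup.zpowers (π l₀) := by
    intro l hl
    haveI : (W.subgroupOf L).Normal := Subgroup.normal_subgroupOf
    have hWL : (W.subgroupOf L).index = p := by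
      have hmul := Subgroup.relIndex_mul_index (le_fixLine h)
      rw [hLidx, h.idx, sq] at hmul
      exact Nat.eq_of_mul_eq_mul_right hp.out.pos hmul
    obtain ⟨i, hi⟩ := exists_zpow_shift hWL (y := ⟨l₀, hl₀⟩) (fun hh => hl₀W hh) ⟨l, hl⟩
    exact ⟨i, by
      show π l₀ ^ i = π l
      rw [← map_zpow]
      exact hπ.2 (by simpa [Subgroup.mem_subgroupOf] using hi)⟩
  have hgen : ∀ x : G, ∃ i j : ℤ, π x = π y ^ i * π l₀ ^ j := by
    intro x
    obtain ⟨i, hi⟩ := exists_zpow_shift hLidx hαl x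
    obtain ⟨j, hj⟩ := Subgroup.mem_zpowers_iff.1 (hgenL _ hi)
    exact ⟨i, j, by rw [hj, map_mul, map_inv, map_zpow, mul_inv_cancel_left]⟩
  have hty : π (t' y) = π y := by
    show π (α (t (α⁻¹ (α l₀)))) = π (α l₀)
    rw [MulAut.inv_apply_self]
    exact hmap α hα _ _ (htfix l₀ hl₀)
  have hta : (π y)⁻¹ * π (t y) ∈ Subgroup.zpowers (π l₀) ∧ (π y)⁻¹ * π (t y) ≠ 1 := by
    refine ⟨?_, fun e => hαl (mem_fixLine.2 (hπ.1 (inv_mul_eq_one.1 e)))⟩
    rw [← map_inv, ← map_mul]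
    exact hgenL _ (htL y)
  have htb : (π l₀)⁻¹ * π (t' l₀) ∈ Subgroup.zpowers (π y) ∧ (π l₀)⁻¹ * π (t' l₀) ≠ 1 := by
    constructor
    · obtain ⟨k, hk⟩ := Subgroup.mem_zpowers_iff.1 (hgenL _ (htL (α⁻¹ l₀)))
      refine ⟨k, ?_⟩
      show π (α l₀) ^ k = _
      rw [← map_zpow, ← map_zpow α, ← map_inv, ← map_mul, show l₀⁻¹ * t' l₀ = α ((α⁻¹ l₀)⁻¹ * t (α⁻¹ l₀)) by
        rw [map_mul, map_inv, MulAut.apply_inv_self]; rfl]
      exact hmap α hα _ _ (by rw [map_zpow]; exact hk)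
    · intro e
      -- then `t'`, and so `t`, would be trivial modulo `W`
      obtain ⟨x, hx⟩ := h.moves
      refine hx (hπ.1 ?_)
      obtain ⟨i, j, hij⟩ := hgen (α x)
      have e1 : π (t' (α x)) = π (α x) := by
        rw [hmap t' ht'S.1 (α x) (y ^ i * l₀ ^ j) (by rw [hij, map_mul, map_zpow, map_zpow]), map_mul t',
          map_zpow t', map_zpow t', map_mul, map_zpow, map_zpow, hty, ← inv_mul_eq_one.1 e, hij]
      have e2 := hmap α⁻¹ (A.inv_mem hα) _ _ e1
      rw [show t' (α x) = α (t (α⁻¹ (α x))) from rfl, MulAut.inv_apply_self, MulAut.inv_apply_self] at e2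
      exact e2.symm
  -- elementary transvections
  have hup : ∀ e : ℤ, ∃ u ∈ St, π (u l₀) = π l₀ ∧ π (u y) = π y * π l₀ ^ e := by
    intro e
    obtain ⟨k, hk⟩ := exists_zpow_eq (hπp l₀) hta.1 hta.2 (e := π l₀ ^ e) ⟨e, rfl⟩
    obtain ⟨i, hi⟩ := Subgroup.mem_zpowers_iff.1 hta.1
    have hfix : ρ T (π l₀) = π l₀ := htfix l₀ hl₀
    have h1 : (ρ T ^ k) (π y) = π y * ((π y)⁻¹ * π (t y)) ^ k := shift_zpow
      (by rw [mul_inv_cancel_left]; exact hρ T y) (by rw [← hi, map_zpow, hfix]) k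
    have h2 : (ρ T ^ k) (π l₀) = π l₀ := by
      have := shift_zpow (γ := ρ T) (v := π l₀) (f := 1) (by rw [mul_one, hfix]) (map_one _) k
      rwa [one_zpow, mul_one] at this
    refine ⟨t ^ k, St.zpow_mem htS k, ?_, ?_⟩
    · rw [← map_zpow] at h2; exact h2
    · rw [← map_zpow, hk] at h1; exact h1
  have hdown : ∀ e : ℤ, ∃ v ∈ St, π (v y) = π y ∧ π (v l₀) = π l₀ * π y ^ e := by
    intro e
    obtain ⟨k, hk⟩ := exists_zpow_eq (hπp y) htb.1 htb.2 (e := π y ^ e) ⟨e, rfl⟩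
    obtain ⟨i, hi⟩ := Subgroup.mem_zpowers_iff.1 htb.1
    have hfix : ρ T' (π y) = π y := hty
    have h1 : (ρ T' ^ k) (π l₀) = π l₀ * ((π l₀)⁻¹ * π (t' l₀)) ^ k := shift_zpow
      (by rw [mul_inv_cancel_left]; exact hρ T' l₀) (by rw [← hi, map_zpow, hfix]) k
    have h2 : (ρ T' ^ k) (π y) = π y := by
      have := shift_zpow (γ := ρ T') (v := π y) (f := 1) (by rw [mul_one, hfix]) (map_one _) k
      rwa [one_zpow, mul_one] at this
    refine ⟨t' ^ k, St.zpow_mem ht'S k, ?_, ?_⟩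
    · rw [← map_zpow] at h2; exact h2
    · rw [← map_zpow, hk] at h1; exact h1
  have hap : ∀ a ∈ St, ∀ (i j : ℤ) (x : G), π x = π y ^ i * π l₀ ^ j →
      π (a x) = π (a y) ^ i * π (a l₀) ^ j := fun a ha i j x e => by
    rw [hmap a ha.1 x (y ^ i * l₀ ^ j) (by rw [e, map_mul, map_zpow, map_zpow]), map_mul a, map_zpow a,
      map_zpow a, map_mul, map_zpow, map_zpow]
  -- the element exchanging the two classes
  have hweyl : ∀ s r : ℤ, (p : ℤ) ∣ r * s + 1 →
      ∃ w ∈ St, π (w l₀) = π y ^ r ∧ π (w y) = π l₀ ^ s := by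
    intro s r hrs
    obtain ⟨u, hu, hul, huy⟩ := hup s
    obtain ⟨v, hv, hvy, hvl⟩ := hdown r
    have c : Commute (π y) (π l₀) := hπc y l₀
    refine ⟨u * v * u, St.mul_mem (St.mul_mem hu hv) hu, ?_, ?_⟩
    · rw [MulAut.mul_apply, MulAut.mul_apply, hmap u hu.1 _ _ (hmap v hv.1 (u l₀) l₀ hul)]
      rw [hap u hu r 1 (v l₀) (by rw [hvl, zpow_one, (c.zpow_left r).eq]), huy, hul, zpow_one,
        (c.zpow_right s).mul_zpow, mul_assoc, ← zpow_mul, ← zpow_add_one]
      rw [zpow_congr_mod (hπp l₀) (i := s * r + 1) (j := 0) (by rw [sub_zero, mul_comm]; exact hrs), zpow_zero,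
        mul_one]
    · have h1 : π (v (u y)) = π l₀ ^ s := by
        rw [hap v hv 1 s (u y) (by rw [zpow_one, huy]), hvy, hvl, zpow_one, (c.symm.zpow_right r).mul_zpow,
          ((c.symm.zpow_left s).zpow_right r |>.zpow_right s).eq, ← mul_assoc, ← zpow_mul, ← zpow_one_add,
          zpow_congr_mod (hπp y) (i := 1 + r * s) (j := 0) (by rw [sub_zero, add_comm]; exact hrs), zpow_zero,
          one_mul]
      rw [MulAut.mul_apply, MulAut.mul_apply, hap u hu 0 s (v (u y)) (by rw [h1, zpow_zero, one_mul]), hul,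
        zpow_zero, one_mul]
  refine ⟨fun lam mu hlm => ?_, ?_⟩
  · obtain ⟨w₁, hw₁, hw₁l, hw₁y⟩ := hweyl 1 (-1) ⟨0, by ring⟩
    obtain ⟨w, hw, hwl, hwy⟩ := hweyl (-lam) mu (by
      obtain ⟨k, hk⟩ := hlm
      exact ⟨-k, by linear_combination -hk⟩)
    refine ⟨w * w₁, A.mul_mem hw.1 hw₁.1, fun x hx => hπ.1 ?_, hπ.1 ?_, (St.mul_mem hw hw₁).2.1,
      (St.mul_mem hw hw₁).2.2⟩
    · obtain ⟨j, hj⟩ := Subgroup.mem_zpowers_iff.1 (hgenL x hx)
      rw [map_zpow, ← hj, MulAut.mul_apply]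
      have h1 : π (w₁ x) = π y ^ (-j) := by
        rw [hap w₁ hw₁ 0 j x (by rw [zpow_zero, one_mul, hj]), hw₁l, zpow_zero, one_mul, ← zpow_mul, neg_one_mul]
      rw [hap w hw (-j) 0 (w₁ x) (by rw [h1, zpow_zero, mul_one]), hwy, zpow_zero, mul_one, ← zpow_mul, ← zpow_mul]
      ring_nf
    · rw [map_zpow, MulAut.mul_apply, hap w hw 0 1 (w₁ y) (by rw [hw₁y, zpow_zero, one_mul]), hwl, zpow_zero,
        one_mul, zpow_one]
  · obtain ⟨w, hw, hwl, -⟩ := hweyl 1 (-1) ⟨0, by ring⟩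
    refine ⟨w, hw.1, ?_, hw.2.1, hw.2.2⟩
    refine hπ.1 ?_
    rw [hwl, map_inv, zpow_neg, zpow_one]

/-- Characters fixed by the stabilizer of the line are fixed by `A`. -/
theorem char_invariant [Finite G] [W.Normal] (hG : IsPGroup p G) (hp2 : p ≠ 2) (h : Nat2 p A W U t)
    {X : Type*} [CommGroup X] (χ : G →* X) (hU : ∀ x ∈ U, χ x = 1)
    (hχ : ∀ α ∈ A, (∀ x ∈ fixLine W t, α x ∈ fixLine W t) → ∀ x, χ (α x) = χ x) :
    ∀ α ∈ A, ∀ x, χ (α x) = χ x := by
  intro α hα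
  set L := fixLine W t with hLdef
  haveI := fixLine_normal h
  obtain ⟨hLidx, htL⟩ := fixLine_spec hG h
  by_cases hL : ∀ x ∈ L, α x ∈ L
  · exact hχ α hα hL
  push Not at hL
  obtain ⟨l₀, hl₀, hαl⟩ := hL
  obtain ⟨htor, w, hw, hwl, hwW, hwU⟩ := exists_torus hG h hα hl₀ hαl
  obtain ⟨d, hd, hdL, hdy, hdW, hdU⟩ := htor (-1) (-1) ⟨0, by ring⟩
  set y := α l₀
  let π : G →* G ⧸ W := QuotientGroup.mk' W
  have hπ : ∀ {a b : G}, π a = π b ↔ a⁻¹ * b ∈ W := fun {a b} => QuotientGroup.eq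
  have hπc : ∀ a b : G, π a * π b = π b * π a := fun a b => by
    rw [← commutatorElement_eq_one_iff_mul_comm, ← map_commutatorElement]
    exact (QuotientGroup.eq_one_iff _).2 (h.comm a b)
  have hmap : ∀ (a : MulAut G), a ∈ A → ∀ x x' : G, π x = π x' → π (a x) = π (a x') := fun a ha x x' e => hπ.2 (by
    rw [← map_inv, ← map_mul]; exact h.invW a ha _ (hπ.1 e))
  have hgen : ∀ x : G, ∃ i : ℤ, ∃ l ∈ L, π x = π y ^ i * π l := fun x => by
    obtain ⟨i, hi⟩ := exists_zpow_shift hLidx hαl x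
    exact ⟨i, _, hi, by rw [map_mul, map_inv, map_zpow, mul_inv_cancel_left]⟩
  -- `d` inverts the quotient
  have hdinv : ∀ x, π (d x) = (π x)⁻¹ := fun x => by
    obtain ⟨i, l, hl, e⟩ := hgen x
    have hy' : π (d y) = (π y)⁻¹ := by rw [← hπ.2 hdy, map_zpow, zpow_neg_one]
    have hl' : π (d l) = (π l)⁻¹ := by rw [← hπ.2 (hdL l hl), map_zpow, zpow_neg_one]
    rw [hmap d hd x (y ^ i * l) (by rw [e, map_mul, map_zpow]), map_mul d, map_zpow d, map_mul, map_zpow, hy', hl',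
      e, mul_inv_rev, inv_zpow, (show Commute (π l)⁻¹ (π y ^ i)⁻¹ from
        (show Commute (π l) (π y ^ i) from (show Commute (π l) (π y) from hπc l y).zpow_right i).inv_inv).eq]
  have hdfix : ∀ x, χ (d x) = χ x := hχ d hd fun l hl => by
    have h1 := L.mul_mem (L.zpow_mem hl (-1)) (le_fixLine h (hdL l hl))
    rwa [mul_inv_cancel_left] at h1
  -- `w` commutes with `d` modulo `U`, so fixes the character
  have hWU : ∀ (a : MulAut G), a ∈ A → (∀ x ∈ W, x⁻¹ * a x ∈ U) → ∀ x ∈ W, χ (a x) = χ x := fun a _ ha x hx => by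
    have := hU _ (ha x hx)
    rwa [map_mul, map_inv, inv_mul_eq_one, eq_comm] at this
  have hwd : ∀ x, χ (w (d x)) = χ (w x) := by
    intro x
    have hdw : d * w ∈ A := A.mul_mem hd hw
    have hc : (d * w)⁻¹ * (w * d) ∈ A := A.mul_mem (A.inv_mem hdw) (A.mul_mem hw hd)
    have h1 : ∀ z, z⁻¹ * ((d * w)⁻¹ * (w * d)) z ∈ U := by
      refine h.stab _ hc (fun z => hπ.1 ?_) (fun z hz => ?_) fun z hz => ?_
      · have e : π (w (d z)) = π (d (w z)) := by
          rw [hmap w hw (d z) z⁻¹ (by rw [hdinv, map_inv]), map_inv w, map_inv, hdinv]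
        have e2 := hmap _ (A.inv_mem hdw) _ _ e
        have e3 : (d * w)⁻¹ (d (w z)) = z := MulEquiv.symm_apply_apply (d * w) z
        rw [e3] at e2
        exact e2.symm
      · have hz1 : d z ∈ W := h.invW d hd z hz
        have hz2 : w z ∈ W := h.invW w hw z hz
        have e1 : z⁻¹ * (w * d) z ∈ U := by
          have := U.mul_mem (hdW z hz) (hwW _ hz1)
          rwa [mul_assoc, mul_inv_cancel_left] at this
        have e2 : z⁻¹ * (d * w) z ∈ U := by
          have := U.mul_mem (hwW z hz) (hdW _ hz2)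
          rwa [mul_assoc, mul_inv_cancel_left] at this
        have e3 := U.mul_mem (U.inv_mem e2) e1
        rw [mul_inv_rev, inv_inv, mul_assoc, mul_inv_cancel_left] at e3
        have e4 := h.invU _ (A.inv_mem hdw) _ e3
        rwa [map_mul, map_inv, MulAut.inv_apply_self] at e4
      · show (d * w)⁻¹ (w (d z)) = z
        rw [hdU z hz, hwU z hz]
        exact (congrArg ((d * w)⁻¹ : MulAut G) (show z = d (w z) by rw [hwU z hz, hdU z hz])).trans
          (MulEquiv.symm_apply_apply (d * w) z)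
    have h2 := hU _ (h.invU _ hdw _ (h1 x))
    rw [map_mul, map_inv, map_mul, map_inv, inv_mul_eq_one] at h2
    have e1 : χ (d (w x)) = χ ((d * w) (((d * w)⁻¹ * (w * d)) x)) := h2
    rw [hdfix] at e1
    rw [e1]
    congr 1
    exact (MulEquiv.apply_symm_apply (d * w) (w (d x))).symm
  have hw' : ∀ x, χ (w x) = χ x := by
    intro x
    have hsq : ∀ z, χ (w (z ^ 2)) = χ (z ^ 2) := fun z => by
      have hzW : z * d z ∈ W := by
        have := hπ.1 (show π z⁻¹ = π (d z) by rw [hdinv, map_inv])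
        rwa [inv_inv] at this
      have e := hWU w hw hwW _ hzW
      rw [map_mul w, map_mul χ, map_mul χ, hwd, hdfix, ← map_mul χ, ← map_mul χ, ← map_mul w, ← pow_two] at e
      exact e
    have hodd : Odd (orderOf x) := by
      obtain ⟨k, hk⟩ := hG x
      exact ((hp.out.odd_of_ne_two hp2).pow).of_dvd_nat (orderOf_dvd_of_pow_eq_one hk)
    obtain ⟨m, hm⟩ := hodd
    have e : x = (x ^ (m + 1)) ^ 2 := by
      rw [← pow_mul, show (m + 1) * 2 = orderOf x + 1 by omega, pow_succ, pow_orderOf_eq_one, one_mul]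
    rw [e]
    exact hsq _
  have hν : ∀ x ∈ L, (w⁻¹ * α) x ∈ L := by
    intro x hx
    haveI : (W.subgroupOf L).Normal := Subgroup.normal_subgroupOf
    have hWL : (W.subgroupOf L).index = p := by
      have hmul := Subgroup.relIndex_mul_index (le_fixLine h)
      rw [hLidx, h.idx, sq] at hmul
      exact Nat.eq_of_mul_eq_mul_right hp.out.pos hmul
    have hl₀W : l₀ ∉ W := fun hh => hαl (le_fixLine h (h.invW α hα _ hh))
    obtain ⟨j, hj⟩ := exists_zpow_shift hWL (y := ⟨l₀, hl₀⟩) (fun hh => hl₀W hh) ⟨x, hx⟩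
    have hj' : π (l₀ ^ j) = π x := hπ.2 (by simpa [Subgroup.mem_subgroupOf] using hj)
    have hwl' : π (w l₀) = π y⁻¹ := hπ.2 hwl
    have e : π (α x) = π (w (l₀ ^ (-j))) := by
      rw [← hmap α hα _ _ hj', map_zpow α, map_zpow w, map_zpow, map_zpow, hwl', map_inv, zpow_neg, inv_zpow, inv_inv]
    have e2 := hmap _ (A.inv_mem hw) _ _ e
    rw [MulAut.inv_apply_self] at e2
    have h1 := L.mul_mem (L.zpow_mem hl₀ (-j)) (le_fixLine h (hπ.1 e2.symm))
    rwa [mul_inv_cancel_left, ← MulAut.mul_apply] at h1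
  intro x
  rw [show α x = w ((w⁻¹ * α) x) by rw [MulAut.mul_apply, MulAut.apply_inv_self],
    hw', hχ _ (A.mul_mem (A.inv_mem hw) hα) hν]

end CfsgLib.Fsys.OrderPFive
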