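import Cfsg.Agent.Lib.PGroup.MaxClassActions
import Cfsg.Agent.Lib.FusionSystem.OrderPFive.Natural

/-!
Groups of order `p ^ 5` with an element whose centralizer has order `p ^ 2` and without abelian maximal subgroup:
the weights of an automorphism.
-/

set_option autoImplicit false
set_option linter.unusedSectionVars false
set_option linter.style.haveILetI false

open scoped commutatorElement
open CfsgLib.PGroup.MaxDeg (comm_bil lcs_normal')

namespace CfsgLib.Fsys.OrderPFive

variable {G : Type*} [Group G] [Finite G] {p : ℕ} [hp : Fact p.Prime]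

theorem dvd_of_zpow_mem {H : Subgroup G} [H.Normal] (hH : H.index = p) {y : G} (hy : y ∉ H) {i : ℤ}
    (h : y ^ i ∈ H) : (p : ℤ) ∣ i := by
  have ho : orderOf (y : G ⧸ H) = p := orderOf_eq_prime
    (by rw [← QuotientGroup.mk_pow]; exact (QuotientGroup.eq_one_iff _).2 (hH ▸ Subgroup.pow_index_mem H y))
    fun e => hy ((QuotientGroup.eq_one_iff y).1 e)
  rw [← ho, orderOf_dvd_iff_zpow_eq_one, ← QuotientGroup.mk_zpow]
  exact (QuotientGroup.eq_one_iff _).2 h

/-- Commutation with a fixed element has the centralizer as fibres. -/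
theorem card_le_comm (x : G) {K B C : Subgroup G} (h : ∀ g ∈ K, ⁅g, x⁆ ∈ B)
    (hC : ∀ g ∈ K, g * x = x * g → g ∈ C) : Nat.card K ≤ Nat.card B * Nat.card C := by
  let f : K → B := fun g => ⟨⁅(g : G), x⁆, h g g.2⟩
  have hs : ∀ g : K, f (Function.invFun f (f g)) = f g := fun g => Function.invFun_eq ⟨g, rfl⟩
  have hm : ∀ g : K, ((Function.invFun f (f g) : K) : G)⁻¹ * g ∈ C := fun g => by
    set u : G := ((Function.invFun f (f g) : K) : G)
    have e1 : ⁅u, x⁆ = ⁅(g : G), x⁆ := congrArg Subtype.val (hs g)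
    have e : u * x * u⁻¹ = g * x * (g : G)⁻¹ := mul_right_cancel e1
    refine hC _ (K.mul_mem (K.inv_mem (Function.invFun f (f g)).2) g.2) ?_
    calc u⁻¹ * g * x = u⁻¹ * ((g : G) * x * (g : G)⁻¹) * g := by group
      _ = x * (u⁻¹ * g) := by rw [← e]; group
  rw [← Nat.card_prod]
  refine Nat.card_le_card_of_injective (fun g => (f g, ⟨_, hm g⟩)) fun a b e => ?_
  simp only [Prod.mk.injEq, Subtype.mk.injEq] at e
  obtain ⟨e1, e2⟩ := e
  rw [e1, mul_left_cancel_iff] at e2
  exact Subtype.ext e2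

/-- The terms of the lower central series. -/
abbrev lc (G : Type*) [Group G] (k : ℕ) : Subgroup G := (⊤ : Subgroup G).lowerCentralSeries k

/-- The hypotheses: order `p ^ 5`, a small centralizer, no large abelian subgroup. -/
structure MaxFive (p : ℕ) (x : G) : Prop where
  card : Nat.card G = p ^ 5
  cent : Nat.card (Subgroup.centralizer ({x} : Set G)) = p ^ 2
  noAb : ∀ A : Subgroup G, (∀ a ∈ A, ∀ b ∈ A, a * b = b * a) → Nat.card A < p ^ 4

namespace MaxFive

variable {x : G}

theorem isPGroup (h : MaxFive p x) : IsPGroup p G := IsPGroup.of_card h.card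

theorem lc_succ_comm {k : ℕ} {g : G} (hg : g ∈ lc G k) (u : G) : ⁅g, u⁆ ∈ lc G (k + 1) :=
  Subgroup.commutator_mem_commutator hg (Subgroup.mem_top u)

theorem lc_succ_comm' {k : ℕ} {g : G} (hg : g ∈ lc G k) (u : G) : ⁅u, g⁆ ∈ lc G (k + 1) := by
  rw [← commutatorElement_inv]; exact inv_mem (lc_succ_comm hg u)

theorem cards (h : MaxFive p x) :
    Nat.card (lc G 1) = p ^ 3 ∧ Nat.card (lc G 2) = p ^ 2 ∧ Nat.card (lc G 3) = p ∧ lc G 4 = ⊥ := by
  haveI := h.isPGroup.isNilpotent
  set A := Subgroup.centralizer ({x} : Set G)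
  haveI := IsPGroup.isMulCommutative_of_card_eq_prime_sq (p := p) h.cent
  have hA : Subgroup.centralizer (A : Set G) = A := by
    refine le_antisymm (fun g hg => Subgroup.mem_centralizer_singleton_iff.2 ?_) (Subgroup.le_centralizer A)
    exact (Subgroup.mem_centralizer_iff.1 hg x (Subgroup.mem_centralizer_singleton_iff.2 rfl)).symm
  have hcl : Group.nilpotencyClass G = 4 :=
    Fusion.MaxClass.class_eq_of_selfcentralizing (p := p) 5 G h.card A h.cent hA
  have h3 : lc G 3 ≠ ⊥ := fun e => by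
    have := Subgroup.lowerCentralSeries_eq_bot_iff_nilpotencyClass_le.1 e
    omega
  have h4 : lc G 4 = ⊥ := Subgroup.lowerCentralSeries_eq_bot_iff_nilpotencyClass_le.2 hcl.le
  have h2 : lc G 2 ≠ ⊥ := fun e => h3 (le_bot_iff.1 (e ▸ Subgroup.lowerCentralSeries_antitone _ (by norm_num)))
  have h1 : lc G 1 ≠ ⊥ := fun e => h3 (le_bot_iff.1 (e ▸ Subgroup.lowerCentralSeries_antitone _ (by norm_num)))
  have u := Fusion.MaxClass.card_lcs_le (p := p) h.isPGroup (by norm_num) h.card
  have u1 := (u 0).resolve_left h1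
  have u2 := (u 1).resolve_left h2
  have u3 := (u 2).resolve_left h3
  have l3 := Fusion.MaxClass.card_mul_le_of_lt (p := p) h.isPGroup
    (Fusion.MaxClass.lcs_strict (p := p) h.isPGroup h3)
  have l2 := Fusion.MaxClass.card_mul_le_of_lt (p := p) h.isPGroup
    (Fusion.MaxClass.lcs_strict (p := p) h.isPGroup h2)
  have l1 := Fusion.MaxClass.card_mul_le_of_lt (p := p) h.isPGroup
    (Fusion.MaxClass.lcs_strict (p := p) h.isPGroup h1)
  rw [show (⊤ : Subgroup G).lowerCentralSeries (3 + 1) = ⊥ from h4, Subgroup.card_bot, mul_one] at l3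
  simp only [Nat.reduceAdd] at u1 u2 u3 l2 l1
  have e : p ^ 5 = p ^ 2 * p ^ 3 ∧ p ^ 5 = p ^ 3 * p ^ 2 ∧ p ^ 5 = p ^ 4 * p :=
    ⟨by ring, by ring, by ring⟩
  rw [e.1] at u1
  rw [e.2.1] at u2
  rw [e.2.2] at u3
  have c3 := le_antisymm (Nat.le_of_mul_le_mul_left u3 (pow_pos hp.out.pos 4)) l3
  rw [c3] at l2
  have c2 := le_antisymm (Nat.le_of_mul_le_mul_left u2 (pow_pos hp.out.pos 3)) ((sq p).le.trans l2)
  rw [c2] at l1
  have c1 := le_antisymm (Nat.le_of_mul_le_mul_left u1 (pow_pos hp.out.pos 2)) ((pow_succ' p 2).le.trans l1)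
  exact ⟨c1, c2, c3, h4⟩

theorem comm_one_two (h : MaxFive p x) {a b : G} (ha : a ∈ lc G 1) (hb : b ∈ lc G 2) : a * b = b * a := by
  refine commutatorElement_eq_one_iff_mul_comm.1 (Subgroup.mem_bot.1 ?_)
  rw [← h.cards.2.2.2]
  exact PGroup.PolySeq.commutator_lcs_le 1 2 (Subgroup.commutator_mem_commutator ha hb)

theorem three_central (h : MaxFive p x) {z : G} (hz : z ∈ lc G 3) (g : G) : g * z = z * g := by
  refine commutatorElement_eq_one_iff_mul_comm.1 (Subgroup.mem_bot.1 ?_)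
  rw [← h.cards.2.2.2]
  exact lc_succ_comm' hz g

theorem lc_three_eq (h : MaxFive p x) : lc G 3 = Subgroup.center G := by
  refine Subgroup.eq_of_le_of_card_ge (fun z hz => Subgroup.mem_center_iff.2 (h.three_central hz)) ?_
  rw [h.cards.2.2.1]
  set A := Subgroup.centralizer ({x} : Set G)
  have hlt : Subgroup.center G < A := by
    refine lt_of_le_not_ge (Subgroup.center_le_centralizer _) fun hle => ?_
    have htop : A = ⊤ := eq_top_iff.2 fun g _ => Subgroup.mem_centralizer_singleton_iff.2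
      (Subgroup.mem_center_iff.1 (hle (Subgroup.mem_centralizer_singleton_iff.2 rfl)) g)
    have h1 := h.cent
    rw [show Subgroup.centralizer ({x} : Set G) = ⊤ from htop, Subgroup.card_top, h.card] at h1
    exact absurd (Nat.pow_right_injective hp.out.two_le h1) (by norm_num)
  have h1 := Fusion.MaxClass.card_mul_le_of_lt (p := p) h.isPGroup hlt
  rw [h.cent, sq] at h1
  exact Nat.le_of_mul_le_mul_left h1 hp.out.pos

theorem x_notMem (h : MaxFive p x) : x ∉ lc G 1 := by
  intro hx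
  obtain ⟨c1, c2, -, -⟩ := h.cards
  by_cases hx2 : x ∈ lc G 2
  · have hle : lc G 1 ≤ Subgroup.centralizer ({x} : Set G) := fun g hg =>
      Subgroup.mem_centralizer_singleton_iff.2 (h.comm_one_two hg hx2)
    have := Subgroup.card_le_of_le hle
    rw [c1, h.cent] at this
    exact absurd ((Nat.pow_le_pow_iff_right hp.out.one_lt).1 this) (by norm_num)
  · have hlt : lc G 2 < Subgroup.centralizer ({x} : Set G) :=
      lt_of_le_not_ge (fun g hg => Subgroup.mem_centralizer_singleton_iff.2 (h.comm_one_two hx hg).symm)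
        fun hle => hx2 (hle (Subgroup.mem_centralizer_singleton_iff.2 rfl))
    have := Fusion.MaxClass.card_mul_le_of_lt (p := p) h.isPGroup hlt
    rw [c2, h.cent, ← pow_succ'] at this
    exact absurd ((Nat.pow_le_pow_iff_right hp.out.one_lt).1 this) (by norm_num)

theorem fixed_one (h : MaxFive p x) {g : G} (hg : g ∈ lc G 1) (hgx : g * x = x * g) : g ∈ lc G 3 := by
  set A := Subgroup.centralizer ({x} : Set G)
  have hle : lc G 3 ≤ A ⊓ lc G 1 := le_inf
    (h.lc_three_eq.le.trans (Subgroup.center_le_centralizer _))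
    (Subgroup.lowerCentralSeries_antitone _ (by norm_num))
  have hlt : A ⊓ lc G 1 < A := lt_of_le_not_ge inf_le_left fun hh =>
    h.x_notMem (hh (Subgroup.mem_centralizer_singleton_iff.2 rfl)).2
  have h1 := Fusion.MaxClass.card_mul_le_of_lt (p := p) h.isPGroup hlt
  rw [h.cent, sq] at h1
  have heq : lc G 3 = A ⊓ lc G 1 := Subgroup.eq_of_le_of_card_ge hle (by
    rw [h.cards.2.2.1]; exact Nat.le_of_mul_le_mul_left h1 hp.out.pos)
  exact heq.ge ⟨Subgroup.mem_centralizer_singleton_iff.2 hgx, hg⟩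

/-- The subgroup centralizing the second layer. -/
def big (G : Type*) [Group G] : Subgroup G := Subgroup.centralizer (lc G 2 : Set G)

instance big_normal : (big G).Normal := by
  haveI := lcs_normal' (G := G) 2
  exact Subgroup.normal_centralizer

theorem mem_big {g : G} : g ∈ big G ↔ ∀ t ∈ lc G 2, t * g = g * t := Subgroup.mem_centralizer_iff

theorem one_le_big (h : MaxFive p x) : lc G 1 ≤ big G := fun g hg => mem_big.2 fun _ ht => (h.comm_one_two hg ht).symm

theorem x_notMem_big (h : MaxFive p x) : x ∉ big G := fun hx => by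
  have hle : lc G 2 ≤ lc G 3 := fun t ht =>
    h.fixed_one (Subgroup.lowerCentralSeries_antitone _ (by norm_num) ht) (mem_big.1 hx t ht)
  have := Subgroup.card_le_of_le hle
  rw [h.cards.2.1, h.cards.2.2.1] at this
  exact absurd this (not_le.2 (lt_self_pow₀ hp.out.one_lt (by norm_num)))

theorem index_big (h : MaxFive p x) : (big G).index = p := by
  obtain ⟨c1, c2, c3, c4⟩ := h.cards
  obtain ⟨m, hm, hm3⟩ : ∃ m ∈ lc G 2, m ∉ lc G 3 := SetLike.exists_of_lt (lt_of_le_not_ge
    (Subgroup.lowerCentralSeries_antitone _ (by norm_num)) fun hle => by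
      have := Subgroup.card_le_of_le hle
      rw [c2, c3] at this
      exact absurd this (not_le.2 (lt_self_pow₀ hp.out.one_lt (by norm_num))))
  have hgen : lc G 2 ≤ lc G 3 ⊔ Subgroup.zpowers m := by
    refine (Subgroup.eq_of_le_of_card_ge (sup_le (Subgroup.lowerCentralSeries_antitone _ (by norm_num))
      (Subgroup.zpowers_le.2 hm)) ?_).ge
    have h1 := Fusion.MaxClass.card_mul_le_of_lt (p := p) h.isPGroup (lt_of_le_not_ge
      (le_sup_left : lc G 3 ≤ lc G 3 ⊔ Subgroup.zpowers m)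
      fun hh => hm3 (hh (Subgroup.mem_sup_right (Subgroup.mem_zpowers m))))
    rw [c3] at h1
    rw [c2, sq]
    exact h1
  have hC : ∀ g : G, g * m = m * g → g ∈ big G := fun g hg => mem_big.2 fun t ht => by
    have hle : lc G 3 ⊔ Subgroup.zpowers m ≤ Subgroup.centralizer ({g} : Set G) := sup_le
      (fun z hz => Subgroup.mem_centralizer_singleton_iff.2 (h.three_central hz g).symm)
      (Subgroup.zpowers_le.2 (Subgroup.mem_centralizer_singleton_iff.2 hg.symm))
    exact Subgroup.mem_centralizer_singleton_iff.1 (hle (hgen ht))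
  have hle := card_le_comm m (K := ⊤) (B := lc G 3) (C := big G) (fun g _ => lc_succ_comm' hm g) fun g _ => hC g
  rw [Subgroup.card_top, c3, ← Subgroup.card_mul_index (big G), mul_comm p] at hle
  have hi : (big G).index ≤ p := Nat.le_of_mul_le_mul_left hle Nat.card_pos
  obtain ⟨j, hj⟩ := h.isPGroup.index (big G)
  rw [hj] at hi ⊢
  rcases j with _ | _ | j
  · rw [pow_zero, Subgroup.index_eq_one] at hj
    exact absurd (hj ▸ Subgroup.mem_top x) h.x_notMem_big
  · rw [pow_one]
  · exact absurd hi (not_le.2 (lt_self_pow₀ hp.out.one_lt (by omega)))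

theorem exists_y (h : MaxFive p x) : ∃ y ∈ big G, y ∉ lc G 1 := by
  refine SetLike.exists_of_lt (lt_of_le_not_ge h.one_le_big fun hle => ?_)
  have h1 := Subgroup.card_le_of_le hle
  have h2 := Subgroup.card_mul_index (big G)
  rw [h.index_big, h.card, pow_succ p 4] at h2
  rw [Nat.eq_of_mul_eq_mul_right hp.out.pos h2, h.cards.1] at h1
  exact absurd ((Nat.pow_le_pow_iff_right hp.out.one_lt).1 h1) (by norm_num)

theorem map_lc (σ : MulAut G) (k : ℕ) {g : G} (hg : g ∈ lc G k) : σ g ∈ lc G k := by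
  have h := Subgroup.map_lowerCentralSeries (⊤ : Subgroup G) σ.toMonoidHom k
  rw [Subgroup.map_top_of_surjective _ σ.surjective] at h
  exact h.le ⟨g, hg, rfl⟩

theorem map_big (σ : MulAut G) {g : G} (hg : g ∈ big G) : σ g ∈ big G := mem_big.2 fun t ht => by
  have e := mem_big.1 hg _ (map_lc σ⁻¹ 2 ht)
  have e' := congrArg σ e
  rwa [map_mul, map_mul, MulAut.apply_inv_self] at e'

/-- The decomposition of the elements and the weights of an automorphism. -/
theorem weights (h : MaxFive p x) {y : G} (hy : y ∈ big G) (hy1 : y ∉ lc G 1) (σ : MulAut G) :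
    ∃ a : ℤ, (x ^ a)⁻¹ * σ x ∈ big G ∧ (y ^ (a * a))⁻¹ * σ y ∈ lc G 1 ∧ ¬ (p : ℤ) ∣ a ∧
      ∀ z ∈ Subgroup.center G, σ z = z ^ (a ^ 5) := by
  obtain ⟨c1, c2, c3, c4⟩ := h.cards
  haveI := lcs_normal' (G := G) 1
  haveI := lcs_normal' (G := G) 2
  haveI := lcs_normal' (G := G) 3
  have h21 : lc G 2 ≤ lc G 1 := Subgroup.lowerCentralSeries_antitone _ (by norm_num)
  have h32 : lc G 3 ≤ lc G 2 := Subgroup.lowerCentralSeries_antitone _ (by norm_num)
  have hB1 : ((lc G 1).subgroupOf (big G)).index = p := by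
    have h1 := Subgroup.card_mul_index ((lc G 1).subgroupOf (big G))
    have h2 := Subgroup.card_mul_index (big G)
    rw [h.index_big, h.card, pow_succ p 4] at h2
    rw [Nat.card_congr (Subgroup.subgroupOfEquivOfLe h.one_le_big).toEquiv, c1,
      Nat.eq_of_mul_eq_mul_right hp.out.pos h2, pow_succ p 3] at h1
    exact Nat.eq_of_mul_eq_mul_left (pow_pos hp.out.pos 3) h1
  haveI : ((lc G 1).subgroupOf (big G)).Normal := Subgroup.normal_subgroupOf
  have hBdec : ∀ g ∈ big G, ∃ j : ℤ, (y ^ j)⁻¹ * g ∈ lc G 1 := fun g hg => by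
    obtain ⟨j, hj⟩ := exists_zpow_shift hB1 (y := (⟨y, hy⟩ : big G)) (fun hh => hy1 hh) ⟨g, hg⟩
    exact ⟨j, by simpa [Subgroup.mem_subgroupOf] using hj⟩
  have h12 : ((lc G 2).subgroupOf (lc G 1)).index = p := by
    have h1 := Subgroup.card_mul_index ((lc G 2).subgroupOf (lc G 1))
    rw [Nat.card_congr (Subgroup.subgroupOfEquivOfLe h21).toEquiv, c2, c1, pow_succ p 2] at h1
    exact Nat.eq_of_mul_eq_mul_left (pow_pos hp.out.pos 2) h1
  haveI : ((lc G 2).subgroupOf (lc G 1)).Normal := Subgroup.normal_subgroupOf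
  set k := ⁅x, y⁆ with hk
  have hk1 : k ∈ lc G 1 := by
    rw [show lc G 1 = ⁅(⊤ : Subgroup G), ⊤⁆ from rfl]
    exact Subgroup.commutator_mem_commutator (Subgroup.mem_top x) (Subgroup.mem_top y)
  have hx : ∀ g : G, ∃ i j : ℤ, ∃ t ∈ lc G 1, g = x ^ i * y ^ j * t := fun g => by
    obtain ⟨i, hi⟩ := exists_zpow_shift h.index_big h.x_notMem_big g
    obtain ⟨j, hj⟩ := hBdec _ hi
    exact ⟨i, j, _, hj, by group⟩
  -- `k` generates the first layer over the second
  have hk2 : k ∉ lc G 2 := by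
    intro hk2
    let π := QuotientGroup.mk' (lc G 2)
    let H := (Subgroup.centralizer ({π x} : Set (G ⧸ lc G 2))).comap π
    have hH : ∀ g, g ∈ H ↔ ⁅g, x⁆ ∈ lc G 2 := fun g => by
      rw [Subgroup.mem_comap, Subgroup.mem_centralizer_singleton_iff, ← commutatorElement_eq_one_iff_mul_comm,
        ← map_commutatorElement]
      exact QuotientGroup.eq_one_iff _
    have hxH : x ∈ H := (hH x).2 (by rw [commutatorElement_self]; exact one_mem _)
    have hyH : y ∈ H := (hH y).2 (by rw [← commutatorElement_inv]; exact inv_mem hk2)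
    have htH : ∀ t ∈ lc G 1, t ∈ H := fun t ht => (hH t).2 (lc_succ_comm ht x)
    have hall : ∀ g : G, ⁅g, x⁆ ∈ lc G 2 := fun g => (hH g).1 (by
      obtain ⟨i, j, t, ht, rfl⟩ := hx g
      exact H.mul_mem (H.mul_mem (H.zpow_mem hxH i) (H.zpow_mem hyH j)) (htH t ht))
    have := card_le_comm x (K := ⊤) (fun g _ => hall g) (C := Subgroup.centralizer ({x} : Set G))
      fun g _ e => Subgroup.mem_centralizer_singleton_iff.2 e
    rw [Subgroup.card_top, h.card, c2, h.cent, ← pow_add] at this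
    exact absurd ((Nat.pow_le_pow_iff_right hp.out.one_lt).1 this) (by norm_num)
  have h1dec : ∀ t ∈ lc G 1, ∃ i : ℤ, (k ^ i)⁻¹ * t ∈ lc G 2 := fun t ht => by
    obtain ⟨i, hi⟩ := exists_zpow_shift h12 (y := (⟨k, hk1⟩ : lc G 1)) (fun hh => hk2 hh) ⟨t, ht⟩
    exact ⟨i, Subgroup.mem_subgroupOf.1 hi⟩
  have hab : ∀ s ∈ lc G 1, ∀ t ∈ lc G 1, s * t = t * s := fun s hs t ht => by
    obtain ⟨i, hi⟩ := h1dec s hs
    obtain ⟨j, hj⟩ := h1dec t ht
    have c : ∀ {u v : G}, u ∈ lc G 1 → v ∈ lc G 2 → Commute u v := fun hu hv => h.comm_one_two hu hv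
    have e : Commute (k ^ i * ((k ^ i)⁻¹ * s)) (k ^ j * ((k ^ j)⁻¹ * t)) :=
      ((Commute.refl k).zpow_zpow i j |>.mul_right (c (zpow_mem hk1 i) hj)).mul_left
        ((c (zpow_mem hk1 j) hi).symm.mul_right (c (h21 hi) hj))
    rwa [mul_inv_cancel_left, mul_inv_cancel_left] at e
  set m := ⁅x, k⁆ with hm
  have hm2 : m ∈ lc G 2 := lc_succ_comm' hk1 x
  have hm3 : m ∉ lc G 3 := fun hm3 => by
    have hall : ∀ t ∈ lc G 1, ⁅t, x⁆ ∈ lc G 3 := fun t ht => by
      obtain ⟨i, hi⟩ := h1dec t ht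
      let π := QuotientGroup.mk' (lc G 3)
      have hkx : Commute (π k) (π x) := by
        refine commutatorElement_eq_one_iff_mul_comm.1 ?_
        rw [← map_commutatorElement]
        exact (QuotientGroup.eq_one_iff _).2 (by rw [← commutatorElement_inv]; exact inv_mem hm3)
      have htx : Commute (π ((k ^ i)⁻¹ * t)) (π x) := by
        refine commutatorElement_eq_one_iff_mul_comm.1 ?_
        rw [← map_commutatorElement]
        exact (QuotientGroup.eq_one_iff _).2 (lc_succ_comm hi x)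
      have e := (hkx.zpow_left i).mul_left htx
      rw [← map_zpow, ← map_mul, mul_inv_cancel_left] at e
      have e' := commutatorElement_eq_one_iff_mul_comm.2 e.eq
      rw [← map_commutatorElement] at e'
      exact (QuotientGroup.eq_one_iff _).1 e'
    have := card_le_comm x hall (C := lc G 3) fun g hg e => h.fixed_one hg e
    rw [c1, c3, ← sq] at this
    exact absurd ((Nat.pow_le_pow_iff_right hp.out.one_lt).1 this) (by norm_num)
  set z₀ := ⁅x, m⁆ with hz
  have hz3 : z₀ ∈ lc G 3 := lc_succ_comm' hm2 x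
  have hz1 : z₀ ≠ 1 := fun e =>
    hm3 (h.fixed_one (h21 hm2) (commutatorElement_eq_one_iff_mul_comm.1 e).symm)
  set w := ⁅y, k⁆ with hw
  have hw2 : w ∈ lc G 2 := lc_succ_comm' hk1 y
  have hym : y * m = m * y := (mem_big.1 hy m hm2).symm
  have hkm : k * m = m * k := h.comm_one_two hk1 hm2
  have hw3 : w ∈ lc G 3 := by
    refine h.fixed_one (h21 hw2) ?_
    have e : x * w * x⁻¹ = ⁅k * y, m * k⁆ := by
      rw [hw, show x * ⁅y, k⁆ * x⁻¹ = ⁅x * y * x⁻¹, x * k * x⁻¹⁆ by simp [commutatorElement_def, mul_assoc]]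
      congr 1 <;> simp [k, m, commutatorElement_def, mul_assoc]
    have e2 : ⁅k * y, m * k⁆ = w := by
      rw [commutatorElement_mul_left_eq_conj_mul, commutatorElement_mul_right_eq_mul_conj,
        commutatorElement_eq_one_iff_mul_comm.2 hym, commutatorElement_mul_right_eq_mul_conj,
        commutatorElement_eq_one_iff_mul_comm.2 hkm, commutatorElement_self]
      simp only [one_mul, mul_one, mul_inv_cancel]
      rw [← hw,
        (h.comm_one_two (h21 hm2) hw2 : m * w = w * m), mul_inv_cancel_right,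
        (h.comm_one_two hk1 hw2 : k * w = w * k), mul_inv_cancel_right]
    rw [e2] at e
    exact (mul_inv_eq_iff_eq_mul.1 e).symm
  have hw1 : w ≠ 1 := fun e => by
    have hyk : Commute y k := commutatorElement_eq_one_iff_mul_comm.1 e
    have hyt : ∀ t ∈ lc G 1, Commute y t := fun t ht => by
      obtain ⟨i, hi⟩ := h1dec t ht
      have := (hyk.zpow_right i).mul_right (show Commute y _ from (mem_big.1 hy _ hi).symm)
      rwa [mul_inv_cancel_left] at this
    have h1 := h.noAb (big G) fun a ha b hb => by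
      obtain ⟨i, hi⟩ := hBdec a ha
      obtain ⟨j, hj⟩ := hBdec b hb
      have hc : Commute (y ^ i * ((y ^ i)⁻¹ * a)) (y ^ j * ((y ^ j)⁻¹ * b)) :=
        (((Commute.refl y).zpow_zpow i j).mul_right ((hyt _ hj).zpow_left i)).mul_left
          ((((hyt _ hi).zpow_left j).symm).mul_right (show Commute _ _ from hab _ hi _ hj))
      rwa [mul_inv_cancel_left, mul_inv_cancel_left] at hc
    have h2 := Subgroup.card_mul_index (big G)
    rw [h.index_big, h.card, pow_succ p 4] at h2
    rw [Nat.eq_of_mul_eq_mul_right hp.out.pos h2] at h1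
    exact lt_irrefl _ h1
  have hzpow : ∀ z ∈ lc G 3, z ^ p = 1 := fun z hz => by
    have h1 : (⟨z, hz⟩ : lc G 3) ^ Nat.card (lc G 3) = 1 := pow_card_eq_one'
    rw [c3] at h1
    exact congrArg Subtype.val h1
  have hzo : orderOf z₀ = p := orderOf_eq_prime (hzpow _ hz3) hz1
  have hzgen : ∀ z ∈ lc G 3, ∃ e : ℤ, z₀ ^ e = z := fun z hz => by
    have heq : Subgroup.zpowers z₀ = lc G 3 := Subgroup.eq_of_le_of_card_ge (Subgroup.zpowers_le.2 hz3)
      (by rw [c3, Nat.card_zpowers, hzo])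
    exact Subgroup.mem_zpowers_iff.1 (heq.ge hz)
  obtain ⟨e, he⟩ := hzgen w hw3
  have hep : ¬ (p : ℤ) ∣ e := fun hd => hw1 (by
    rw [← he]; exact orderOf_dvd_iff_zpow_eq_one.1 (by rwa [hzo]))
  -- the automorphism
  obtain ⟨a, g₁, hg₁, hσx⟩ : ∃ a : ℤ, ∃ g ∈ big G, σ x = x ^ a * g := by
    obtain ⟨a, ha⟩ := exists_zpow_shift h.index_big h.x_notMem_big (σ x)
    exact ⟨a, _, ha, by rw [mul_inv_cancel_left]⟩
  obtain ⟨b, t, ht, hσy⟩ : ∃ b : ℤ, ∃ t ∈ lc G 1, σ y = y ^ b * t := by
    obtain ⟨b, hb⟩ := hBdec _ (map_big σ hy)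
    exact ⟨b, _, hb, by rw [mul_inv_cancel_left]⟩
  have hg₁y : ∃ j : ℤ, ∃ t' ∈ lc G 1, g₁ = y ^ j * t' := by
    obtain ⟨j, hj⟩ := hBdec _ hg₁
    exact ⟨j, _, hj, by rw [mul_inv_cancel_left]⟩
  obtain ⟨j₁, t₁, ht₁, hg₁'⟩ := hg₁y
  have hcent : ∀ (N : Subgroup G) [N.Normal] (u v : G), ⁅u, v⁆ ∈ N →
      (QuotientGroup.mk' N u) * (QuotientGroup.mk' N v) = (QuotientGroup.mk' N v) * (QuotientGroup.mk' N u) :=
    fun N _ u v huv => commutatorElement_eq_one_iff_mul_comm.1 (by
      rw [← map_commutatorElement]; exact (QuotientGroup.eq_one_iff _).2 huv)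
  -- the image of `k`
  obtain ⟨t₂, ht₂, hσk⟩ : ∃ t₂ ∈ lc G 2, σ k = k ^ (a * b) * t₂ := by
    refine ⟨_, QuotientGroup.eq.1 (?_ : ((k ^ (a * b) : G) : G ⧸ lc G 2) = σ k), by rw [mul_inv_cancel_left]⟩
    let π := QuotientGroup.mk' (lc G 2)
    show π (k ^ (a * b)) = π (σ k)
    rw [hk, map_commutatorElement σ, hσx, hσy, map_commutatorElement π, map_mul π, map_mul π, map_zpow, map_zpow,
      map_zpow, map_commutatorElement π]
    refine (comm_bil ?_ ?_ ?_ ?_ a b).symm
    · intro q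
      obtain ⟨q, rfl⟩ := QuotientGroup.mk'_surjective _ q
      rw [← map_commutatorElement]
      exact hcent _ q _ (lc_succ_comm' hk1 q)
    · rw [hg₁', map_mul, map_zpow]
      exact (((Commute.refl (π y)).zpow_left j₁).mul_left
        (show Commute (π t₁) (π y) from hcent _ _ _ (lc_succ_comm ht₁ y))).eq
    · exact hcent _ _ _ (lc_succ_comm' ht g₁)
    · exact hcent _ _ _ (lc_succ_comm' ht x)
  -- the image of `m`
  obtain ⟨t₃, ht₃, hσm⟩ : ∃ t₃ ∈ lc G 3, σ m = m ^ (a * (a * b)) * t₃ := by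
    refine ⟨_, QuotientGroup.eq.1 (?_ : ((m ^ (a * (a * b)) : G) : G ⧸ lc G 3) = σ m), by rw [mul_inv_cancel_left]⟩
    let π := QuotientGroup.mk' (lc G 3)
    show π (m ^ (a * (a * b))) = π (σ m)
    rw [hm, map_commutatorElement σ, hσx, hσk, map_commutatorElement π, map_mul π, map_mul π, map_zpow, map_zpow,
      map_zpow, map_commutatorElement π]
    refine (comm_bil ?_ ?_ ?_ ?_ a (a * b)).symm
    · intro q
      obtain ⟨q, rfl⟩ := QuotientGroup.mk'_surjective _ q
      rw [← map_commutatorElement]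
      exact hcent _ q _ (lc_succ_comm' hm2 q)
    · rw [hg₁', map_mul, map_zpow]
      exact (((show Commute (π y) (π k) from hcent _ _ _ hw3).zpow_left j₁).mul_left
        (show Commute (π t₁) (π k) from hcent _ _ _ (by
          rw [commutatorElement_eq_one_iff_mul_comm.2 (hab _ ht₁ _ hk1)]; exact one_mem _))).eq
    · exact hcent _ _ _ (by
        rw [commutatorElement_eq_one_iff_mul_comm.2 (mem_big.1 hg₁ _ ht₂).symm]; exact one_mem _)
    · exact hcent _ _ _ (lc_succ_comm' ht₂ x)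
  have hσz : σ z₀ = z₀ ^ (a * (a * (a * b))) := by
    rw [hz, map_commutatorElement σ, hσx, hσm]
    refine comm_bil (fun q => h.three_central hz3 q) ?_ ?_ ?_ _ _
    · exact (mem_big.1 hg₁ _ hm2).symm
    · exact (h.three_central ht₃ g₁)
    · exact (h.three_central ht₃ x)
  have hσw : σ w = w ^ (b * (a * b)) := by
    rw [hw, map_commutatorElement σ, hσy, hσk]
    refine comm_bil (fun q => h.three_central hw3 q) ?_ ?_ ?_ _ _
    · exact hab _ ht _ hk1
    · exact hab _ ht _ (h21 ht₂)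
    · exact (mem_big.1 hy _ ht₂).symm
  have habp : ¬ (p : ℤ) ∣ a * b := fun hd => by
    refine hk2 ?_
    have hkp : k ^ (p : ℤ) ∈ lc G 2 := by
      rw [zpow_natCast]
      have := Subgroup.pow_index_mem ((lc G 2).subgroupOf (lc G 1)) ⟨k, hk1⟩
      rw [h12, Subgroup.mem_subgroupOf, SubgroupClass.coe_pow] at this
      exact this
    obtain ⟨q, hq⟩ := hd
    have h2 : σ k ∈ lc G 2 := by
      rw [hσk, hq, zpow_mul]
      exact mul_mem (zpow_mem hkp q) ht₂
    simpa using map_lc σ⁻¹ 2 h2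
  have hP := Nat.prime_iff_prime_int.1 hp.out
  have hd : (p : ℤ) ∣ e * (a * b) * (b - a * a) := by
    have h1 : z₀ ^ (e * (b * (a * b))) = z₀ ^ (a * (a * (a * b)) * e) := by
      rw [zpow_mul, he, ← hσw, zpow_mul, ← hσz, ← map_zpow, he]
    rw [zpow_eq_zpow_iff_modEq, hzo, Int.modEq_iff_dvd] at h1
    obtain ⟨q, hq⟩ := h1
    exact ⟨-q, by linear_combination -hq⟩
  have hba : (p : ℤ) ∣ b - a * a := by
    rcases hP.dvd_mul.1 hd with h1 | h1
    · rcases hP.dvd_mul.1 h1 with h2 | h2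
      · exact absurd h2 hep
      · exact absurd h2 habp
    · exact h1
  refine ⟨a, by rw [hσx, inv_mul_cancel_left]; exact hg₁, ?_, fun hd' => habp (dvd_mul_of_dvd_left hd' b), ?_⟩
  · obtain ⟨q, hq⟩ := hba
    have hyp : y ^ (p : ℤ) ∈ lc G 1 := by
      rw [zpow_natCast]
      have := Subgroup.pow_index_mem ((lc G 1).subgroupOf (big G)) ⟨y, hy⟩
      rw [hB1, Subgroup.mem_subgroupOf, SubgroupClass.coe_pow] at this
      exact this
    rw [hσy, show b = a * a + (p : ℤ) * q by linarith, zpow_add, mul_assoc, inv_mul_cancel_left, zpow_mul]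
    exact mul_mem (zpow_mem hyp q) ht
  · intro z hzc
    rw [← h.lc_three_eq] at hzc
    obtain ⟨i, rfl⟩ := hzgen z hzc
    rw [map_zpow, hσz, ← zpow_mul, ← zpow_mul]
    refine zpow_congr_mod (hzpow _ hz3) ?_
    obtain ⟨q, hq⟩ := hba
    exact ⟨a * a * a * i * q, by linear_combination (a * a * a * i) * hq⟩

end MaxFive

end CfsgLib.Fsys.OrderPFive
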