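import Cfsg.Agent.Lib.FusionSystem.OrderPFive.Fusion
import Cfsg.Agent.Lib.Solvable.FrattiniFitting

/-!
Extending automorphisms along normalizer towers: invariant lines and series with steps of index `p`.
-/

set_option autoImplicit false
set_option linter.unusedSectionVars false
set_option linter.style.haveILetI false

open Cfsg Cfsg.FusionSystem
open CfsgLib.Fsys.CentralIndex (Zc mem_Zc mem_Zc_iff_center exists_zpow_eq shift_zpow)
open scoped commutatorElement

namespace CfsgLib.Fsys.OrderPFive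

variable {Ω : Type*} [Group Ω] {S : Subgroup Ω} [Finite S] {p : ℕ} [hp : Fact p.Prime]
  {F : FusionSystem S}

/-- Between two normal subgroups there is a normal subgroup one step above the smaller. -/
theorem exists_normal_step (hS : IsPGroup p S) {A B : Subgroup Ω} (hBS : B ≤ S) (hAB : A < B)
    (hAn : ∀ s ∈ S, ∀ a ∈ A, s * a * s⁻¹ ∈ A) (hBn : ∀ s ∈ S, ∀ b ∈ B, s * b * s⁻¹ ∈ B) :
    ∃ K : Subgroup Ω, A ≤ K ∧ K ≤ B ∧ Nat.card K = p * Nat.card A ∧ (∀ s ∈ S, ∀ k ∈ K, s * k * s⁻¹ ∈ K) ∧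
      ∀ k ∈ K, ∀ s ∈ S, k⁻¹ * (s * k * s⁻¹) ∈ A := by
  set A' := A.subgroupOf S
  haveI : A'.Normal := ⟨fun a ha s => by
    rw [Subgroup.mem_subgroupOf] at ha ⊢
    simpa using hAn s s.2 _ ha⟩
  haveI hBn' : (B.subgroupOf S).Normal := ⟨fun a ha s => by
    rw [Subgroup.mem_subgroupOf] at ha ⊢
    simpa using hBn s s.2 _ ha⟩
  obtain ⟨b, hb, hbA⟩ := SetLike.exists_of_lt hAB
  let π := QuotientGroup.mk' A'
  have hQ : IsPGroup p (S ⧸ A') := hS.to_quotient _
  set B' := (B.subgroupOf S).map π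
  haveI : B'.Normal := hBn'.map π (QuotientGroup.mk'_surjective _)
  have hB' : B' ≠ ⊥ := fun e => hbA (by
    have h1 : π ⟨b, hBS hb⟩ ∈ B' := Subgroup.mem_map_of_mem _ (Subgroup.mem_subgroupOf.2 hb)
    rw [e, Subgroup.mem_bot] at h1
    exact Subgroup.mem_subgroupOf.1 ((QuotientGroup.eq_one_iff _).1 h1))
  haveI := hQ.isNilpotent
  obtain ⟨z, hzB, hzc, hz1, hzp⟩ : ∃ z : S ⧸ A', z ∈ B' ∧ z ∈ Subgroup.center (S ⧸ A') ∧ z ≠ 1 ∧ z ^ p = 1 := by
    set C := B' ⊓ Subgroup.center (S ⧸ A')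
    haveI : Nontrivial C := (Subgroup.nontrivial_iff_ne_bot C).2 (CfsgLib.Solvable.FrattiniFitting.inf_center_ne_bot B' hB')
    obtain ⟨n, hn, hcard⟩ := (hQ.to_subgroup C).nontrivial_iff_card.1 inferInstance
    obtain ⟨w, hw⟩ := exists_prime_orderOf_dvd_card' (G := C) p (by rw [hcard]; exact dvd_pow_self p hn.ne')
    refine ⟨(w : S ⧸ A'), w.2.1, w.2.2, fun e => ?_, ?_⟩
    · rw [← Subgroup.orderOf_coe, e, orderOf_one] at hw
      exact hp.out.one_lt.ne hw
    · rw [← hw, ← Subgroup.orderOf_coe]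
      exact pow_orderOf_eq_one _
  set K' := (Subgroup.zpowers z).comap π
  refine ⟨K'.map S.subtype, fun a ha => ?_, ?_, ?_, ?_, ?_⟩
  · refine ⟨⟨a, hBS (hAB.le ha)⟩, ?_, rfl⟩
    show π _ ∈ Subgroup.zpowers z
    rw [show π ⟨a, hBS (hAB.le ha)⟩ = 1 from (QuotientGroup.eq_one_iff _).2 ha]
    exact one_mem _
  · rintro _ ⟨k, hk, rfl⟩
    have : π k ∈ B' := Subgroup.zpowers_le.2 hzB hk
    obtain ⟨b', hb', e⟩ := this
    have h1 : b'⁻¹ * k ∈ A' := QuotientGroup.eq.1 e
    have := B.mul_mem hb' (hAB.le h1)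
    simpa using this
  · rw [Subgroup.card_map_of_injective S.subtype_injective]
    have h1 := Subgroup.card_mul_index (A'.subgroupOf K')
    have hle : A' ≤ K' := fun a ha => by
      show π a ∈ Subgroup.zpowers z
      rw [show π a = 1 from (QuotientGroup.eq_one_iff _).2 ha]
      exact one_mem _
    rw [Nat.card_congr (Subgroup.subgroupOfEquivOfLe hle).toEquiv,
      show A'.subgroupOf K' = (π.comp K'.subtype).ker by
        ext u
        rw [MonoidHom.mem_ker, Subgroup.mem_subgroupOf]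
        exact (QuotientGroup.eq_one_iff (u : S)).symm,
      Subgroup.index_ker, MonoidHom.range_comp, Subgroup.range_subtype,
      Subgroup.map_comap_eq_self_of_surjective (QuotientGroup.mk'_surjective _), Nat.card_zpowers,
      orderOf_eq_prime hzp hz1] at h1
    rw [← h1, Nat.card_congr (Subgroup.subgroupOfEquivOfLe (hAB.le.trans hBS)).toEquiv, mul_comm]
  · rintro s hs _ ⟨k, hk, rfl⟩
    refine ⟨⟨s, hs⟩ * k * (⟨s, hs⟩ : S)⁻¹, ?_, by simp⟩
    show π _ ∈ Subgroup.zpowers z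
    have hkc : π k ∈ Subgroup.center (S ⧸ A') := Subgroup.zpowers_le.2 hzc hk
    rw [map_mul, map_mul, map_inv, Subgroup.mem_center_iff.1 hkc (π ⟨s, hs⟩), mul_inv_cancel_right]
    exact hk
  · rintro _ ⟨k, hk, rfl⟩ s hs
    have hkc : π k ∈ Subgroup.center (S ⧸ A') := Subgroup.zpowers_le.2 hzc hk
    have h1 : k⁻¹ * (⟨s, hs⟩ * k * (⟨s, hs⟩ : S)⁻¹) ∈ A' := QuotientGroup.eq.1 (by
      show π k = π _
      rw [map_mul, map_mul, map_inv, Subgroup.mem_center_iff.1 hkc (π ⟨s, hs⟩), mul_inv_cancel_right])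
    simpa [A', Subgroup.mem_subgroupOf] using h1

/-- A map fixing `L` cannot move the normal line `K` of `M / L` when the other lines are conjugates of `A`
that cannot be carried into `K`. -/
theorem line_fixed (hS : IsPGroup p S) {M A K L : Subgroup Ω} (hM : M ≤ S) (hLA : L ≤ A) (hLK : L ≤ K)
    (hAM : A ≤ M) (hKM : K ≤ M) (hMc : Nat.card M = p * Nat.card K) (hKc : Nat.card K = p * Nat.card L)
    (hAc : Nat.card A = Nat.card K) (hLn : ∀ m ∈ M, ∀ l ∈ L, m * l * m⁻¹ ∈ L)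
    (hKn : ∀ m ∈ M, ∀ k ∈ K, m * k * m⁻¹ ∈ K)
    {y : Ω} (hy : y ∈ normalizerIn S M) (hyL : ∀ l ∈ L, y * l * y⁻¹ ∈ L) (hyK : ∀ k ∈ K, y * k * y⁻¹ ∈ K)
    (hmove : ∃ a ∈ A, y * a * y⁻¹ ∉ A)
    {f : Ω → Ω} (hf : Fn F M f) (hfM : ∀ x ∈ M, f x ∈ M) (hfL : ∀ l ∈ L, f l ∈ L)
    (hno : ∀ g : Ω → Ω, Fn F A g → (∀ a ∈ A, g a ∈ K) → False) : ∀ k ∈ K, f k ∈ K := by
  by_contra hne
  push Not at hne
  obtain ⟨k₀, hk₀, hx⟩ := hne
  haveI := finite_of_le_base hM
  haveI := finite_of_le_base (hKM.trans hM)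
  haveI := finite_of_le_base (hAM.trans hM)
  haveI := finite_of_le_base (hLA.trans (hAM.trans hM))
  set L' := L.subgroupOf M
  haveI : L'.Normal := ⟨fun a ha m => by
    rw [Subgroup.mem_subgroupOf] at ha ⊢
    simpa using hLn m m.2 _ ha⟩
  let π : M →* M ⧸ L' := QuotientGroup.mk' L'
  have hπ : ∀ {u v : M}, π u = π v ↔ (u : Ω)⁻¹ * v ∈ L := fun {u v} => by
    rw [QuotientGroup.mk'_apply, QuotientGroup.mk'_apply, QuotientGroup.eq, Subgroup.mem_subgroupOf]
    simp
  set Y := conjAut M hy.2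
  have hYL : L'.map (Y : M →* M) = L' := by
    refine Subgroup.eq_of_le_of_card_ge ?_ (le_of_eq (Subgroup.card_map_of_injective Y.injective).symm)
    rintro _ ⟨u, hu, rfl⟩
    exact Subgroup.mem_subgroupOf.2 (hyL _ hu)
  let q : MulAut (M ⧸ L') := QuotientGroup.congr L' L' Y hYL
  have hq : ∀ u : M, q (π u) = π (Y u) := fun u => rfl
  obtain ⟨a, ha, hay⟩ := hmove
  let aM : M := ⟨a, hAM ha⟩
  have hsK : a⁻¹ * (y * a * y⁻¹) ∈ K := shift_step hS hM le_rfl hKM hMc.le hKn hy hyK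
    (fun m hm => (Subgroup.mem_normalizer_iff.1 hy.2 m).1 hm) (hAM ha)
  let kM : M := ⟨_, hKM hsK⟩
  have hkL : (kM : Ω) ∉ L := fun hh => hay (by
    have := A.mul_mem ha (hLA hh)
    rwa [mul_inv_cancel_left] at this)
  have haK : a ∉ K := fun hh => by
    -- then `A ≤ K` and so `A = K`, which `y` fixes
    have hsub : A ≤ K := by
      have h1 : Subgroup.zpowers a ⊔ L ≤ A := sup_le (Subgroup.zpowers_le.2 ha) hLA
      have h2 : Subgroup.zpowers a ⊔ L ≤ K := sup_le (Subgroup.zpowers_le.2 hh) hLK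
      by_cases haL : a ∈ L
      · exact absurd (hLA (hyL a haL)) hay
      have h3 : p * Nat.card L ≤ Nat.card (Subgroup.zpowers a ⊔ L : Subgroup Ω) := by
        haveI := finite_of_le_base (h1.trans (hAM.trans hM))
        obtain ⟨i, hi⟩ := IsPGroup.iff_card.1 (hS.to_le (h1.trans (hAM.trans hM)))
        obtain ⟨j, hj⟩ := IsPGroup.iff_card.1 (hS.to_le (hLA.trans (hAM.trans hM)))
        have hlt : Nat.card L < Nat.card (Subgroup.zpowers a ⊔ L : Subgroup Ω) :=
          lt_of_le_of_ne (Subgroup.card_le_of_le le_sup_right) fun e => haL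
            ((Subgroup.eq_of_le_of_card_ge le_sup_right e.ge).ge (Subgroup.mem_sup_left (Subgroup.mem_zpowers a)))
        rw [hi, hj, ← pow_succ']
        rw [hi, hj] at hlt
        exact Nat.pow_le_pow_right hp.out.pos ((Nat.pow_lt_pow_iff_right hp.out.one_lt).1 hlt)
      intro z hz
      have e : Subgroup.zpowers a ⊔ L = A := Subgroup.eq_of_le_of_card_ge h1 (by rw [hAc, hKc]; exact h3)
      exact h2 (e.symm ▸ hz)
    exact hay ((Subgroup.eq_of_le_of_card_ge hsub hAc.ge).ge (hyK a (hsub ha)))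
  -- `q` fixes the class of `K` and shifts that of `a`
  have hshiftK : ∀ u : M, (u : Ω) ∈ K → q (π u) = π u := fun u hu => by
    rw [hq]
    exact (hπ.2 (shift_step hS hM hKM hLK hKc.le hLn hy hyL hyK hu)).symm
  have hqa : q (π aM) = π aM * π kM := by
    rw [hq, ← map_mul]
    congr 1
    exact Subtype.ext (by simp [Y, aM, kM, mul_assoc])
  -- decomposition
  have hKq : ∀ u : M, (u : Ω) ∈ K → π u ∈ Subgroup.zpowers (π kM) := by
    intro u hu
    haveI : (L.subgroupOf K).Normal := ⟨fun l hl k => by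
      rw [Subgroup.mem_subgroupOf] at hl ⊢
      simpa using hLn k (hKM k.2) _ hl⟩
    have hidx : (L.subgroupOf K).index = p := by
      have := Subgroup.card_mul_index (L.subgroupOf K)
      rw [Nat.card_congr (Subgroup.subgroupOfEquivOfLe hLK).toEquiv, hKc, mul_comm p] at this
      exact Nat.eq_of_mul_eq_mul_left Nat.card_pos this
    obtain ⟨i, hi⟩ := exists_zpow_shift hidx (y := ⟨(kM : Ω), hsK⟩) (fun hh => hkL hh) ⟨(u : Ω), hu⟩
    exact ⟨i, by
      show π kM ^ i = π u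
      rw [← map_zpow]
      exact hπ.2 (by simpa [Subgroup.mem_subgroupOf] using hi)⟩
  haveI : (K.subgroupOf M).Normal := ⟨fun l hl k => by
    rw [Subgroup.mem_subgroupOf] at hl ⊢
    simpa using hKn k k.2 _ hl⟩
  have hMidx : (K.subgroupOf M).index = p := by
    have := Subgroup.card_mul_index (K.subgroupOf M)
    rw [Nat.card_congr (Subgroup.subgroupOfEquivOfLe hKM).toEquiv, hMc, mul_comm p] at this
    exact Nat.eq_of_mul_eq_mul_left Nat.card_pos this
  let xM : M := ⟨f k₀, hfM _ (hKM hk₀)⟩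
  obtain ⟨i, hi⟩ := exists_zpow_shift hMidx (y := aM) haK xM
  obtain ⟨j, hj⟩ := Subgroup.mem_zpowers_iff.1 (hKq _ (Subgroup.mem_subgroupOf.1 hi))
  have hip : ¬ (p : ℤ) ∣ i := by
    rintro ⟨c, rfl⟩
    refine hx ?_
    have h1 : ((aM ^ (p : ℤ) : M) : Ω) ∈ K := by
      have h2 : aM ^ p ∈ K.subgroupOf M := by
        rw [← hMidx]
        exact Subgroup.pow_index_mem _ _
      rw [zpow_natCast]
      exact h2
    have h3 := K.mul_mem (K.zpow_mem h1 c) (Subgroup.mem_subgroupOf.1 hi)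
    rwa [← SubgroupClass.coe_zpow, ← zpow_mul, ← Subgroup.coe_mul, mul_inv_cancel_left] at h3
  have hkp : π kM ^ p = 1 := by
    have hidx : (L.subgroupOf K).index = p := by
      have := Subgroup.card_mul_index (L.subgroupOf K)
      rw [Nat.card_congr (Subgroup.subgroupOfEquivOfLe hLK).toEquiv, hKc, mul_comm p] at this
      exact Nat.eq_of_mul_eq_mul_left Nat.card_pos this
    haveI : (L.subgroupOf K).Normal := ⟨fun l hl k => by
      rw [Subgroup.mem_subgroupOf] at hl ⊢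
      simpa using hLn k (hKM k.2) _ hl⟩
    rw [← map_pow]
    refine (QuotientGroup.eq_one_iff _).2 (Subgroup.mem_subgroupOf.2 ?_)
    have h2 : (⟨(kM : Ω), hsK⟩ : K) ^ (L.subgroupOf K).index ∈ L.subgroupOf K := Subgroup.pow_index_mem _ _
    rw [hidx, Subgroup.mem_subgroupOf, SubgroupClass.coe_pow] at h2
    rw [SubgroupClass.coe_pow]
    exact h2
  obtain ⟨i', hi'⟩ := exists_intInv hip
  set m : ℤ := i' * j
  have hqm : (q ^ m) (π (aM ^ i)) = π xM := by
    have h1 : (q ^ m) (π aM) = π aM * π kM ^ m := shift_zpow hqa (hshiftK kM hsK) m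
    have hcom : Commute (π aM) (π kM ^ m) := by
      refine Commute.zpow_right ?_ m
      -- `M / L` has order `p ^ 2`
      have hcard : Nat.card (M ⧸ L') = p ^ 2 := by
        have h3 := Subgroup.card_mul_index L'
        rw [Subgroup.index_eq_card, Nat.card_congr (Subgroup.subgroupOfEquivOfLe (hLK.trans hKM)).toEquiv,
          hMc, hKc, show p * (p * Nat.card L) = Nat.card L * p ^ 2 by ring] at h3
        exact Nat.eq_of_mul_eq_mul_left Nat.card_pos h3
      exact (IsPGroup.isMulCommutative_of_card_eq_prime_sq hcard).1.1 _ _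
    rw [map_zpow π aM i, map_zpow, h1, hcom.mul_zpow, ← zpow_mul,
      zpow_congr_mod hkp (i := m * i) (j := j) (by
        obtain ⟨c, hc⟩ := hi'
        exact ⟨c * j, by simp only [m]; linear_combination j * hc⟩),
      hj, map_mul, map_inv, map_zpow, mul_inv_cancel_left]
  have hiter : ∀ (n : ℤ) (u : M), (q ^ n) (π u) = π ((Y ^ n) u) := by
    have key : ∀ (n : ℕ) (u : M), (q ^ n) (π u) = π ((Y ^ n) u) := by
      intro n
      induction n with
      | zero => intro u; rfl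
      | succ n ih => intro u; rw [pow_succ', MulAut.mul_apply, ih, hq, pow_succ', MulAut.mul_apply]
    intro n u
    obtain ⟨n, rfl | rfl⟩ := Int.eq_nat_or_neg n
    · exact key n u
    · rw [zpow_neg, zpow_natCast, zpow_neg, zpow_natCast]
      apply (q ^ n).injective
      rw [MulAut.apply_inv_self, key, MulAut.apply_inv_self]
  rw [hiter] at hqm
  set b := y ^ m
  have hb : b ∈ normalizerIn S M := zpow_mem hy m
  have hYb : ∀ u : M, (((Y ^ m) u : M) : Ω) = b * u * b⁻¹ := fun u => by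
    simp only [Y, b, conjAut, ← map_zpow]
    rfl
  -- the image of `K` is the conjugate of `A` by `b`
  have hbL : ∀ l ∈ L, b * l * b⁻¹ ∈ L := by
    have : y ∈ Subgroup.normalizer (L : Set Ω) := mem_normalizer_of_map_le hyL
    exact fun l hl => (Subgroup.mem_normalizer_iff.1 (zpow_mem this m) l).1 hl
  obtain ⟨g, hg, hgf⟩ : ∃ g, Fn F (img f K) g ∧ ∀ k ∈ K, g (f k) = k := by
    obtain ⟨g, hg, hgf, -⟩ := (hf.mono hKM).exists_inv
    exact ⟨g, hg, hgf⟩
  have himgeq : ∀ c ∈ A, b * c * b⁻¹ ∈ img f K := by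
    haveI := finite_of_le_base ((hf.mono hKM).img_le_base)
    set C := A.map (MulAut.conj b).toMonoidHom
    have hCc : Nat.card C = Nat.card A := Subgroup.card_map_of_injective (MulEquiv.injective _)
    have hxC : f k₀ ∈ C := by
      have h1 : ((Y ^ m) (aM ^ i) : Ω)⁻¹ * f k₀ ∈ L := hπ.1 hqm
      have h2 : ((Y ^ m) (aM ^ i) : Ω) ∈ C := ⟨a ^ i, A.zpow_mem ha i, by
        rw [hYb, SubgroupClass.coe_zpow]; rfl⟩
      have h3 : ((Y ^ m) (aM ^ i) : Ω)⁻¹ * f k₀ ∈ C := by
        refine ⟨b⁻¹ * ((((Y ^ m) (aM ^ i) : M) : Ω)⁻¹ * f k₀) * b, hLA ?_, by simp [mul_assoc]⟩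
        have : b⁻¹ ∈ Subgroup.normalizer (L : Set Ω) := inv_mem (mem_normalizer_of_map_le hbL)
        simpa using (Subgroup.mem_normalizer_iff.1 this _).1 h1
      simpa using C.mul_mem h2 h3
    have hLimg : L ≤ img f K := by
      have := (hf.mono (hLK.trans hKM)).img_eq_self hfL
      exact this.ge.trans (img_mono hLK)
    have hLC : L ≤ C := fun l hl => by
      refine ⟨b⁻¹ * l * b, hLA ?_, by simp [mul_assoc]⟩
      have : b⁻¹ ∈ Subgroup.normalizer (L : Set Ω) := inv_mem (mem_normalizer_of_map_le hbL)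
      simpa using (Subgroup.mem_normalizer_iff.1 this _).1 hl
    have hJ1 : Subgroup.zpowers (f k₀) ⊔ L ≤ img f K := sup_le (Subgroup.zpowers_le.2 (mem_img_of_mem hk₀)) hLimg
    have hJ2 : Subgroup.zpowers (f k₀) ⊔ L ≤ C := sup_le (Subgroup.zpowers_le.2 hxC) hLC
    haveI := finite_of_le_base (hJ1.trans ((hf.mono hKM).img_le_base))
    have hJc : Nat.card C ≤ Nat.card (Subgroup.zpowers (f k₀) ⊔ L : Subgroup Ω) := by
      rw [hCc, hAc, hKc]
      obtain ⟨i₁, hi₁⟩ := IsPGroup.iff_card.1 (hS.to_le (hJ1.trans ((hf.mono hKM).img_le_base)))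
      obtain ⟨j₁, hj₁⟩ := IsPGroup.iff_card.1 (hS.to_le (hLA.trans (hAM.trans hM)))
      have hlt : Nat.card L < Nat.card (Subgroup.zpowers (f k₀) ⊔ L : Subgroup Ω) :=
        lt_of_le_of_ne (Subgroup.card_le_of_le le_sup_right) fun e => hx (hLK
          ((Subgroup.eq_of_le_of_card_ge le_sup_right e.ge).ge (Subgroup.mem_sup_left (Subgroup.mem_zpowers _))))
      rw [hi₁, hj₁, ← pow_succ']
      rw [hi₁, hj₁] at hlt
      exact Nat.pow_le_pow_right hp.out.pos ((Nat.pow_lt_pow_iff_right hp.out.one_lt).1 hlt)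
    haveI : Finite C := Nat.finite_of_card_ne_zero (by rw [hCc]; exact Nat.card_pos.ne')
    intro c hc
    exact hJ1 ((Subgroup.eq_of_le_of_card_ge hJ2 hJc).ge ⟨c, hc, rfl⟩)
  refine hno (g ∘ fun c => b * c * b⁻¹) ((fn_conj (hAM.trans hM) hb.1).comp hg himgeq) fun c hc => ?_
  obtain ⟨k, hk, hke⟩ := (hf.mono hKM).mem_img.1 (himgeq c hc)
  show g (b * c * b⁻¹) ∈ K
  rw [← hke, hgf k hk]
  exact hk

/-- A map stabilising a series with steps of index at most `p`, each normal in the normalizer, extends. -/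
theorem ext_of_series (h : Five p F) {M : Subgroup Ω} (hM : F.IsFullyNormalized M) {f : Ω → Ω}
    (hf : Fn F M f) (D : ℕ → Subgroup Ω) (m : ℕ) (h0 : D 0 = M) (hm : D m = ⊥) (hle : ∀ k, D k ≤ M)
    (hinv : ∀ k, k ≤ m → ∀ x ∈ D k, f x ∈ D k) (hanti : ∀ k, k < m → D (k + 1) ≤ D k)
    (hn : ∀ k, k ≤ m → ∀ y ∈ normalizerIn S M, ∀ x ∈ D k, y * x * y⁻¹ ∈ D k)
    (hcard : ∀ k, k < m → Nat.card (D k) ≤ p * Nat.card (D (k + 1))) :
    ∃ g : Ω → Ω, Fn F (normalizerIn S M) g ∧ (∀ y ∈ normalizerIn S M, g y ∈ normalizerIn S M) ∧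
      ∀ x ∈ M, g x = f x := by
  refine extend_chain h.hS h.hF hM hf (fun x hx => ?_) D m h0 hm hle hinv (fun y hy k hk x hx => ?_) hanti
  · have := hinv 0 (Nat.zero_le m) x (by rwa [h0])
    rwa [h0] at this
  · exact shift_step h.hS hM.1 (hle k) (hanti k hk) (hcard k hk)
      (fun m' hm' a ha => hn (k + 1) hk m' ⟨hM.1 hm', Subgroup.le_normalizer hm'⟩ a ha) hy (hn (k + 1) hk y hy)
      (hn k hk.le y hy) hx

/-- A normal subgroup of `S` is fully normalized. -/
theorem fullyNormalized_of_normal {M : Subgroup Ω} (hM : M ≤ S) (hn : ∀ s ∈ S, ∀ x ∈ M, s * x * s⁻¹ ∈ M) :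
    F.IsFullyNormalized M ∧ normalizerIn S M = S := by
  haveI := finite_of_le_base hM
  have e : normalizerIn S M = S := le_antisymm normalizerIn_le fun s hs =>
    ⟨hs, mem_normalizer_of_map_le (hn s hs)⟩
  refine ⟨⟨hM, fun Q _ => ?_⟩, e⟩
  rw [e]
  exact Subgroup.card_le_of_le normalizerIn_le

/-- Extension from an essential subgroup of order `p ^ 3` to `S`. -/
theorem ext_cube (h : Five p F) {E L Z₀ : Subgroup Ω} (hE : F.IsEssential p E) (hEc : Nat.card E = p ^ 3)
    (hNc : Nat.card (normalizerIn S E) = p ^ 4) (hLE : L ≤ E) (hLc : Nat.card L = p ^ 2)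
    (hLn : ∀ s ∈ S, ∀ l ∈ L, s * l * s⁻¹ ∈ L) (hZL : Z₀ ≤ L) (hZ : Z₀ ≤ Zc S) (hZc : p ≤ Nat.card Z₀)
    {α : MulAut E} (hα : α ∈ F.autGroup E) (hαL : ∀ x ∈ L, autFn α x ∈ L) (hαZ : ∀ x ∈ Z₀, autFn α x ∈ Z₀) :
    ∃ β ∈ F.autGroup S, ∀ x ∈ E, autFn β x = autFn α x := by
  haveI := finite_of_le_base hE.1.1
  have hES := hE.1.1
  set N := normalizerIn S E with hN
  have hEN : E ≤ N := le_normalizerIn hES
  have hNS : N ≤ S := normalizerIn_le
  haveI := finite_of_le_base hNS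
  have hLS := hLE.trans hES
  have hZn : ∀ s ∈ S, ∀ z ∈ Z₀, s * z * s⁻¹ ∈ Z₀ := fun s hs z hz => by
    rwa [(mem_Zc.1 (hZ hz)).2 s hs, mul_inv_cancel_right]
  haveI := finite_of_le_base (hZL.trans hLS)
  have hLZ : Nat.card L ≤ p * Nat.card Z₀ := by rw [hLc, sq]; exact Nat.mul_le_mul_left p hZc
  -- a series below `L`
  obtain ⟨D₂, hD2L, hD2Z, hD2n, hD2c, hD2b, hD2α⟩ : ∃ D₂ : Subgroup Ω, D₂ ≤ L ∧ D₂ ≤ Zc S ∧
      (∀ s ∈ S, ∀ z ∈ D₂, s * z * s⁻¹ ∈ D₂) ∧ Nat.card L ≤ p * Nat.card D₂ ∧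
      (∀ s ∈ S, ∀ z ∈ D₂, z⁻¹ * (s * z * s⁻¹) ∈ (⊥ : Subgroup Ω)) ∧ ∀ x ∈ D₂, autFn α x ∈ D₂ :=
    ⟨Z₀, hZL, hZ, hZn, hLZ, fun s hs z hz => by
      rw [(mem_Zc.1 (hZ hz)).2 s hs, mul_inv_cancel_right, inv_mul_cancel]; exact one_mem _, hαZ⟩
  have hf := (mem_autGroup_iff_fn hES).1 hα
  have hfE : ∀ x ∈ E, autFn α x ∈ E := fun x hx => autFn_mem α hx
  have hNn : ∀ y ∈ N, ∀ x ∈ E, y * x * y⁻¹ ∈ E := fun y hy x hx => (Subgroup.mem_normalizer_iff.1 hy.2 x).1 hx
  -- first stage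
  obtain ⟨g, hg, hgN, hge⟩ := extend_chain h.hS h.hF hE.2.1 hf hfE
    (fun k => if k = 0 then E else if k = 1 then L else if k = 2 then D₂ else ⊥) 3 rfl rfl
    (fun k => by split_ifs <;> [exact le_rfl; exact hLE; exact hD2L.trans hLE; exact bot_le])
    (fun k hk => by
      interval_cases k
      · simpa using hfE
      · simpa using hαL
      · simpa using hD2α
      · intro x hx; simp at hx; subst hx; simp [hf.map_one])
    (fun y hy k hk x hx => by
      interval_cases k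
      · simp only [↓reduceIte] at hx
        simpa using shift_step h.hS hES le_rfl hLE (by rw [hEc, hLc, ← pow_succ'])
          (fun m hm l hl => hLn m (hES hm) l hl) hy (hLn y hy.1) (hNn y hy) hx
      · simp only [one_ne_zero, ↓reduceIte] at hx
        simpa using shift_step h.hS hES hLE hD2L hD2c (fun m hm l hl => hD2n m (hES hm) l hl) hy (hD2n y hy.1)
          (hLn y hy.1) hx
      · simp at hx
        simpa using hD2b y hy.1 x hx)
    (fun k hk => by
      interval_cases k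
      · simpa using hLE
      · simpa using hD2L
      · simp)
  -- the normal line above `L`
  have hNn' : ∀ s ∈ S, ∀ x ∈ N, s * x * s⁻¹ ∈ N := by
    intro s hs x hx
    haveI : (N.subgroupOf S).Normal := by
      refine Subgroup.normal_of_index_eq_minFac_card ?_
      rw [h.card, hp.out.pow_minFac (by norm_num)]
      have := Subgroup.card_mul_index (N.subgroupOf S)
      rw [Nat.card_congr (Subgroup.subgroupOfEquivOfLe hNS).toEquiv, hNc, h.card, pow_succ p 4] at this
      exact Nat.eq_of_mul_eq_mul_left (pow_pos hp.out.pos 4) this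
    have := ‹(N.subgroupOf S).Normal›.conj_mem ⟨x, hNS hx⟩ hx ⟨s, hs⟩
    simpa [Subgroup.mem_subgroupOf] using this
  have hLN : L < N := lt_of_le_of_ne (hLE.trans hEN) fun e => by
    rw [← e, hLc] at hNc
    exact absurd (Nat.pow_right_injective hp.out.two_le hNc) (by norm_num)
  obtain ⟨K, hLK, hKN, hKc, hKn, -⟩ := exists_normal_step h.hS hNS hLN hLn hNn'
  rw [hLc] at hKc
  obtain ⟨y, hyS, hyN⟩ : ∃ y ∈ S, y ∉ N := by
    by_contra hno
    push Not at hno
    have := le_antisymm hNS hno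
    rw [this, h.card] at hNc
    exact absurd (Nat.pow_right_injective hp.out.two_le hNc) (by norm_num)
  have hKpres : ∀ k ∈ K, g k ∈ K := by
    refine line_fixed h.hS hNS hLE hLK hEN hKN (by rw [hNc, hKc]; ring) (by rw [hKc, hLc])
      (by rw [hEc, hKc]; ring) (fun m hm => hLn m (hNS hm)) (fun m hm => hKn m (hNS hm))
      ⟨hyS, mem_normalizer_of_map_le (hNn' y hyS)⟩ (hLn y hyS) (hKn y hyS) ?_ hg hgN
      (fun l hl => by rw [hge l (hLE hl)]; exact hαL l hl) ?_
    · by_contra hno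
      push Not at hno
      exact hyN ⟨hyS, mem_normalizer_of_map_le hno⟩
    · intro u hu huK
      have hc : F.IsConj E (img u E) := isConj_of_fn hu
      have hle : img u E ≤ K := img_le huK
      haveI := finite_of_le_base (hKN.trans hNS)
      have heq : img u E = K := Subgroup.eq_of_le_of_card_ge hle (by rw [hu.card_img, hEc, hKc]; ring_nf; rfl)
      have := hE.2.1.2 _ hc
      rw [heq, (fullyNormalized_of_normal (F := F) (hKN.trans hNS) hKn).2, h.card, hNc] at this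
      exact absurd ((Nat.pow_le_pow_iff_right hp.out.one_lt).1 this) (by norm_num)
  -- second stage
  obtain ⟨hNfn, hNeq⟩ := fullyNormalized_of_normal (F := F) hNS hNn'
  obtain ⟨g', hg', hg'S, hg'e⟩ := extend_chain h.hS h.hF hNfn hg hgN
    (fun k => if k = 0 then N else if k = 1 then K else if k = 2 then L else if k = 3 then D₂ else ⊥) 4 rfl rfl
    (fun k => by
      split_ifs <;> [exact le_rfl; exact hKN; exact hLE.trans hEN; exact (hD2L.trans hLE).trans hEN; exact bot_le])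
    (fun k hk => by
      interval_cases k
      · simpa using hgN
      · simpa using hKpres
      · intro x hx; simp at hx ⊢; rw [hge x (hLE hx)]; exact hαL x hx
      · intro x hx; simp at hx ⊢; rw [hge x (hLE (hD2L hx))]; exact hD2α x hx
      · intro x hx; simp at hx; subst hx; simp [hg.map_one])
    (fun y hy k hk x hx => by
      interval_cases k
      · simp only [↓reduceIte] at hx
        simpa using shift_step h.hS hNS le_rfl hKN (by rw [hNc, hKc, pow_succ' p 3, pow_succ' p 2])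
          (fun m hm => hKn m (hNS hm)) hy (hKn y hy.1) (hNn' y hy.1) hx
      · simp only [one_ne_zero, ↓reduceIte] at hx
        simpa using shift_step h.hS hNS hKN hLK (by rw [hKc, hLc])
          (fun m hm => hLn m (hNS hm)) hy (hLn y hy.1) (hKn y hy.1) hx
      · simp at hx
        simpa using shift_step h.hS hNS (hLE.trans hEN) hD2L hD2c
          (fun m hm => hD2n m (hNS hm)) hy (hD2n y hy.1) (hLn y hy.1) hx
      · simp at hx
        simpa using hD2b y hy.1 x hx)
    (fun k hk => by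
      interval_cases k
      · simpa using hKN
      · simpa using hLK
      · simpa using hD2L
      · simp)
  rw [hNeq] at hg' hg'S
  obtain ⟨β, hβ, hβg⟩ := exists_aut_of_fn hg' (hg'.img_eq_self hg'S)
  refine ⟨β, hβ, fun x hx => ?_⟩
  have h1 := hβg ⟨x, hES hx⟩
  rw [← autFn_coe β ⟨x, hES hx⟩] at h1
  rw [h1, hg'e x (hEN hx), hge x hx]

end CfsgLib.Fsys.OrderPFive
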